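import Cfsg.Agent.Omega.OM.Lev.Low.YNat

/-!
# `YB` for a parabolic of natural type at a level

`(T, H)` with `GE T H X AA`, `BZ T X AA B ZJ`, `NatKM`.

* `chain_line` : the stabiliser of the `i`-th summand acts on the `i`-th line as a cyclic group;
* `exists_ld` : the input `LD`;
* `exists_yb` : **`YB T ZJ N c`, and `⟨T, ..⟩`-data: `zc T ≰ N i` for some `i`.**
-/

set_option autoImplicit false
set_option linter.unusedSectionVars false

namespace Cfsg.Agent.Omega.OM.Lev.Low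

open Subgroup Cfsg Cfsg.Agent.ZN Cfsg.Agent.ZN.ChoiceBase Cfsg.Agent.ZN.ChoiceSit
open Cfsg.Agent.Omega.NatPair (ap ap_zero' ap_one' ap_one ap_mul ext2 ap_inv_ap ap_inj)
open Cfsg.Agent.Lib.SL2Mat
open Cfsg.Agent.Omega.SQ1.FFOne (MinH)
open Cfsg.Agent.Omega.NO3S.OneLine (NatC single_acts natC_of zc_elem)
open Cfsg.Agent.Omega.NO3S.OneLine.NatC (acts_mul acts_inv acts_one acts_unique)
open Cfsg.Agent.Omega.OM.Lev.Nat (Wn mem_Wn Xn mem_Xn ap_z exists_up)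
open Cfsg.Agent.Omega.OM.GNat (sl2_all line_le exists_root exists_nxi)
open Cfsg.Agent.Omega.OM.GLev
open Cfsg.Agent.Omega.FFThm (NatK NatKM ActsSL)
open Cfsg.Agent.Omega.SQ1.Bau (elem_comm elem_sq)
open Cfsg.Agent.Omega.NO3S.ThmB (Nb Fx Pf)
open Cfsg.Agent.Omega.NO3S.ThmB.Nb (Rel rel_one rel_uniq)
open Cfsg.Agent.Omega.FrameFF (cv)

universe u

variable {G : Type u} [Group G] [Finite G] {F : Type} [Field F] {T H : Subgroup G} {k : ℕ}

section nb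

variable (hm : MinH H T) (N : NatKM F T H (zl T H) (cv T H) k) (hk : 0 < k)
include hm N hk

theorem nb [CharP F 2] : Nb N := by
  set M := natC_of hm hk N.toNatK with hM
  have hV2 : IsElementaryAbelian 2 (zl T H) :=
    PLocal.OffenderStep.isElementaryAbelian_of_comm (fun x hx y hy => M.Vcomm hx hy) M.Vsq
  refine ⟨hm.syl.1, hV2, MinSimple.VModule.le_normalizer_zl T H, M.DV, fun g hg => ?_, fun g hg h1 h2 v hv => ?_⟩
  · rw [mem_normalizer_iff]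
    refine fun x => ⟨M.Dn g hg x, fun hx => ?_⟩
    have h1 := M.Dn g⁻¹ (inv_mem hg) _ hx
    have e : g⁻¹ * (g * x * g⁻¹) * g⁻¹⁻¹ = x := by group
    rwa [e] at h1
  · refine M.cent_of_stab hm (x := g) ⟨hg, fun v hv i => ?_, h2⟩ hv
    have h3 : M.nat.e (g * v * g⁻¹) = M.nat.e v := h1 v hv
    rw [h3, Pi.one_apply, ap_one]

/-- `Fx` from `MvI` -/
theorem fx_of {i : Fin k} {s : G} (hs : s ∈ T) (h : MvI (natC_of hm hk N.toNatK) s i i) : Fx N i s := by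
  have hTH := hm.syl.1
  refine ⟨hTH hs, fun v hv h0 => (h v hv).2 h0, fun v hv h0 l hl => ?_, fun v hv h0 => (h.line hTH hs hv).2 h0⟩
  exact (h.Wn (hTH hs) ⟨hv, h0⟩).2 l hl

/-- **the stabiliser of the `i`-th summand acts on the line as a cyclic group** -/
theorem chain_line [Finite F] [CharP F 2] {i : Fin k} {s t : G} (hs : s ∈ T)
    (hsm : MvI (natC_of hm hk N.toNatK) s i i) (ht : t ∈ T) (htm : MvI (natC_of hm hk N.toNatK) t i i) :
    ∃ n : ℕ, (∀ x : F, Pf N i (s * t ^ n) ![x, 0] 0 = x) ∨ ∀ x : F, Pf N i (t * s ^ n) ![x, 0] 0 = x := by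
  have h := nb hm N hk
  have hTH := hm.syl.1
  set P : G → Prop := fun g => g ∈ T ∧ MvI (natC_of hm hk N.toNatK) g i i with hP
  have Pinv : ∀ {g}, P g → P g⁻¹ := fun {g} hg => ⟨inv_mem hg.1, hg.2.inv (hTH hg.1)⟩
  have Ppow : ∀ {g}, P g → ∀ n : ℕ, P (g ^ n) := fun {g} hg n => ⟨pow_mem hg.1 n, hg.2.pow (hTH hg.1) n⟩
  have Pmul : ∀ {g g'}, P g → P g' → P (g * g') := fun {g g'} hg hg' =>
    ⟨mul_mem hg.1 hg'.1, hg.2.mul (hTH hg'.1) hg'.2⟩
  have hfx : ∀ g, P g → Fx N i g := fun g hg => fx_of hm N hk hg.1 hg.2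
  have hp2 : ∀ g ∈ T, ∃ j : ℕ, g ^ 2 ^ j = 1 := fun g hg => by
    obtain ⟨j, hj⟩ := hm.syl.2.1 ⟨g, hg⟩
    exact ⟨j, by simpa using congrArg Subtype.val hj⟩
  have hrel : ∀ g, P g → ∃ c σ, c ≠ 0 ∧ Rel N i g c σ := fun g hg => by
    have f1 := hfx g hg
    have f2 := hfx g⁻¹ (Pinv hg)
    obtain ⟨σ, hσ⟩ := h.sem f1 f2
    refine ⟨h.hH f1 1, σ, fun e => ?_, fun x => ?_⟩
    · have := h.hH_inj f1 f2 (e.trans (map_zero _).symm)
      exact one_ne_zero this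
    · rw [h.hH_eq f1, hσ]
  have hpow : ∀ g, P g → ∀ c σ, Rel N i g c σ → ∀ n : ℕ, ∃ d, Rel N i (g ^ n) d (σ ^ n) := fun g hg c σ h1 n => by
    induction n with
    | zero => exact ⟨1, by rw [pow_zero, pow_zero]; exact rel_one⟩
    | succ n ih =>
      obtain ⟨d, hd⟩ := ih
      refine ⟨d * (σ ^ n) c, ?_⟩
      rw [pow_succ, pow_succ]
      exact h.rel_mul (hfx _ (Ppow hg n)) (hfx g hg) hd h1
  have hord : ∀ g, P g → ∀ c σ, Rel N i g c σ → ∃ j : ℕ, σ ^ 2 ^ j = 1 := fun g hg c σ h1 => by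
    obtain ⟨j, hj⟩ := hp2 g hg.1
    obtain ⟨d, hd⟩ := hpow g hg c σ h1 (2 ^ j)
    rw [hj] at hd
    exact ⟨j, (rel_uniq one_ne_zero rel_one hd).2.symm⟩
  have main : ∀ s, P s → ∀ t, P t → ∀ c σ d τ, Rel N i s c σ → Rel N i t d τ → σ ∈ zpowers τ →
      ∃ n : ℕ, ∀ x : F, Pf N i (s * t ^ n) ![x, 0] 0 = x := by
    intro s hs t ht c σ d τ h1 h2 h3
    obtain ⟨j, hj⟩ := hord t ht d τ h2
    have hfin : IsOfFinOrder τ := isOfFinOrder_iff_pow_eq_one.2 ⟨2 ^ j, Nat.pos_of_ne_zero (by positivity), hj⟩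
    have h4 : σ⁻¹ ∈ zpowers τ := inv_mem h3
    obtain ⟨n, hn⟩ := (hfin.mem_powers_iff_mem_zpowers.2 h4)
    refine ⟨n, fun x => ?_⟩
    have hn' : τ ^ n = σ⁻¹ := hn
    obtain ⟨d', hd'⟩ := hpow t ht d τ h2 n
    have h5 := h.rel_mul (hfx s hs) (hfx _ (Ppow ht n)) h1 hd'
    rw [hn', mul_inv_cancel] at h5
    have hu : P (s * t ^ n) := Pmul hs (Ppow ht n)
    obtain ⟨j', hj'⟩ := hp2 _ hu.1
    set u := s * t ^ n
    set c' := c * σ d'
    have h6 : ∀ m : ℕ, Rel N i (u ^ m) (c' ^ m) 1 := fun m => by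
      induction m with
      | zero => rw [pow_zero, pow_zero]; exact rel_one
      | succ m ih =>
        rw [pow_succ, pow_succ]
        have h7 := h.rel_mul (hfx _ (Ppow hu m)) (hfx u hu) ih h5
        rw [mul_one] at h7
        exact h7
    have h7 := h6 (2 ^ j')
    rw [hj'] at h7
    have h8 := (rel_uniq one_ne_zero rel_one h7).1
    have h9 := NO3S.ThmB.End.Auto.eq_one_of_pow h8.symm
    rw [h5 x, h9, one_mul]
    rfl
  obtain ⟨c, σ, -, h1⟩ := hrel s ⟨hs, hsm⟩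
  obtain ⟨d, τ, -, h2⟩ := hrel t ⟨ht, htm⟩
  rcases NO3S.ThmB.End.AutTwo.mem_or_mem' (hord s ⟨hs, hsm⟩ c σ h1) (hord t ⟨ht, htm⟩ d τ h2) with h3 | h3
  · obtain ⟨n, hn⟩ := main s ⟨hs, hsm⟩ t ⟨ht, htm⟩ c σ d τ h1 h2 h3
    exact ⟨n, Or.inl hn⟩
  · obtain ⟨n, hn⟩ := main t ⟨ht, htm⟩ s ⟨hs, hsm⟩ d τ c σ h2 h1 h3
    exact ⟨n, Or.inr hn⟩

/-- **the input `hcyc` of `LD.yb_aux`** -/
theorem cyc_line [Finite F] [CharP F 2] {i : Fin k} {s t : G} (hs : s ∈ T)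
    (hsm : MvI (natC_of hm hk N.toNatK) s i i) (ht : t ∈ T) (htm : MvI (natC_of hm hk N.toNatK) t i i) :
    ∃ n : ℕ, (∀ x ∈ Li (natC_of hm hk N.toNatK) i, s * t ^ n * x * (s * t ^ n)⁻¹ * x⁻¹ ∈ cv T H) ∨
        ∀ x ∈ Li (natC_of hm hk N.toNatK) i, t * s ^ n * x * (t * s ^ n)⁻¹ * x⁻¹ ∈ cv T H := by
  have h := nb hm N hk
  have hTH := hm.syl.1
  have fin : ∀ g ∈ T, MvI (natC_of hm hk N.toNatK) g i i → (∀ x : F, Pf N i g ![x, 0] 0 = x) →
      ∀ x ∈ Li (natC_of hm hk N.toNatK) i, g * x * g⁻¹ * x⁻¹ ∈ cv T H := by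
    intro g hg hgi h1 x hx
    have h2 := hgi.Li hTH hg hx
    refine Li_D (mul_mem h2 (inv_mem hx)) ?_
    rw [(natC_of hm hk N.toNatK).map_div h2.1 hx.1, Pi.sub_apply, Pi.sub_apply, sub_eq_zero]
    have h3 : N.e (g * x * g⁻¹) i = Pf N i g (N.e x i) := h.Pf_spec (fx_of hm N hk hg hgi) hx.1
    have h4 : N.e x i = ![N.e x i 0, 0] := ext2 rfl hx.2.2
    show N.e (g * x * g⁻¹) i 0 = N.e x i 0
    rw [h3, h4, h1]
    rfl
  obtain ⟨n, hn | hn⟩ := chain_line hm N hk hs hsm ht htm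
  · exact ⟨n, Or.inl (fin _ (mul_mem hs (pow_mem ht n))
      (hsm.mul (hTH (pow_mem ht n)) (htm.pow (hTH ht) n)) hn)⟩
  · exact ⟨n, Or.inr (fin _ (mul_mem ht (pow_mem hs n))
      (htm.mul (hTH (pow_mem hs n)) (hsm.pow (hTH hs) n)) hn)⟩

end nb

section inst

variable [Finite F] [CharP F 2] {X B ZJ : Subgroup G} {AA : Set (Subgroup G)}
  (h : GE T H X AA) (b : BZ T X AA B ZJ) (N : NatKM F T H (zl T H) (cv T H) k) (hk : 0 < k)
include h b N hk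

/-- an element of `V ∩ Z_J` lies in the product of the lines -/
theorem mem_line {A : Subgroup G} (hA : A ∈ AA) {j : Fin k}
    (hroot : ∀ c : F, ∃ a ∈ A, ActsSL N.e (zl T H) (cv T H) a (Pi.mulSingle j (up c)))
    (hTZ : T ≤ normalizer (ZJ : Set G)) {v : G} (hv : v ∈ zl T H) (hvZ : v ∈ ZJ) (i : Fin k) : N.e v i 1 = 0 := by
  set M := natC_of h.hm hk N.toNatK with hM
  have hTH := h.TH
  have key : ∀ w ∈ zl T H, w ∈ ZJ → N.e w j 1 = 0 := by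
    intro w hw hwZ
    obtain ⟨a, ha, ha1, -⟩ := hroot 1
    have h1 := ((b.mem_ZJ w).1 hwZ).2 A hA a ha
    have h2 := ha1 w hw j
    have h3 : a * w * a⁻¹ = w := by rw [h1]; group
    rw [h3, Pi.mulSingle_eq_same] at h2
    have h4 := congrFun h2 0
    rw [ap_zero'] at h4
    simpa using h4
  obtain ⟨t, ht, htr⟩ := N.trans i j
  have hmv : MvI M t i j := htr
  have h1 := key (t * v * t⁻¹) (M.Vn t (hTH ht) v hv) ((mem_normalizer_iff.1 (hTZ ht) v).1 hvZ)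
  exact (hmv.line hTH ht hv).1 h1

/-- **The input `LD`, with the block, for a summand with a root group in a member of the family.** -/
theorem ldb_of_root {A : Subgroup G} (hA : A ∈ AA) {j : Fin k}
    (hroot : ∀ c : F, ∃ a ∈ A, ActsSL N.e (zl T H) (cv T H) a (Pi.mulSingle j (up c))) :
    ∃ L, LD (natC_of h.hm hk N.toNatK) B ZJ L j ∧
    PB B L (Wn (natC_of h.hm hk N.toNatK) j) (Wn (natC_of h.hm hk N.toNatK) j ⊓ ZJ) (cv T H) (Nat.card F) ∧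
      H ≤ T ⊔ L ∧ ∀ l ∈ L, ∃ A, (natC_of h.hm hk N.toNatK).Acts l A := by
  classical
  obtain ⟨g, M', hM'⟩ := exists_nxi h b N hk hA hroot
  obtain ⟨L, hBL, hLX, hPB, hcov⟩ := M'.exists_pb
  set M := natC_of h.hm hk N.toNatK with hM
  have hTH := h.TH
  have hTB : T ≤ normalizer (B : Set G) := b.wn T h.hm.syl.2.1 b.BT
  have hTZ : T ≤ normalizer (ZJ : Set G) := by
    rw [← b.zcB]
    exact hTB.trans (normalizer_le_of_cj (F := zc) LemmaK.Main.zc_cj B)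
  have hAB : A ≤ B := b.A_le hA (h.fam.le A hA)
  have hLH : L ≤ H := hLX.trans fun l hl => (mem_inf.1 hl).1.1
  have hLD : ∀ l ∈ L, ∀ d ∈ cv T H, l * d = d * l := fun l hl d hd =>
    (mem_centralizer_iff.1 (mem_inf.1 (hLX hl)).2 d hd).symm
  have hmem : ∀ v ∈ zl T H, v ∈ ZJ ↔ ∀ i, M.nat.e v i 1 = 0 := fun v hv =>
    ⟨fun hvZ i => mem_line h b N hk hA hroot hTZ hv hvZ i, fun h0 => line_le h b N hk hv h0⟩
  have hrootB : ∀ c : F, ∃ b ∈ B, Ons M j b (up c) := fun c => by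
    obtain ⟨a, ha, ha1⟩ := hroot c
    exact ⟨a, hAB ha, hTH (h.fam.le A hA ha), ha1⟩
  have hupM : ∀ l ∈ L, ∃ A, M.Acts l A ∧ ∀ m, m ≠ j → ∃ c, A m = up c := fun l hl =>
    (mem_Xn M).1 (mem_inf.1 (hLX hl)).1 |>.2
  refine ⟨L, ⟨h.hm, b.BT, hTB, hTZ, ?_, fun x hx z hz => b.cB hx hz, hmem, hrootB, hBL, hLH, hLD, ?_, ?_, ?_⟩,
    hPB, GNat.le_sup h N hk hLX fun A₀ => by
      obtain ⟨l, hl, hlA⟩ := hcov A₀
      refine ⟨l, hl, fun v hv => ?_⟩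
      rw [← hM', ← hM']
      exact hlA v hv, fun l hl => by
      obtain ⟨A, hA, -⟩ := hupM l hl
      exact ⟨A, hA⟩⟩
  · rw [← b.zcB]; exact zc_elem B
  · -- `cov`
    obtain ⟨l, hl, hl1⟩ := hcov (lo 1)
    obtain ⟨A0, hA0, hA0'⟩ := hupM l hl
    have hA0j : A0 j = lo 1 := by
      apply ap_inj
      intro x
      obtain ⟨v, hv, e⟩ := exists_vec M j x
      have h1 := hl1 v hv
      rw [hM', hM'] at h1
      have h2 : N.e (l * v * l⁻¹) j = ap (A0 j) (N.e v j) := hA0 v hv.1 j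
      have h3 : N.e v j = x := e
      rw [h2, h3] at h1
      exact h1
    have hmv : MvI M l j j := by
      intro v hv
      rw [hA0 v hv j]
      constructor
      · intro h1
        have h2 := congrArg (ap (A0 j)⁻¹) h1
        rwa [ap_inv_ap, ap_z] at h2
      · intro h1
        rw [h1, ap_z]
    obtain ⟨b1, hb1, hb1A⟩ := hrootB 1
    obtain ⟨A', hA'⟩ := hb1A.conj (hLH hl) hmv
    refine sl2_all (fun A => ∃ l ∈ L, Ons M j l A) ?_ ?_ (fun c => ?_) (A₀ := A') ?_ ?_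
    · rintro A1 A2 ⟨l1, hl1, h1⟩ ⟨l2, hl2, h2⟩
      exact ⟨l1 * l2, mul_mem hl1 hl2, h1.mul h2⟩
    · rintro A1 ⟨l1, hl1, h1⟩
      exact ⟨l1⁻¹, inv_mem hl1, h1.inv⟩
    · obtain ⟨b2, hb2, h2⟩ := hrootB c
      exact ⟨b2, hBL hb2, h2⟩
    · exact ⟨_, mul_mem (mul_mem hl (hBL hb1)) (inv_mem hl), hA'⟩
    · have h1 := acts_mul (M := M) (inv_mem (hLH hl)) (acts_mul (M := M) hb1A.1 hA0 hb1A.2.1)
        (acts_inv (M := M) (hLH hl) hA0)
      have h2 := congrFun (acts_unique (M := M) hA'.2.1 h1) j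
      rw [Pi.mulSingle_eq_same, Pi.mul_apply, Pi.mul_apply, Pi.inv_apply, Pi.mulSingle_eq_same, hA0j] at h2
      rw [h2, ent_mul, ent_mul, ent_mul, ent_inv]
      simp
  · -- `LW`
    intro l hl m hmj v hv
    have hvZ : v ∈ ZJ := (hmem v hv.1).2 fun i => by
      by_cases hi : i = m
      · subst hi; exact hv.2.2
      · rw [hv.2.1 i hi]; rfl
    have hD : ∀ l ∈ L, l * v * l⁻¹ * v⁻¹ ∈ cv T H := by
      intro l hl
      obtain ⟨A0, hA0, hA0'⟩ := hupM l hl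
      have h1 := M.Vn l (hLH hl) v hv.1
      refine (M.nat.ker _ (mul_mem h1 (inv_mem hv.1))).1 ?_
      rw [M.map_div h1 hv.1, sub_eq_zero]
      funext i
      rw [hA0 v hv.1 i]
      by_cases hi : i = j
      · subst hi
        rw [hv.2.1 i (Ne.symm hmj), ap_z]
      · obtain ⟨c, hc⟩ := hA0' i hi
        rw [hc]
        by_cases him : i = m
        · subst him
          apply ext2
          · rw [ap_zero', hv.2.2]; simp
          · rw [ap_one', hv.2.2]; simp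
        · rw [hv.2.1 i him, ap_z]
    obtain ⟨l0, hl0, hl0m⟩ := hPB.mv
    have h1 := hPB.gen l0 hl0 hl0m (centralizer {v}) (fun x hx => by
      rw [mem_centralizer_singleton_iff]
      exact b.cB hx hvZ) fun x hx => by
        rw [mem_centralizer_singleton_iff]
        have hd := hD l0⁻¹ (inv_mem hl0)
        rw [inv_inv] at hd
        have hdZ : l0⁻¹ * v * l0 * v⁻¹ ∈ ZJ := (hmem _ (M.DV hd)).2 fun i => by
          rw [D_e (M := M) hd]; rfl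
        have hvd : l0⁻¹ * v * l0 ∈ ZJ := by
          have := mul_mem hdZ hvZ
          rwa [inv_mul_cancel_right] at this
        have h2 := b.cB hx hvd
        have h3 := congrArg (fun y => l0 * y * l0⁻¹) h2
        simpa [mul_assoc] using h3
    exact mem_centralizer_singleton_iff.1 (h1 hl)
  · -- `split`
    intro z hz
    rw [← b.zcB] at hz
    obtain ⟨c, hc, hcL, n, hn, e⟩ := hPB.Z_split hz
    rw [b.zcB] at hc
    refine ⟨c, hc, hcL, n, ?_, e⟩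
    have h1 := (mem_inf.1 hn).1
    exact ⟨h1.1, h1.2, (hmem n h1.1).1 (mem_inf.1 hn).2 j⟩

/-- **The input `LD`, with the block.** -/
theorem exists_ldb (hex : ∃ A ∈ AA, ¬ A ≤ o2 H) : ∃ L j, LD (natC_of h.hm hk N.toNatK) B ZJ L j ∧
    PB B L (Wn (natC_of h.hm hk N.toNatK) j) (Wn (natC_of h.hm hk N.toNatK) j ⊓ ZJ) (cv T H) (Nat.card F) ∧
      H ≤ T ⊔ L := by
  obtain ⟨A, hA, hAQ⟩ := hex
  obtain ⟨j, hroot⟩ := exists_root h N hk hA hAQ
  obtain ⟨L, h1, h2, h3, -⟩ := ldb_of_root h b N hk hA hroot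
  exact ⟨L, j, h1, h2, h3⟩

/-- some member of the family contains the root group of the `i`-th summand -/
theorem root_all (hex : ∃ A ∈ AA, ¬ A ≤ o2 H) (i : Fin k) :
    ∃ A ∈ AA, ∀ c : F, ∃ a ∈ A, ActsSL N.e (zl T H) (cv T H) a (Pi.mulSingle i (up c)) := by
  classical
  obtain ⟨A, hA, hAQ⟩ := hex
  obtain ⟨j, hroot⟩ := exists_root h N hk hA hAQ
  set M := natC_of h.hm hk N.toNatK with hM
  have hTH := h.TH
  obtain ⟨t, ht, htr⟩ := N.trans j i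
  have hmv : MvI M t j i := htr
  have hAT := h.fam.le A hA
  refine ⟨cj t A, h.fam.conj A hA t (h.norm (hTH ht)) ?_, fun c => ?_⟩
  · have h1 := cj_mono t hAT
    rwa [cj_eq_of_mem_normalizer (le_normalizer ht)] at h1
  obtain ⟨u, hu, hu1⟩ := M.nat.unip (Pi.single i c)
  rw [single_acts] at hu1
  have hU : Ons M i u (up c) := ⟨hTH hu, hu1⟩
  have hmi := hmv.inv (hTH ht)
  obtain ⟨A', hA'⟩ := hU.conj (inv_mem (hTH ht)) hmi
  obtain ⟨e1, e2⟩ := hU.line_triv hTH (inv_mem ht) hmi hA'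
  have h10 : ent A' 1 0 = 0 := e1.1 (up_10 c)
  have h00 : ent A' 0 0 = 1 := (e2 (up_10 c)).1 (up_00 c)
  have hup : A' = up (ent A' 0 1) := by
    have h11 := det_eq A'
    rw [h10, h00, mul_zero, sub_zero, one_mul] at h11
    exact ext_ent (by rw [up_00, h00]) (by rw [up_01]) (by rw [up_10, h10]) (by rw [up_11, h11])
  obtain ⟨a, ha, ha1⟩ := hroot (ent A' 0 1)
  have haM : Ons M j a A' := by
    rw [hup]
    exact ⟨hTH (hAT ha), ha1⟩
  have key : ∀ v ∈ zl T H, t * a * t⁻¹ * v * (t * a * t⁻¹)⁻¹ = u * v * u⁻¹ := by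
    intro v hv
    have h3 := haM.same h.hm hA' (M.Vn t⁻¹ (inv_mem (hTH ht)) v hv)
    calc t * a * t⁻¹ * v * (t * a * t⁻¹)⁻¹ = t * (a * (t⁻¹ * v * t⁻¹⁻¹) * a⁻¹) * t⁻¹ := by group
      _ = t * (t⁻¹ * u * t⁻¹⁻¹ * (t⁻¹ * v * t⁻¹⁻¹) * (t⁻¹ * u * t⁻¹⁻¹)⁻¹) * t⁻¹ := by rw [h3]
      _ = _ := by group
  refine ⟨t * a * t⁻¹, ⟨a, ha, rfl⟩, fun v hv m => ?_, fun d hd => ?_⟩
  · rw [key v hv]
    exact hu1.1 v hv m
  · have h1 := M.Dn t⁻¹ (inv_mem (hTH ht)) d hd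
    rw [inv_inv] at h1
    have h2 := congrArg (fun x => t * x * t⁻¹) (ha1.2 _ h1)
    simpa [mul_assoc] using h2

/-- **The input `LD`, with the block, for all summands.** -/
theorem exists_ldb_all (hex : ∃ A ∈ AA, ¬ A ≤ o2 H) (i : Fin k) : ∃ L, LD (natC_of h.hm hk N.toNatK) B ZJ L i ∧
    PB B L (Wn (natC_of h.hm hk N.toNatK) i) (Wn (natC_of h.hm hk N.toNatK) i ⊓ ZJ) (cv T H) (Nat.card F) ∧
      H ≤ T ⊔ L ∧ ∀ l ∈ L, ∃ A, (natC_of h.hm hk N.toNatK).Acts l A := by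
  obtain ⟨A, hA, hroot⟩ := root_all h b N hk hex i
  exact ldb_of_root h b N hk hA hroot

/-- **The input `LD`.** -/
theorem exists_ld (hex : ∃ A ∈ AA, ¬ A ≤ o2 H) : ∃ L j, LD (natC_of h.hm hk N.toNatK) B ZJ L j ∧ H ≤ T ⊔ L := by
  obtain ⟨L, j, h1, -, h2⟩ := exists_ldb h b N hk hex
  exact ⟨L, j, h1, h2⟩

/-- **`YB` for a parabolic of natural type.** -/
theorem exists_yb (hex : ∃ A ∈ AA, ¬ A ≤ o2 H) (hZ : ¬ H ≤ centralizer (zc T : Set G)) :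
    ∃ Ni c : Fin k → Subgroup G, YB T ZJ Ni c ∧ ∃ i, ¬ zc T ≤ Ni i := by
  obtain ⟨L, j, hL, hsup⟩ := exists_ld h b N hk hex
  obtain ⟨c, hc⟩ := hL.exists_co
  have hy := hL.yb_aux hc fun i s hs t ht hsm htm => cyc_line h.hm N hk hs hsm ht htm
  refine ⟨_, c, hy, j, fun hcon => hZ (hsup.trans (sup_le ?_ ?_))⟩
  · exact le_centralizer_zc T
  · intro l hl
    rw [mem_centralizer_iff]
    intro z hz
    have h1 := (mem_Ni.1 (hcon hz)).2 1 (one_mem _) (MvI.one j) l hl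
    simp only [inv_one, one_mul, mul_one] at h1
    exact h1.symm

end inst

end Cfsg.Agent.Omega.OM.Lev.Low
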