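import Cfsg.Agent.Omega.OM.Lev.Low.Data

/-!
# TEXT LL (helper584 #20624) (3): `q ≥ 4` is impossible

`V = C_X(Q)`, `b`, `b'`, `b b'` act on `V` as root elements with the same commutator group `Z = [V, b] = [V, b'] =
[V, b b']` (this exists if `q ≥ 4`). Then `Z ≤ N l` for all `l`.

* `Rt T V Z b` : `[V, b] = Z ≤ C(b)`, `b ∈ T`;
* `YB.four` : **(3)**.
-/

set_option autoImplicit false

namespace Cfsg.Agent.Omega.OM.Lev.Low

open Subgroup Cfsg Cfsg.Agent.ZN.ChoiceBase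

universe u

variable {G : Type u} [Group G] {Λ : Type*}

/-- `b` acts on `V` with `[V, b] = Z ≤ C(b)`. -/
structure Rt (T V Z : Subgroup G) (b : G) : Prop where
  bT : b ∈ T
  cen : ∀ z ∈ Z, b * z * b⁻¹ = z
  com : ∀ v ∈ V, v * (b * v * b⁻¹) ∈ Z
  all : ∀ z ∈ Z, ∃ v ∈ V, v * (b * v * b⁻¹) = z

namespace YB

variable {T X Q V Z : Subgroup G} {N c : Λ → Subgroup G}

/-- `b` is an involution on `V`. -/
theorem rt_sq (h : YB T X N c) (hV : QV T X Q V) {b : G} (r : Rt T V Z b) {v : G} (hv : v ∈ V) :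
    b * (b * v * b⁻¹) * b⁻¹ = v := by
  have h1 := r.cen _ (r.com v hv)
  have hbv := QV.memV h hV r.bT hv
  have h2 : (b * v * b⁻¹) * (b * (b * v * b⁻¹) * b⁻¹) = v * (b * v * b⁻¹) := by
    rw [← h1]; group
  rw [h.cm (hV.VX hv) (hV.VX hbv)] at h2
  exact mul_left_cancel h2

/-- if `s` fixes `l` and centralises `c l`, then `x x^s ∈ N l` -/
theorem cen_of (h : YB T X N c) {s : G} {l : Λ} (hm : Mv N c s l l)
    (hc : ∀ x ∈ c l, s * x = x * s) {x : G} (hx : x ∈ X) : x * (s * x * s⁻¹) ∈ N l := by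
  obtain ⟨a, ha, h1⟩ := h.fix l x hx
  have haX := h.cX l ha
  have h2 := hm.cen.2 h1
  have h3 : s * a * s⁻¹ = a := by rw [hc a ha]; group
  have h4 : s * (a * x) * s⁻¹ = a * (s * x * s⁻¹) := by
    calc s * (a * x) * s⁻¹ = (s * a * s⁻¹) * (s * x * s⁻¹) := by group
      _ = _ := by rw [h3]
  have h5 := mul_mem h1 h2
  rw [h4] at h5
  have h6 : a * x * (a * (s * x * s⁻¹)) = x * (s * x * s⁻¹) := by
    calc a * x * (a * (s * x * s⁻¹)) = a * (x * a) * (s * x * s⁻¹) := by group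
      _ = (a * a) * x * (s * x * s⁻¹) := by rw [h.cm hx haX]; group
      _ = _ := by rw [h.mul_self haX, one_mul]
  rwa [h6] at h5

/-- `r` preserves the orbit of `l` -/
theorem orb_inv_of {Q : Subgroup G} {r : G} (hr : r ∈ normalizer (Q : Set G)) {l m : Λ} (hm : Mv N c r l m)
    (hml : m ∈ Orb Q N c l) : (∀ l' ∈ Orb Q N c l, ∀ m', Mv N c r l' m' → m' ∈ Orb Q N c l) ∧
      ∀ l', ∀ m' ∈ Orb Q N c l, Mv N c r l' m' → l' ∈ Orb Q N c l := by
  refine ⟨fun l' hl' m' hm' => orb_trans hml (orb_mv hr hm hl' hm'), fun l' m' hm' hlm => ?_⟩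
  exact (orb_mv_iff hr hm hlm).1 (orb_trans (orb_symm hml) hm')

variable [Finite Λ]

/-- the `l`-part of `v v^r` comes from the `l`-part of `v` if `r` preserves the orbit of `l` -/
theorem exists_part (h : YB T X N c) (hV : QV T X Q V) {r : G} (hr : Rt T V Z r) {l m : Λ} (hm : Mv N c r l m)
    (hml : m ∈ Orb Q N c l) {z : G} (hz : z ∈ Z) :
    ∃ a ∈ V, a ∈ Cp c (Orb Q N c l) ∧ (a * (r * a * r⁻¹) ∈ N l → z ∈ N l) := by
  obtain ⟨v, hv, rfl⟩ := hr.all z hz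
  obtain ⟨a, haV, d, hdV, ha, hd, rfl⟩ := h.restr hV (p := Orb Q N c l) (orb_inv l) hv
  refine ⟨a, haV, ha, fun h1 => ?_⟩
  obtain ⟨-, i2⟩ := orb_inv_of (hV.TQ hr.bT) hm hml
  have h2 : d * (r * d * r⁻¹) ∈ N l :=
    mul_mem ((mem_Np.1 hd).2 l (self_mem Q l)) ((mem_Np.1 (h.Np_conj hr.bT i2 hd)).2 l (self_mem Q l))
  have h3 := mul_mem h1 h2
  have hra := QV.memV h hV hr.bT haV
  have e : a * (r * a * r⁻¹) * (d * (r * d * r⁻¹)) = a * d * (r * (a * d) * r⁻¹) := by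
    calc a * (r * a * r⁻¹) * (d * (r * d * r⁻¹)) = a * ((r * a * r⁻¹) * d) * (r * d * r⁻¹) := by group
      _ = a * d * (r * (a * d) * r⁻¹) := by rw [h.cm (hV.VX hra) (hV.VX hdV)]; group
  rwa [e] at h3

/-- **(3), first step**: if `b` moves the orbit of `l`, then every other root element at `i` moves it. -/
theorem move (h : YB T X N c) [Finite G] (hV : QV T X Q V) {b b' : G} (r : Rt T V Z b) (r' : Rt T V Z b') {l m m' : Λ}
    (hm : Mv N c b l m) (hml : m ∉ Orb Q N c l) (hm' : Mv N c b' l m') (hml' : m' ∈ Orb Q N c l) : False := by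
  obtain ⟨x, hx, hxp, hxl⟩ := h.exists_single hV l
  have hbx : b * x * b⁻¹ ∈ Cp c (Orb Q N c m) :=
    h.Cp_conj r.bT (fun l' hl' m' hm' => orb_mv (hV.TQ r.bT) hm hl' hm') hxp
  have h1 : b * x * b⁻¹ ∈ N l := h.Cp_cen (fun e => hml (orb_symm e)) hbx
  obtain ⟨a, haV, ha, h2⟩ := h.exists_part hV r' hm' hml' (r.com x hx)
  have h3 : x * (b * x * b⁻¹) ∈ N l := by
    refine h2 ?_
    have h4 := r'.com a haV
    obtain ⟨i1, -⟩ := orb_inv_of (hV.TQ r'.bT) hm' hml'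
    have h5 : a * (b' * a * b'⁻¹) ∈ N m :=
      h.Cp_cen hml (mul_mem ha (h.Cp_conj r'.bT i1 ha))
    rw [← r.cen _ h4] at h5
    exact hm.cen.1 h5
  refine hxl ?_
  have h4 := mul_mem h3 (inv_mem h1)
  rwa [mul_inv_cancel_right] at h4

/-- all root elements preserve the orbits -/
theorem fixes (h : YB T X N c) [Finite G] (hV : QV T X Q V) {b b' : G} (r : Rt T V Z b) (r' : Rt T V Z b')
    (r'' : Rt T V Z (b * b')) {l m : Λ} (hm : Mv N c b l m) : m ∈ Orb Q N c l := by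
  by_contra hml
  obtain ⟨m', hm'⟩ := h.perm b' r'.bT l
  have hml' : m' ∉ Orb Q N c l := fun e => h.move hV r r' hm hml hm' e
  obtain ⟨x, hx, hxp, hxl⟩ := h.exists_single hV l
  have hbx : b * x * b⁻¹ ∈ Cp c (Orb Q N c m) :=
    h.Cp_conj r.bT (fun l' hl' m' hm' => orb_mv (hV.TQ r.bT) hm hl' hm') hxp
  have h1 : b * x * b⁻¹ ∈ N l := h.Cp_cen (fun e => hml (orb_symm e)) hbx
  -- `z = x x^b` is not trivial at `l`, so not at `m'`
  have hz := r.com x hx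
  have hzl : x * (b * x * b⁻¹) ∉ N l := fun h3 => hxl (by
    have h4 := mul_mem h3 (inv_mem h1)
    rwa [mul_inv_cancel_right] at h4)
  have hzm : x * (b * x * b⁻¹) ∉ N m' := fun h3 => hzl (by
    rw [← r'.cen _ hz] at h3
    exact hm'.cen.1 h3)
  have hmm : m' ∈ Orb Q N c m := by
    by_contra h3
    exact hzm (mul_mem (h.Cp_cen hml' hxp) (h.Cp_cen h3 hbx))
  -- `b²` preserves the orbit of `l`
  obtain ⟨m3, hm3⟩ := h.perm b r.bT m
  have h3l : m3 ∈ Orb Q N c l := by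
    by_contra h3
    have h4 := h.rt_sq hV r hx
    have h5 : x ∈ N m3 := h.Cp_cen h3 hxp
    rw [← h4] at h5
    exact hxl (hm.cen.1 (hm3.cen.1 h5))
  obtain ⟨m2, hm2⟩ := h.perm b r.bT m'
  have h2l : m2 ∈ Orb Q N c l := orb_trans h3l (orb_mv (hV.TQ r.bT) hm3 hmm hm2)
  exact h.move hV r r'' hm hml (hm2.mul hm') h2l

omit [Finite Λ] in
/-- an element which fixes `l` and acts on `V` as `r` -/
theorem exists_rep (h : YB T X N c) (hV : QV T X Q V) {r : G} (hr : Rt T V Z r) {l m : Λ} (hm : Mv N c r l m)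
    (hml : m ∈ Orb Q N c l) : ∃ s ∈ T, Mv N c s l l ∧ ∀ x ∈ V, s * x * s⁻¹ = r * x * r⁻¹ := by
  obtain ⟨q, hq, hqm⟩ := hml
  refine ⟨q⁻¹ * r, mul_mem (inv_mem (hV.QT hq)) hr.bT, hqm.inv.mul hm, fun x hx => ?_⟩
  have h1 := hV.fix (QV.memV h hV hr.bT hx) (inv_mem hq)
  calc q⁻¹ * r * x * (q⁻¹ * r)⁻¹ = q⁻¹ * (r * x * r⁻¹) * q⁻¹⁻¹ := by group
    _ = _ := h1

/-- **(3)** -/
theorem four (h : YB T X N c) [Finite G] (hV : QV T X Q V) {b b' : G} (r : Rt T V Z b)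
    (r' : Rt T V Z b') (r'' : Rt T V Z (b * b')) {z : G} (hz : z ∈ Z) (l : Λ) : z ∈ N l := by
  -- `b⁻¹` and `b'⁻¹` act as `b` and `b'`
  have sq1 := fun {x : G} (hx : x ∈ V) => h.rt_sq hV r hx
  have sq2 := fun {x : G} (hx : x ∈ V) => h.rt_sq hV r' hx
  have mV1 := fun {x : G} (hx : x ∈ V) => QV.memV h hV r.bT hx
  have mV2 := fun {x : G} (hx : x ∈ V) => QV.memV h hV r'.bT hx
  have comm : ∀ x ∈ V, b' * (b * x * b⁻¹) * b'⁻¹ = b * (b' * x * b'⁻¹) * b⁻¹ := by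
    intro x hx
    have h1 := h.rt_sq hV r'' hx
    have h2 : b * (b' * (b * (b' * x * b'⁻¹) * b⁻¹) * b'⁻¹) * b⁻¹ = x := by
      have e : b * (b' * (b * (b' * x * b'⁻¹) * b⁻¹) * b'⁻¹) * b⁻¹ =
          b * b' * (b * b' * x * (b * b')⁻¹) * (b * b')⁻¹ := by group
      rw [e, h1]
    have h3 : b' * (b * (b' * x * b'⁻¹) * b⁻¹) * b'⁻¹ = b * x * b⁻¹ := by
      have h4 := congrArg (fun t => b * t * b⁻¹) h2
      rw [sq1 (mV2 (mV1 (mV2 hx)))] at h4
      exact h4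
    have h4 := congrArg (fun t => b' * t * b'⁻¹) h3
    rw [sq2 (mV1 (mV2 hx))] at h4
    exact h4.symm
  obtain ⟨m, hm⟩ := h.perm b r.bT l
  obtain ⟨m', hm'⟩ := h.perm b' r'.bT l
  have r3 : Rt T V Z (b' * b) := by
    refine ⟨mul_mem r'.bT r.bT, fun z hz => ?_, fun v hv => ?_, fun z hz => ?_⟩
    · have e : b' * b * z * (b' * b)⁻¹ = b' * (b * z * b⁻¹) * b'⁻¹ := by group
      rw [e, r.cen z hz, r'.cen z hz]
    · have e : b' * b * v * (b' * b)⁻¹ = b' * (b * v * b⁻¹) * b'⁻¹ := by group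
      have e2 : b * b' * v * (b * b')⁻¹ = b * (b' * v * b'⁻¹) * b⁻¹ := by group
      rw [e, comm v hv, ← e2]
      exact r''.com v hv
    · obtain ⟨v, hv, e1⟩ := r''.all z hz
      refine ⟨v, hv, ?_⟩
      have e : b' * b * v * (b' * b)⁻¹ = b' * (b * v * b⁻¹) * b'⁻¹ := by group
      have e2 : b * b' * v * (b * b')⁻¹ = b * (b' * v * b'⁻¹) * b⁻¹ := by group
      rw [e, comm v hv, ← e2]
      exact e1
  have hml := h.fixes hV r r' r'' hm
  have hml' := h.fixes hV r' r r3 hm'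
  obtain ⟨m2, hm2⟩ := h.perm (b * b') r''.bT l
  have hml2 : m2 ∈ Orb Q N c l := by
    obtain ⟨n, hn⟩ := h.perm b r.bT m'
    have h1 := h.uniq hm2 (hn.mul hm')
    subst h1
    exact orb_trans hml (orb_mv (hV.TQ r.bT) hm hml' hn)
  obtain ⟨s, hs, hsl, hsV⟩ := h.exists_rep hV r hm hml
  obtain ⟨s', hs', hsl', hsV'⟩ := h.exists_rep hV r' hm' hml'
  -- powers of `s`, `s'` on `V`
  have pw : ∀ {t g : G}, Rt T V Z g → (∀ x ∈ V, t * x * t⁻¹ = g * x * g⁻¹) → ∀ n : ℕ,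
      (∀ x ∈ V, t ^ n * x * (t ^ n)⁻¹ = x) ∨ ∀ x ∈ V, t ^ n * x * (t ^ n)⁻¹ = g * x * g⁻¹ := by
    intro t g hg ht n
    induction n with
    | zero => exact Or.inl fun x _ => by simp
    | succ n ih =>
      have e : ∀ x, t ^ (n + 1) * x * (t ^ (n + 1))⁻¹ = t * (t ^ n * x * (t ^ n)⁻¹) * t⁻¹ := fun x => by
        rw [pow_succ']; group
      rcases ih with ih | ih
      · right
        intro x hx
        rw [e, ih x hx, ht x hx]
      · left
        intro x hx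
        rw [e, ih x hx, ht _ (QV.memV h hV hg.bT hx), h.rt_sq hV hg hx]
  have fin : ∀ {g : G} (_ : Rt T V Z g) {n : Λ}, Mv N c g l n → n ∈ Orb Q N c l →
      (∀ x ∈ V, x * (g * x * g⁻¹) ∈ N l) → z ∈ N l := by
    intro g hg n h1 h2 h3
    obtain ⟨a, haV, -, h4⟩ := h.exists_part hV hg h1 h2 hz
    exact h4 (h3 a haV)
  obtain ⟨n, hn | hn⟩ := h.cyc l s hs s' hs' hsl hsl'
  · have hM : Mv N c (s * s' ^ n) l l := hsl.mul (hsl'.pow n)
    have h1 := fun {x : G} (hx : x ∈ V) => h.cen_of hM hn (hV.VX hx)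
    have e : ∀ x, s * s' ^ n * x * (s * s' ^ n)⁻¹ = s * (s' ^ n * x * (s' ^ n)⁻¹) * s⁻¹ := fun x => by group
    rcases pw r' hsV' n with h2 | h2
    · refine fin r hm hml fun x hx => ?_
      have h3 := h1 hx
      rwa [e, h2 x hx, hsV x hx] at h3
    · refine fin r'' hm2 hml2 fun x hx => ?_
      have h3 := h1 hx
      rw [e, h2 x hx, hsV _ (mV2 hx)] at h3
      have e2 : b * b' * x * (b * b')⁻¹ = b * (b' * x * b'⁻¹) * b⁻¹ := by group
      rwa [e2]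
  · have hM : Mv N c (s' * s ^ n) l l := hsl'.mul (hsl.pow n)
    have h1 := fun {x : G} (hx : x ∈ V) => h.cen_of hM hn (hV.VX hx)
    have e : ∀ x, s' * s ^ n * x * (s' * s ^ n)⁻¹ = s' * (s ^ n * x * (s ^ n)⁻¹) * s'⁻¹ := fun x => by group
    rcases pw r hsV n with h2 | h2
    · refine fin r' hm' hml' fun x hx => ?_
      have h3 := h1 hx
      rwa [e, h2 x hx, hsV' x hx] at h3
    · refine fin r'' hm2 hml2 fun x hx => ?_
      have h3 := h1 hx
      rw [e, h2 x hx, hsV' _ (mV1 hx), comm x hx] at h3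
      have e2 : b * b' * x * (b * b')⁻¹ = b * (b' * x * b'⁻¹) * b⁻¹ := by group
      rwa [e2]

end YB

end Cfsg.Agent.Omega.OM.Lev.Low
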