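import Cfsg.Agent.Omega.OM.Lev.Low.GJ
import Cfsg.Agent.Omega.OM.Lev.Low.YInst
import Cfsg.Agent.Omega.OM.Lev.Low.YSym
import Cfsg.Agent.Omega.OM.Lev.Low.FrFour
import Cfsg.Agent.Omega.OM.SwapL.BG

/-!
# (LL): minimal parabolics of lower stage

`(T, Y)` : `T ≥ B = C_S(Ω₁Z(lev S (n+1)))` a Sylow 2-subgroup of the minimal parabolic `Y` of characteristic 2.

* `exists_stg` : the stage `j ≤ n` of a `Y` with `lev S n ≰ O₂(Y)`;
* `exists_ybj` : `YB` on `Ω₁Z(lev S j)` for the stage `j`, `zc T ≰ N i` for some `i`;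
* `qv` : `QV T (Ω₁Z(lev S j)) (O₂(P)) V_P` for every 2-group `T ≥ B`, `j ≤ n`;
* `low_four` : `q > 2`: if `Y` moves `Ω₁Z(T)`, then `lev S n ≤ O₂(Y)`;
* `bg_four` : **`q > 2`: `BG S n 𝓑` for every family of subgroups which contains the FF-blocks over `B`.**
-/

set_option autoImplicit false
set_option linter.unusedSectionVars false

namespace Cfsg.Agent.Omega.OM.Lev.Low

open Subgroup Cfsg Cfsg.Agent.ZN.ChoiceBase Cfsg.Agent.ZN.ChoiceSit
open Cfsg.Agent.ZN (jj zj bau zc zl o2)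
open Cfsg.Agent.MinSimple.MinParabolic (IsMinPar)
open Cfsg.Agent.Omega.FFThm (NatKM SymKM OffM NoOverM ElemM)
open Cfsg.Agent.Omega.FrameFF (cv)
open Cfsg.Agent.Omega.OM.LevB (lb zc_B nxt_lev isLev_T bz_lev)
open Cfsg.Agent.Omega.OM.GLev
open Cfsg.Agent.Omega.OM.Lev.Uni (FrL)
open Cfsg.Agent.Omega.OM.SwapL (Ln ZL BG)
open Cfsg.Agent.Omega.NO3S.Level (lev lev_mono lev_isLev Lev BO nxt lev_le_succ lev_le)

universe u

variable {G : Type u} [Group G] [Finite G]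

/-- `B` of the stage `j` is contained in `B` of the stage `n ≥ j` -/
theorem BL_mono (S : Subgroup G) {j n : ℕ} (h : j ≤ n) : LevB.BL S j ≤ LevB.BL S n := by
  refine inf_le_inf_left _ (centralizer_le ?_)
  exact_mod_cast (lev_isLev S j).zc_le_zc (lev_mono S h) (lev_le S n)

/-- the stage -/
theorem exists_stg (S : Subgroup G) {Y : Subgroup G} {n : ℕ} (h : ¬ lev S n ≤ o2 Y) :
    ∃ j ≤ n, (∀ i < j, lev S i ≤ o2 Y) ∧ ¬ lev S j ≤ o2 Y := by
  classical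
  have hex : ∃ j, ¬ lev S j ≤ o2 Y := ⟨n, h⟩
  refine ⟨Nat.find hex, Nat.find_min' hex h, fun i hi => ?_, Nat.find_spec hex⟩
  by_contra hcon
  exact Nat.find_min hex hi hcon

/-- **`YB` at the stage of `Y`.** -/
theorem exists_ybj (S : Sylow 2 G) {T Y : Subgroup G} {j : ℕ} (hT : Syl T Y) (hB : LevB.BL (S : Subgroup G) j ≤ T)
    (hP : IsMinPar T Y) (hc : Y ⊓ centralizer (o2 Y : Set G) ≤ o2 Y)
    (hlow : ∀ i < j, lev (S : Subgroup G) i ≤ o2 Y) (hn : ¬ lev (S : Subgroup G) j ≤ o2 Y)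
    (hZ : ¬ Y ≤ centralizer (zc T : Set G)) :
    ∃ (Λ : Type) (_ : Finite Λ) (N c : Λ → Subgroup G), YB T (zc (lev (S : Subgroup G) j)) N c ∧
      ∃ l, ¬ zc T ≤ N l := by
  obtain ⟨X, AA', hge, hbz, hex, hcon⟩ := exists_ge S hT hB hP hc hlow hn hZ
  rcases hcon with ⟨F, _, _, _, k, hk, ⟨N⟩⟩ | ⟨k, m, hk, hm, ⟨N⟩⟩
  · obtain ⟨Ni, c, hy, i, hi⟩ := exists_yb hge hbz N hk hex hZ
    exact ⟨Fin k, inferInstance, Ni, c, hy, i, hi⟩
  · obtain ⟨ι, hf, ⟨i⟩, W, K, d, hy, -, -, -, -, -, -, -, hsup⟩ := YSym.exists_yb hge hbz N hk (by omega) hex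
    refine ⟨ι, hf, _, _, hy, i, fun hle => hZ ((hsup i).trans (sup_le ?_ ?_))⟩
    · exact NO3S.Level.le_centralizer_zc T
    · exact le_centralizer_iff.1 hle

section line

variable {ι : Type} [Finite ι] {S : Sylow 2 G} {P : Subgroup G} {n : ℕ} {L W Z C A : ι → Subgroup G} {q : ℕ}

/-- **`QV`** -/
theorem qv (h : Ln S P n L W Z C A q) {T : Subgroup G} (hT : IsPGroup 2 T)
    (hB : SwapL.BL (S : Subgroup G) n ≤ T) {j : ℕ} (hj : j ≤ n) :
    YB.QV T (zc (lev (S : Subgroup G) j)) (o2 P) (zl (S : Subgroup G) P) where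
  QT := h.fr.QB.trans hB
  TQ := by
    intro t ht
    have h1 := (SwapL.lb S n).two_le hT hB ht
    have h2 := SwapL.two_norm h hT hB ht
    have e : o2 P = SwapL.BL (S : Subgroup G) n ⊓ centralizer (zl (S : Subgroup G) P : Set G) := by
      ext x
      rw [mem_inf, mem_centralizer_iff]
      constructor
      · intro hx
        exact ⟨h.fr.QB hx, fun v hv => ((h.fr.mem_Q x (h.fr.QB hx)).1 hx v hv).symm⟩
      · rintro ⟨hx, hx'⟩
        exact (h.fr.mem_Q x hx).2 fun v hv => (hx' v hv).symm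
    rw [mem_normalizer_iff_cj, e, cj_inf, cj_centralizer, cj_eq_of_mem_normalizer h1, cj_eq_of_mem_normalizer h2]
  mem := by
    intro x
    have hVX : zl (S : Subgroup G) P ≤ zc (lev (S : Subgroup G) j) :=
      h.fr.VX.trans ((lev_isLev (S : Subgroup G) j).zc_le_zc (lev_mono _ hj) (lev_le _ n))
    constructor
    · exact fun hx => ⟨hVX hx, fun q hq => (h.fr.mem_Q q (h.fr.QB hq)).1 hq x hx⟩
    · rintro ⟨hx, hxQ⟩
      have h1 : x ∈ (S : Subgroup G) := lev_le _ j (mem_zc.1 hx).1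
      have h2 : x ∈ P := h.hyp.syl.1 h1
      have h3 : x ∈ o2 P := h.hyp.star.isLoc.char2 S h.hyp.ctx.char2 ⟨h2, mem_centralizer_iff.2 hxQ⟩
      exact h.fr.zcQ x h3 (mem_zc.1 hx).2.1 fun y hy => (hxQ y hy).symm
  two := hT

/-- `Ω₁Z(T) ≤ Z_J` -/
theorem zc_T_le (S : Sylow 2 G) {T : Subgroup G} (hT : IsPGroup 2 T) {n : ℕ}
    (hB : SwapL.BL (S : Subgroup G) n ≤ T) : zc T ≤ ZL (S : Subgroup G) n := by
  have h1 := isLev_T S hT ((SwapL.lb S n).KB.trans hB)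
  exact h1.zc_le

/-- **(LL), `q > 2`.** -/
theorem low_four (h : Ln S P n L W Z C A q) (hq : 2 < q) {T Y : Subgroup G} (hT : Syl T Y)
    (hB : SwapL.BL (S : Subgroup G) n ≤ T) (hP : IsMinPar T Y) (hc : Y ⊓ centralizer (o2 Y : Set G) ≤ o2 Y)
    (hZ : ¬ Y ≤ centralizer (zc T : Set G)) : lev (S : Subgroup G) n ≤ o2 Y := by
  by_contra hn
  obtain ⟨j, hj, hlow, hnj⟩ := exists_stg (S : Subgroup G) hn
  have hBj : LevB.BL (S : Subgroup G) j ≤ T := (BL_mono (S : Subgroup G) (by omega : j ≤ n + 1)).trans hB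
  obtain ⟨Λ, _, N, c, hy, l, hl⟩ := exists_ybj S hT hBj hP hc hlow hnj hZ
  have h1 := no_low h.fr hq hy (qv h hT.2.1 hB hj) hB l
  exact hl ((zc_T_le S hT.2.1 hB).trans h1)

/-- **`BG` at stage `n`, `q > 2`.** -/
theorem bg_four (h : Ln S P n L W Z C A q) (hq : 2 < q) {𝓑 : Subgroup G → Subgroup G → Prop}
    (h𝓑 : ∀ L' V', LevB.FBlk (SwapL.BL (S : Subgroup G) n) L' V' → 𝓑 L' V') : BG S n 𝓑 := by
  intro T Y hT hB hP hc hn1 hZ
  have hK := low_four h hq hT hB hP hc hZ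
  obtain ⟨L', V', -, hF, hsup⟩ := LevB.exists_fblk S hT hB hP hc hK hn1 hZ
  exact hsup.trans (sup_le le_sup_right (le_sup_of_le_left (LevD.blk_le_K0 (h𝓑 _ _ hF))))

end line

end Cfsg.Agent.Omega.OM.Lev.Low
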