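import Cfsg.Agent.Omega.OM.Lev.Low.MinA
import Cfsg.Agent.Omega.OM.Lev.Low.LowMain

/-!
# TORUS, `q = 2` (helper109 #23071), (B): `|c l| = 4`, `Q` fixes all `l`, `c l ≤ V`

Any number of blocks, any 2-group `T ≥ B`, any stage `j ≤ n`.

* `YB.card_four` : if a best offender of `T` on `X` does not centralise `c l`, then `|c l| = 4`;
* `YB.lin` : if moreover `V = C_X(Q)` has more than two elements at `l`, then `Q` fixes `l` and `c l ≤ V`;
* `exists_level` : the first level with a best offender which does not centralise all `c l`;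
* `lin_V` : **(B)**.
-/

set_option autoImplicit false
set_option linter.unusedSectionVars false

namespace Cfsg.Agent.Omega.OM.Lev.Low

open Subgroup Cfsg Cfsg.Agent.ZN.ChoiceBase Cfsg.Agent.ZN.ChoiceSit
open Cfsg.Agent.ZN (jj zj bau zc zl o2)
open Cfsg.Agent.Omega.NO3S.OneLine (BFam bo bo_fam)
open Cfsg.Agent.Omega.FFThm (ElemM)
open Cfsg.Agent.Omega.NO1.BestOff (Best)
open Cfsg.Agent.Omega.OM.SwapL (Ln ZL)
open Cfsg.Agent.Omega.NO3S.Level (lev lev_mono lev_isLev Lev BO nxt lev_le_succ lev_le normalizer_le_zc)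

universe u

variable {G : Type u} [Group G] {Λ : Type*}

namespace YB

variable {T X L A Q V : Subgroup G} {N c : Λ → Subgroup G} {AA : Set (Subgroup G)}

/-- the fixed points of an element of `T` on a line are the points of a subfield -/
def Sub (T : Subgroup G) (N c : Λ → Subgroup G) : Prop := ∀ l, ∀ t ∈ T, Mv N c t l l →
  ∃ m : ℕ, Nat.card (c l) = Nat.card ↥(c l ⊓ centralizer ({t} : Set G)) ^ m

theorem card_four (hs : Sub T N c) [Finite G] {l : Λ} (hAT : A ≤ T) (hc : ¬ Cen A (c l)) (h4 : 2 < Nat.card (c l))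
    (hl : ∀ a ∈ A, Mv N c a l l) (hi : (c l ⊓ centralizer (A : Set G)).relIndex (c l) = 2) :
    Nat.card (c l) = 4 ∧ Nat.card ↥(c l ⊓ centralizer (A : Set G)) = 2 := by
  unfold Cen at hc
  push Not at hc
  obtain ⟨a, ha, x, hx, hax⟩ := hc
  obtain ⟨m, hm⟩ := hs l a (hAT ha) (hl a ha)
  set C := c l ⊓ centralizer (A : Set G) with hC
  set D := c l ⊓ centralizer ({a} : Set G) with hD
  have hCD : C ≤ D := inf_le_inf_left _ (centralizer_le (Set.singleton_subset_iff.2 ha))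
  have hDc : D ≤ c l := inf_le_left
  have hxD : x ∉ D := fun h1 => hax (mem_centralizer_singleton_iff.1 h1.2).symm
  have hmul : ∀ E : Subgroup G, E ≤ c l → E.relIndex (c l) * Nat.card E = Nat.card (c l) := fun E hE => by
    have e := Subgroup.card_mul_index (E.subgroupOf (c l))
    rw [Nat.card_congr (subgroupOfEquivOfLe hE).toEquiv] at e
    rw [← e, mul_comm]
    rfl
  have h1 := hmul C (hCD.trans hDc)
  have h2 := hmul D hDc
  rw [hi] at h1
  have h3 : 2 ≤ D.relIndex (c l) := by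
    have h5 : D.relIndex (c l) ≠ 0 := by
      intro e
      rw [e, zero_mul] at h2
      exact absurd h2.symm Nat.card_pos.ne'
    have h6 : D.relIndex (c l) ≠ 1 := fun e => hxD (relIndex_eq_one.1 e hx)
    omega
  have h5 : Nat.card C ≤ Nat.card D := Subgroup.card_le_of_le hCD
  have h6 : Nat.card D = Nat.card C := by nlinarith
  rw [h6] at hm
  have hm' : 2 * Nat.card C = Nat.card C ^ m := by rw [h1, hm]
  have hC1 : Nat.card C ≠ 1 := by
    intro e
    rw [e] at h1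
    omega
  have hC0 : 0 < Nat.card C := Nat.card_pos
  rcases m with _ | m
  · rw [pow_zero] at hm'
    omega
  · rw [pow_succ, mul_comm] at hm'
    have h7 := Nat.eq_of_mul_eq_mul_right hC0 (by rw [mul_comm]; exact hm' : 2 * Nat.card C = Nat.card C ^ m * Nat.card C)
    rcases m with _ | m
    · rw [pow_zero] at h7
      omega
    · have h8 : Nat.card C ∣ 2 := ⟨Nat.card C ^ m, by rw [h7, pow_succ]; ring⟩
      have h9 := (Nat.dvd_prime Nat.prime_two).1 h8
      have h10 := h9.resolve_left hC1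
      omega

/-- two different nontrivial components at `l` -/
def Wide (V : Subgroup G) (N c : Λ → Subgroup G) (l : Λ) : Prop :=
  ∃ v ∈ V, ∃ a ∈ c l, a * v ∈ N l ∧ a ≠ 1 ∧
    ∃ v' ∈ V, ∃ a' ∈ c l, a' * v' ∈ N l ∧ a' ≠ 1 ∧ a ≠ a'

theorem Wide.two_lt [Finite G] {l : Λ} (h : Wide V N c l) : 2 < Nat.card (c l) := by
  obtain ⟨-, -, a, ha, -, ha1, -, -, a', ha', -, ha1', hne⟩ := h
  have h1 : ({1, a, a'} : Set G).ncard ≤ ((c l : Set G)).ncard := by
    refine Set.ncard_le_ncard ?_ (Set.toFinite _)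
    rintro x (rfl | rfl | rfl)
    · exact one_mem _
    · exact ha
    · exact ha'
  have h2 : ({1, a, a'} : Set G).ncard = 3 := by
    rw [Set.ncard_insert_of_notMem _ (Set.toFinite _), Set.ncard_pair hne]
    simp only [Set.mem_insert_iff, Set.mem_singleton_iff, not_or]
    exact ⟨ha1.symm, ha1'.symm⟩
  rw [h2] at h1
  exact h1

/-- a component of an element of `V` is in `V` if `Q` fixes `l` -/
theorem comp_mem (h : YB T X N c) (hV : QV T X Q V) {l : Λ} (hQ : ∀ q ∈ Q, Mv N c q l l) {v a : G} (hv : v ∈ V)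
    (ha : a ∈ c l) (hn : a * v ∈ N l) : a ∈ V := by
  refine hV.of_fix (h.cX l ha) fun q hq => ?_
  have h1 := hV.fix hv hq
  have h2 : q * a * q⁻¹ ∈ c l := by
    rw [← (hQ q hq).2]
    exact ⟨a, ha, rfl⟩
  have h3 : q * (a * v) * q⁻¹ ∈ N l := (hQ q hq).cen.2 hn
  have e1 : q * (a * v) * q⁻¹ = q * a * q⁻¹ * v := by
    calc q * (a * v) * q⁻¹ = q * a * q⁻¹ * (q * v * q⁻¹) := by group
      _ = q * a * q⁻¹ * v := by rw [h1]
  rw [e1] at h3
  have h4 : q * a * q⁻¹ * a⁻¹ ∈ c l ⊓ N l := by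
    refine mem_inf.2 ⟨mul_mem h2 (inv_mem ha), ?_⟩
    have h5 := mul_mem h3 (inv_mem hn)
    have e2 : q * a * q⁻¹ * v * (a * v)⁻¹ = q * a * q⁻¹ * a⁻¹ := by group
    rwa [e2] at h5
  rw [h.triv l, mem_bot, mul_inv_eq_one] at h4
  exact h4

variable [Finite G] [Finite Λ]

/-- **(B) for one `l`** -/
theorem lin (h : YB T X N c) (hs : Sub T N c) (hf : BFam T X L AA) (hV : QV T X Q V) {l : Λ} (hw : Wide V N c l)
    (hA : ∃ A ∈ AA, ¬ Cen A (c l)) : (∀ q ∈ Q, Mv N c q l l) ∧ Nat.card (c l) = 4 ∧ c l ≤ V := by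
  obtain ⟨A, ⟨hA, hc⟩, hmin⟩ := Set.exists_min_image {A | A ∈ AA ∧ ¬ Cen A (c l)}
    (fun A : Subgroup G => Nat.card ↥(A ⊔ centralizer (X : Set G))) (Set.toFinite _) (by
      obtain ⟨A, hA, hc⟩ := hA
      exact ⟨A, hA, hc⟩)
  have h2 := hw.two_lt
  have hAT := hf.le A hA
  obtain ⟨hl, hi, hcm⟩ := h.minA hf hV.two hA h2 hc fun B hB hB' => hmin B ⟨hB, hB'⟩
  obtain ⟨h4, hC2⟩ := card_four hs hAT hc h2 hl hi
  -- an element of `V` whose component is not centralised by `A`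
  have hex : ∃ v ∈ V, ∃ x ∈ c l, x * v ∈ N l ∧ ∃ a ∈ A, a * x ≠ x * a := by
    by_contra hcon
    push Not at hcon
    obtain ⟨v, hv, x, hx, hxv, hx1, v', hv', x', hx', hxv', hx1', hne⟩ := hw
    have h5 : x ∈ c l ⊓ centralizer (A : Set G) :=
      mem_inf.2 ⟨hx, mem_centralizer_iff.2 fun a ha => hcon v hv x hx hxv a ha⟩
    have h6 : x' ∈ c l ⊓ centralizer (A : Set G) :=
      mem_inf.2 ⟨hx', mem_centralizer_iff.2 fun a ha => hcon v' hv' x' hx' hxv' a ha⟩
    exact hne (UniPlus.eq_of_card_two hC2 h5 h6 hx1 hx1')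
  obtain ⟨v, hv, x, hx, hxv, a, ha, hax⟩ := hex
  have haT := hAT ha
  have hinv : x⁻¹ = x := h.inv_eq (h.cX l hx)
  set w := v * (a * v * a⁻¹) with hw'
  have hwV : w ∈ V := mul_mem hv (QV.memV h hV haT hv)
  have hcm' : ∀ m, m ≠ l → Mv N c a m m := fun m hm => h.mv_of_cen haT (hcm m hm a ha)
  -- the components of `w`
  have hwl : w ∉ N l := by
    intro hwN
    have e0 : v = x * (x * v) := by rw [← mul_assoc, h.mul_self (h.cX l hx), one_mul]
    have hn' : a * (x * v) * a⁻¹ ∈ N l := (hl a ha).cen.2 hxv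
    have hxX := h.cX l hx
    have hvX := hV.VX hv
    have hnX : x * v ∈ X := mul_mem hxX hvX
    have haxc : a * x * a⁻¹ ∈ c l := by
      rw [← (hl a ha).2]
      exact ⟨x, hx, rfl⟩
    have e1 : w = x * (a * x * a⁻¹) * ((x * v) * (a * (x * v) * a⁻¹)) := by
      have h5 := h.cm hnX (h.cX l haxc)
      calc w = x * (x * v) * (a * (x * (x * v)) * a⁻¹) := by rw [← e0]
        _ = x * ((x * v) * (a * x * a⁻¹)) * (a * (x * v) * a⁻¹) := by group
        _ = x * ((a * x * a⁻¹) * (x * v)) * (a * (x * v) * a⁻¹) := by rw [h5]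
        _ = _ := by group
    have h6 : x * (a * x * a⁻¹) ∈ c l ⊓ N l := by
      refine mem_inf.2 ⟨mul_mem hx haxc, ?_⟩
      have h7 := mul_mem hwN (inv_mem (mul_mem hxv hn'))
      rwa [e1, mul_inv_cancel_right] at h7
    rw [h.triv l, mem_bot] at h6
    have h7 : a * x * a⁻¹ = x := by
      rw [eq_inv_of_mul_eq_one_right h6, hinv]
    exact hax (mul_inv_eq_iff_eq_mul.1 h7)
  have hwm : ∀ m, m ≠ l → w ∈ N m := by
    intro m hm
    obtain ⟨y, hy, hyv⟩ := h.fix m v (hV.VX hv)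
    have e0 : v = y * (y * v) := by rw [← mul_assoc, h.mul_self (h.cX m hy), one_mul]
    have hy1 : a * y * a⁻¹ = y := by rw [hcm m hm a ha y hy]; group
    have hn' : a * (y * v) * a⁻¹ ∈ N m := (hcm' m hm).cen.2 hyv
    have h5 := h.cm (mul_mem (h.cX m hy) (hV.VX hv)) (h.cX m hy)
    have e1 : w = (y * v) * (a * (y * v) * a⁻¹) := by
      calc w = y * (y * v) * (a * (y * (y * v)) * a⁻¹) := by rw [← e0]
        _ = y * (y * v) * ((a * y * a⁻¹) * (a * (y * v) * a⁻¹)) := by group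
        _ = y * ((y * v) * y) * (a * (y * v) * a⁻¹) := by rw [hy1]; group
        _ = (y * y) * (y * v) * (a * (y * v) * a⁻¹) := by rw [h5]; group
        _ = _ := by rw [h.mul_self (h.cX m hy), one_mul]
    rw [e1]
    exact mul_mem hyv hn'
  have hQ : ∀ q ∈ Q, Mv N c q l l := by
    intro q hq
    obtain ⟨m, hm⟩ := h.perm q (hV.QT hq) l
    by_cases e : m = l
    · rwa [e] at hm
    · exfalso
      apply hwl
      refine hm.cen.1 ?_
      rw [hV.fix hwV hq]
      exact hwm m e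
  refine ⟨hQ, h4, ?_⟩
  obtain ⟨v, hv, x, hx, hxv, hx1, v', hv', x', hx', hxv', hx1', hne⟩ := hw
  have h5 := h.comp_mem hV hQ hv hx hxv
  have h6 := h.comp_mem hV hQ hv' hx' hxv'
  -- `c l ∩ V` has more than 2 elements
  have h7 : Wide V N c l := ⟨v, hv, x, hx, hxv, hx1, v', hv', x', hx', hxv', hx1', hne⟩
  have h8 : 2 < Nat.card ↥(c l ⊓ V) := by
    have h9 : Wide V (fun m => N m) (fun m => c m ⊓ V) l := ⟨v, hv, x, ⟨hx, h5⟩, hxv, hx1, v', hv', x', ⟨hx', h6⟩,
      hxv', hx1', hne⟩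
    exact h9.two_lt
  have h9 : Nat.card ↥(c l ⊓ V) ∣ Nat.card (c l) := Subgroup.card_dvd_of_le inf_le_left
  rw [h4] at h9
  have h10 : Nat.card ↥(c l ⊓ V) ≤ 4 := Nat.le_of_dvd (by norm_num) h9
  have h11 : Nat.card ↥(c l ⊓ V) = 4 := by
    interval_cases hk : Nat.card ↥(c l ⊓ V)
    · omega
    · rfl
  have h12 := Subgroup.eq_of_le_of_card_ge (inf_le_left : c l ⊓ V ≤ c l) (by rw [h11, h4])
  rw [← h12]
  exact inf_le_right

end YB

/-! ### The levels -/

section line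

variable [Finite G] {ι : Type} [Finite ι] [Finite Λ] {S : Sylow 2 G} {P : Subgroup G} {n : ℕ}
  {L W Z C A : ι → Subgroup G} {T : Subgroup G} {N c : Λ → Subgroup G}

theorem BO_bo {T' : Subgroup G} {m : ℕ} {D : Subgroup G} (hD : D ∈ BO (S : Subgroup G) (lev (S : Subgroup G) m))
    (hDT : D ≤ T') : D ∈ bo T' (zc (lev (S : Subgroup G) m)) :=
  ⟨hDT, hD.2.toElemM, fun E h1 h2 => hD.2.max E h2 h1⟩

/-- a 2-group over `B` normalises `Ω₁Z(lev S m)` -/
theorem two_norm_zc (hT : IsPGroup 2 T) (hB : SwapL.BL (S : Subgroup G) n ≤ T) {m : ℕ} (hm : m ≤ n + 1) :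
    T ≤ normalizer (zc (lev (S : Subgroup G) m) : Set G) :=
  ((SwapL.lb S n).two_le hT hB).trans ((SwapL.norm_lev S hm).trans (normalizer_le_zc _))

theorem BO_le_B {m : ℕ} (hm : m ≤ n) {D : Subgroup G} (hD : D ∈ BO (S : Subgroup G) (lev (S : Subgroup G) m)) :
    D ≤ SwapL.BL (S : Subgroup G) n := by
  have h0 : D ≤ lev (S : Subgroup G) (m + 1) := NO3S.Level.BO.le_nxt hD
  have h1 : lev (S : Subgroup G) (m + 1) ≤ lev (S : Subgroup G) (n + 1) := lev_mono _ (by omega)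
  exact (h0.trans h1).trans (SwapL.lb S n).KB

/-- **the first level with a best offender which does not centralise all `c l`** -/
theorem exists_level (h : Ln S P n L W Z C A 2) (hT : IsPGroup 2 T) (hB : SwapL.BL (S : Subgroup G) n ≤ T) {j : ℕ}
    (hj : j ≤ n) (hy : YB T (zc (lev (S : Subgroup G) j)) N c) (hZ : ∃ l, ¬ zc T ≤ N l) :
    ∃ m, j ≤ m ∧ m ≤ n ∧ (∀ l, c l ≤ zc (lev (S : Subgroup G) m)) ∧
      ∃ D ∈ BO (S : Subgroup G) (lev (S : Subgroup G) m), ∃ l, ¬ Cen D (c l) := by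
  classical
  have hne : ∃ m, j ≤ m ∧ m ≤ n ∧ ∃ D ∈ BO (S : Subgroup G) (lev (S : Subgroup G) m), ∃ l, ¬ Cen D (c l) := by
    by_contra hcon
    push Not at hcon
    obtain ⟨l, hl⟩ := hZ
    refine hl ((zc_T_le S hT hB).trans (zj_le h.fr fun i z hz => ?_))
    -- an element of `A i` which moves `W i`
    have hane := h.fr.Ane i
    push Not at hane
    obtain ⟨b, hb, v, hv, hbv⟩ := hane
    have r := rt h.fr hB hb fun h1 => hbv (h1 v hv)
    obtain ⟨w, hw, rfl⟩ := r.all z hz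
    have hAi : A i ∈ BO (S : Subgroup G) (lev (S : Subgroup G) n) :=
      ⟨(h.fr.AB i).trans (SwapL.lb S n).BS, ⟨h.fr.AX i, fun E h1 h2 => h.fr.best i E h2 h1⟩⟩
    have hcen := hcon n hj le_rfl (A i) hAi l
    have hbT : b ∈ T := hB (h.fr.AB i hb)
    have hbl : Mv N c b l l := hy.mv_of_cen hbT (hcen b hb)
    have hwX : w ∈ zc (lev (S : Subgroup G) j) := (qv h hT hB hj).VX hw
    obtain ⟨y, hy', hyw⟩ := hy.fix l w hwX
    have e0 : w = y * (y * w) := by rw [← mul_assoc, hy.mul_self (hy.cX l hy'), one_mul]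
    have hy1 : b * y * b⁻¹ = y := by rw [hcen b hb y hy']; group
    have hn' : b * (y * w) * b⁻¹ ∈ N l := hbl.cen.2 hyw
    have h5 := hy.cm (mul_mem (hy.cX l hy') hwX) (hy.cX l hy')
    have e1 : w * (b * w * b⁻¹) = (y * w) * (b * (y * w) * b⁻¹) := by
      calc w * (b * w * b⁻¹) = y * (y * w) * (b * (y * (y * w)) * b⁻¹) := by rw [← e0]
        _ = y * (y * w) * ((b * y * b⁻¹) * (b * (y * w) * b⁻¹)) := by group
        _ = y * ((y * w) * y) * (b * (y * w) * b⁻¹) := by rw [hy1]; group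
        _ = (y * y) * (y * w) * (b * (y * w) * b⁻¹) := by rw [h5]; group
        _ = _ := by rw [hy.mul_self (hy.cX l hy'), one_mul]
    rw [e1]
    exact mul_mem hyw hn'
  have hspec := Nat.find_spec hne
  have hmin : ∀ m', j ≤ m' → m' < Nat.find hne → ∀ D ∈ BO (S : Subgroup G) (lev (S : Subgroup G) m'), ∀ l,
      Cen D (c l) := by
    intro m' h1 h2 D hD l
    by_contra hcon
    exact Nat.find_min hne h2 ⟨h1, (h2.le.trans hspec.2.1), D, hD, l, hcon⟩
  refine ⟨Nat.find hne, hspec.1, hspec.2.1, ?_, hspec.2.2⟩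
  have key : ∀ m', j ≤ m' → m' ≤ Nat.find hne → ∀ l, c l ≤ zc (lev (S : Subgroup G) m') := by
    intro m' h1
    induction m', h1 using Nat.le_induction with
    | base => exact fun _ l => hy.cX l
    | succ m' h1 ih =>
      intro h2 l x hx
      have h3 := ih (by omega) l hx
      have hx' := mem_zc.1 h3
      refine (lev_isLev (S : Subgroup G) (m' + 1)).mem_of_comm (lev_le _ _ hx'.1) hx'.2.1 ?_
      have h4 : lev (S : Subgroup G) (m' + 1) ≤ centralizer ({x} : Set G) := by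
        show nxt (S : Subgroup G) (lev (S : Subgroup G) m') ≤ _
        refine sup_le (fun s hs => ?_) (sSup_le fun D hD d hd => ?_)
        · rw [mem_centralizer_singleton_iff]
          exact (mem_centralizer_iff.1 hs.2 x h3).symm
        · rw [mem_centralizer_singleton_iff]
          exact hmin m' h1 (by omega) D hD l d hd x hx
      exact fun y hy => mem_centralizer_singleton_iff.1 (h4 hy)
  exact key _ hspec.1 le_rfl

/-- **(B)** -/
theorem lin_V (h : Ln S P n L W Z C A 2) (hT : IsPGroup 2 T) (hB : SwapL.BL (S : Subgroup G) n ≤ T) {j : ℕ}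
    (hj : j ≤ n) (hy : YB T (zc (lev (S : Subgroup G) j)) N c) (htr : ∀ l m, ∃ t ∈ T, Mv N c t l m)
    (hs : YB.Sub T N c) (hZ : ∃ l, ¬ zc T ≤ N l) (hw : ∀ l, YB.Wide (zl (S : Subgroup G) P) N c l) (l : Λ) :
    (∀ q ∈ o2 P, Mv N c q l l) ∧ Nat.card (c l) = 4 ∧ c l ≤ zl (S : Subgroup G) P := by
  obtain ⟨m, hjm, hmn, hcm, D, hD, l₀, hl₀⟩ := exists_level h hT hB hj hy hZ
  have hle : zc (lev (S : Subgroup G) m) ≤ zc (lev (S : Subgroup G) j) :=
    (lev_isLev (S : Subgroup G) j).zc_le_zc (lev_mono _ hjm) (lev_le _ m)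
  have hym : YB T (zc (lev (S : Subgroup G) m)) N c := hy.mono_X hle (two_norm_zc hT hB (by omega)) hcm
  have hqm := qv h hT hB hmn
  have hDT : D ≤ T := (BO_le_B hmn hD).trans hB
  obtain ⟨h1, h2, h3⟩ := hym.lin hs (bo_fam T (zc (lev (S : Subgroup G) m))) hqm (hw l₀) ⟨D, BO_bo hD hDT, hl₀⟩
  obtain ⟨t, ht, htm⟩ := htr l₀ l
  refine ⟨fun q hq => ?_, ?_, ?_⟩
  · have h4 : t⁻¹ * q * t ∈ o2 P := by
      have := (mem_normalizer_iff.1 (inv_mem (hqm.TQ ht)) q).1 hq
      rwa [inv_inv] at this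
    have h5 := (htm.mul (h1 _ h4)).mul htm.inv
    have e : t * (t⁻¹ * q * t) * t⁻¹ = q := by group
    rwa [e] at h5
  · rw [← htm.2, card_cj, h2]
  · rw [← htm.2]
    rintro _ ⟨x, hx, rfl⟩
    exact YB.QV.memV hym hqm ht (h3 hx)

end line

end Cfsg.Agent.Omega.OM.Lev.Low
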