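import Cfsg.Agent.Omega.OM.Lev.Low.YInst
import Cfsg.Agent.Omega.OM.Lev.Low.LinV

/-!
# The fixed points of an element of `T` on a line of natural type are the points of a subfield

* `card_fix` : `|{x | d σ(x) = x}|`;
* `Co.card` : `|c i| = |F|`;
* `Co.sub` : the fixed points on `c i`; `sub_of_co` : `YB.Sub T N c`.
-/

set_option autoImplicit false
set_option linter.unusedSectionVars false

namespace Cfsg.Agent.Omega.OM.Lev.Low

open Subgroup Cfsg Cfsg.Agent.ZN Cfsg.Agent.ZN.ChoiceBase Cfsg.Agent.ZN.ChoiceSit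
open Cfsg.Agent.Omega.NatPair (ap ap_zero' ap_one' ap_one ap_mul ext2 ap_inv_ap ap_inj)
open Cfsg.Agent.Lib.SL2Mat
open Cfsg.Agent.Omega.SQ1.FFOne (MinH)
open Cfsg.Agent.Omega.NO3S.OneLine (NatC single_acts natC_of zc_elem)
open Cfsg.Agent.Omega.FFThm (NatK NatKM ActsSL)
open Cfsg.Agent.Omega.NO3S.ThmB (Nb Fx Pf)
open Cfsg.Agent.Omega.NO3S.ThmB.Nb (Rel rel_one rel_uniq)
open Cfsg.Agent.Omega.FrameFF (cv)

universe u

/-- the fixed points of `x ↦ d σ(x)` on a finite field -/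
theorem card_fix {F : Type} [Field F] [Finite F] (σ : RingAut F) {d x₀ : F} (hx₀ : x₀ ≠ 0) (h0 : d * σ x₀ = x₀) :
    ∃ m : ℕ, Nat.card F = Nat.card {x : F // d * σ x = x} ^ m := by
  have hd : d ≠ 0 := by
    rintro rfl
    rw [zero_mul] at h0
    exact hx₀ h0.symm
  have hσ : σ x₀ ≠ 0 := fun e => hx₀ (by rw [e, mul_zero] at h0; exact h0.symm)
  let K : Subfield F := RingHom.eqLocusField (σ : F →+* F) (RingHom.id F)
  have memK : ∀ x : F, x ∈ K ↔ σ x = x := fun x => Iff.rfl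
  have e : Nat.card {x : F // d * σ x = x} = Nat.card K := by
    refine Nat.card_congr ⟨fun x => ⟨x / x₀, ?_⟩, fun y => ⟨y * x₀, ?_⟩, fun x => ?_, fun y => ?_⟩
    · rw [memK, map_div₀, div_eq_div_iff hσ hx₀]
      have h1 := x.2
      apply mul_left_cancel₀ hd
      calc d * (σ x * x₀) = (d * σ x) * x₀ := by ring
        _ = (x : F) * (d * σ x₀) := by rw [h1, h0]
        _ = d * (x * σ x₀) := by ring
    · rw [map_mul, (memK _).1 y.2]
      calc d * ((y : F) * σ x₀) = y * (d * σ x₀) := by ring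
        _ = y * x₀ := by rw [h0]
    · exact Subtype.ext (div_mul_cancel₀ _ hx₀)
    · exact Subtype.ext (mul_div_cancel_right₀ _ hx₀)
  refine ⟨Module.finrank K F, ?_⟩
  rw [e]
  exact Module.natCard_eq_pow_finrank

variable {G : Type u} [Group G] [Finite G] {F : Type} [Field F] {T H : Subgroup G} {k : ℕ}

section co

variable {V D : Subgroup G} {M : NatC F T H V D k} {c : Fin k → Subgroup G}

/-- the coordinate on the line `c i` -/
theorem Co.bij (hc : Co M c) (i : Fin k) : Function.Bijective fun x : ↥(c i) => M.nat.e (x : G) i 0 := by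
  constructor
  · rintro ⟨x, hx⟩ ⟨y, hy⟩ (hxy : M.nat.e x i 0 = M.nat.e y i 0)
    have hxL := hc.le i hx
    have hyL := hc.le i hy
    have h1 : x * y⁻¹ ∈ D := by
      refine Li_D (mul_mem hxL (inv_mem hyL)) ?_
      rw [M.map_div hxL.1 hyL.1, Pi.sub_apply, Pi.sub_apply, hxy, sub_self]
    have h2 := hc.dis i _ (mul_mem hx (inv_mem hy)) h1
    exact Subtype.ext (mul_inv_eq_one.1 h2)
  · intro α
    obtain ⟨v, hv, e⟩ := exists_line M i α
    obtain ⟨a, ha, d, hd, rfl⟩ := hc.cov i v hv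
    refine ⟨⟨a, ha⟩, ?_⟩
    have h1 := M.nat.mul a (hc.le i ha).1 d (M.DV hd)
    rw [h1, Pi.add_apply, Pi.add_apply, D_e (M := M) hd] at e
    simpa using e

theorem Co.card (hc : Co M c) (i : Fin k) : Nat.card (c i) = Nat.card F :=
  Nat.card_congr (Equiv.ofBijective _ (hc.bij i))

end co

section nb

variable (hm : MinH H T) (N : NatKM F T H (zl T H) (cv T H) k) (hk : 0 < k) {c : Fin k → Subgroup G}
include hm N hk

/-- the fixed points on a line -/
theorem Co.sub [Finite F] [CharP F 2] (hc : Co (natC_of hm hk N.toNatK) c) {i : Fin k} {s : G} (hs : s ∈ T)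
    (hsm : MvI (natC_of hm hk N.toNatK) s i i) :
    ∃ m : ℕ, Nat.card (c i) = Nat.card ↥(c i ⊓ centralizer ({s} : Set G)) ^ m := by
  have h := nb hm N hk
  have hTH := hm.syl.1
  set M := natC_of hm hk N.toNatK with hM
  have f1 : Fx N i s := fx_of hm N hk hs hsm
  have f2 : Fx N i s⁻¹ := fx_of hm N hk (inv_mem hs) (hsm.inv (hTH hs))
  obtain ⟨σ, hσ⟩ := h.sem f1 f2
  set d := h.hH f1 1 with hd
  have hact : ∀ x ∈ c i, N.e (s * x * s⁻¹) i 0 = d * σ (N.e x i 0) := by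
    intro x hx
    have hxL := hc.le i hx
    have h1 : N.e (s * x * s⁻¹) i = Pf N i s (N.e x i) := h.Pf_spec f1 hxL.1
    have h2 : N.e x i = ![N.e x i 0, 0] := ext2 rfl hxL.2.2
    rw [h1, h2, h.hH_eq f1, hσ]
    rfl
  have hcj : ∀ x ∈ c i, s * x * s⁻¹ ∈ c i := by
    intro x hx
    rw [← hc.conj s hs i i hsm]
    exact ⟨x, hx, rfl⟩
  have hb := hc.bij i
  have hiff : ∀ x, x ∈ c i → (x ∈ centralizer ({s} : Set G) ↔ d * σ (N.e x i 0) = N.e x i 0) := by
    intro x hx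
    rw [mem_centralizer_singleton_iff]
    constructor
    · intro h1
      rw [← hact x hx]
      have e : s * x * s⁻¹ = x := by rw [← h1]; group
      rw [e]
    · intro h1
      rw [← hact x hx] at h1
      have h2 : (⟨s * x * s⁻¹, hcj x hx⟩ : ↥(c i)) = ⟨x, hx⟩ := hb.1 h1
      have h3 : s * x * s⁻¹ = x := congrArg Subtype.val h2
      exact (mul_inv_eq_iff_eq_mul.1 h3).symm
  have hcard : Nat.card ↥(c i ⊓ centralizer ({s} : Set G)) = Nat.card {x : F // d * σ x = x} := by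
    refine Nat.card_congr (Equiv.ofBijective (fun x => ⟨N.e (x : G) i 0, (hiff x x.2.1).1 x.2.2⟩) ⟨?_, ?_⟩)
    · rintro ⟨x, hx⟩ ⟨y, hy⟩ hxy
      have h1 : N.e x i 0 = N.e y i 0 := congrArg Subtype.val hxy
      have h2 : (⟨x, hx.1⟩ : ↥(c i)) = ⟨y, hy.1⟩ := hb.1 h1
      have h3 : x = y := congrArg Subtype.val h2
      exact Subtype.ext h3
    · rintro ⟨α, hα⟩
      obtain ⟨⟨x, hx⟩, e⟩ := hb.2 α
      have e' : N.e x i 0 = α := e
      exact ⟨⟨x, ⟨hx, (hiff x hx).2 (by rw [e']; exact hα)⟩⟩, Subtype.ext e'⟩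
  -- a fixed point
  have hVsq := M.Vsq
  have h2X : IsPGroup 2 (c i) := fun x => ⟨1, Subtype.ext (by
    rw [pow_one]
    exact hVsq x (hc.le i x.2).1)⟩
  have hne : c i ≠ ⊥ := by
    intro e
    have h1 := hc.card i
    rw [e, Subgroup.card_bot] at h1
    have h2 : 1 < Nat.card F := Finite.one_lt_card
    omega
  have hzs : zpowers s ≤ T := (zpowers_le).2 hs
  have hn : zpowers s ≤ normalizer (c i : Set G) := (zpowers_le).2 (mem_normalizer_iff_cj.2 (hc.conj s hs i i hsm))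
  have h3 := PLocal.OffenderStep.inf_centralizer_ne_bot (c i) (zpowers s) h2X (hm.syl.2.1.to_le hzs) hn hne
  obtain ⟨⟨x, hx⟩, hx1⟩ := (Subgroup.ne_bot_iff_exists_ne_one).1 h3
  obtain ⟨hxc, hxs⟩ := mem_inf.1 hx
  have hxC : x ∈ centralizer ({s} : Set G) := by
    rw [mem_centralizer_singleton_iff]
    exact (mem_centralizer_iff.1 hxs s (mem_zpowers s)).symm
  have hx0 : N.e x i 0 ≠ 0 := by
    intro e
    apply hx1
    refine Subtype.ext (hc.dis i x hxc ?_)
    exact Li_D (hc.le i hxc) e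
  obtain ⟨m, hm'⟩ := card_fix σ hx0 ((hiff x hxc).1 hxC)
  exact ⟨m, by rw [hc.card i, hcard]; exact hm'⟩

/-- **`YB.Sub` for natural type** -/
theorem sub_of_co [Finite F] [CharP F 2] (hc : Co (natC_of hm hk N.toNatK) c) {X : Subgroup G} {Ni : Fin k → Subgroup G}
    (hy : YB T X Ni c) : YB.Sub T Ni c := by
  intro i t ht hti
  obtain ⟨m, hmv⟩ := MvI.ex (natC_of hm hk N.toNatK) (hm.syl.1 ht) i
  have h1 := hc.conj t ht i m hmv
  have h2 := hy.line_inj (hti.2.symm.trans h1)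
  rw [← h2] at hmv
  exact Co.sub hm N hk hc ht hmv

end nb

end Cfsg.Agent.Omega.OM.Lev.Low
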