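import Cfsg.Agent.Omega.OM.Lev.Low.OneOf
import Cfsg.Agent.Omega.OM.Lev.Low.Sub

/-!
# TORUS, `T = B`: one block

* `exists_ybc` : `YB` for a parabolic of natural type, with `|c i| = |F|`, and `k = 1` if `T` fixes all lines;
* `exists_ybs` : the symmetric type, `|c i| = 2`.
-/

set_option autoImplicit false
set_option linter.unusedSectionVars false

namespace Cfsg.Agent.Omega.OM.Lev.Low

open Subgroup Cfsg Cfsg.Agent.ZN Cfsg.Agent.ZN.ChoiceBase Cfsg.Agent.ZN.ChoiceSit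
open Cfsg.Agent.Omega.SQ1.FFOne (MinH)
open Cfsg.Agent.Omega.NO3S.OneLine (NatC natC_of)
open Cfsg.Agent.Omega.OM.GLev
open Cfsg.Agent.Omega.FFThm (NatK NatKM SymKM)
open Cfsg.Agent.Omega.FrameFF (cv)

universe u

variable {G : Type u} [Group G] [Finite G]

section inst

variable {F : Type} [Field F] [Finite F] [CharP F 2] {T H X B ZJ : Subgroup G} {AA : Set (Subgroup G)} {k : ℕ}

/-- **`YB` for a parabolic of natural type, with the order of the lines.** -/
theorem exists_ybc (h : GE T H X AA) (b : BZ T X AA B ZJ) (N : NatKM F T H (zl T H) (cv T H) k) (hk : 0 < k)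
    (hex : ∃ A ∈ AA, ¬ A ≤ o2 H) (hZ : ¬ H ≤ centralizer (zc T : Set G)) :
    ∃ Ni c : Fin k → Subgroup G, YB T ZJ Ni c ∧ (∀ i, Nat.card (c i) = Nat.card F) ∧
      ((∀ t ∈ T, ∀ i, Mv Ni c t i i) → k = 1) ∧ ∃ i, ¬ zc T ≤ Ni i := by
  obtain ⟨L, j, hL, hsup⟩ := exists_ld h b N hk hex
  obtain ⟨c, hc⟩ := hL.exists_co
  have hy := hL.yb_aux hc fun i s hs t ht hsm htm => cyc_line h.hm N hk hs hsm ht htm
  refine ⟨_, c, hy, fun i => hc.card i, fun hfix => ?_, j, fun hcon => hZ (hsup.trans (sup_le ?_ ?_))⟩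
  · have key : ∀ i, i = j := by
      intro i
      obtain ⟨t, ht, htr⟩ := N.trans j i
      have hmv : MvI (natC_of h.hm hk N.toNatK) t j i := htr
      have h1 : Mv (Ni (natC_of h.hm hk N.toNatK) ZJ L j) c t j i :=
        ⟨hL.Ni_cj ht hmv, hc.conj t ht j i hmv⟩
      exact hy.uniq h1 (hfix t ht j)
    have h2 : Fintype.card (Fin k) = 1 := Fintype.card_eq_one_iff.2 ⟨j, key⟩
    rwa [Fintype.card_fin] at h2
  · exact NO3S.Level.le_centralizer_zc T
  · intro l hl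
    rw [mem_centralizer_iff]
    intro z hz
    have h1 := (mem_Ni.1 (hcon hz)).2 1 (one_mem _) (MvI.one j) l hl
    simp only [inv_one, one_mul, mul_one] at h1
    exact h1.symm

/-- **`YB` for a parabolic of symmetric type, with the order of the lines.** -/
theorem exists_ybs {m : ℕ} (h : GE T H X AA) (b : BZ T X AA B ZJ) (N : SymKM T H (zl T H) (cv T H) k m) (hk : 0 < k)
    (hm : 1 ≤ m) (hex : ∃ A ∈ AA, ¬ A ≤ o2 H) (hZ : ¬ H ≤ centralizer (zc T : Set G)) :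
    ∃ (ι : Type) (_ : Finite ι) (Ni c : ι → Subgroup G), YB T ZJ Ni c ∧ (∀ i, Nat.card (c i) = 2) ∧
      ∃ i, ¬ zc T ≤ Ni i := by
  obtain ⟨ι, hf, ⟨i⟩, W, K, d, hy, -, -, hd1, -, -, -, -, hsup⟩ := YSym.exists_yb h b N hk hm hex
  refine ⟨ι, hf, _, _, hy, fun i => ?_, i, fun hle => hZ ((hsup i).trans (sup_le ?_ ?_))⟩
  · have h2 : (d i) ^ 2 = 1 := hy.sq _ (hy.cX i (mem_zpowers _))
    rw [Nat.card_zpowers, orderOf_eq_prime h2 (hd1 i)]
  · exact NO3S.Level.le_centralizer_zc T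
  · exact le_centralizer_iff.1 hle

end inst

end Cfsg.Agent.Omega.OM.Lev.Low
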