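import Cfsg.Agent.Omega.OM.Lev.Low.LowMain
import Cfsg.Agent.Omega.OM.SwapL.PlugZ

/-!
# (LL) for `q = 2` inside `C_G(c)`, `c ∈ Z_J` of full support

* `no_low_two` : if `c ∈ Z_J` of full support lies in all `N l`, then `Z_J ≤ N l` for all `l`;
* `exists_yb_cent` (natural, symmetric), `exists_ybj_cent` : `YB` at the stage of `Y`; elements centralised by `Y` lie in
  all `N l`;
* `lowZ` : **`LowZ S n c`** for every `c ∈ Z_J` of full support.
-/

set_option autoImplicit false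
set_option linter.unusedSectionVars false

namespace Cfsg.Agent.Omega.OM.Lev.Low

open Subgroup Cfsg Cfsg.Agent.ZN Cfsg.Agent.ZN.ChoiceBase Cfsg.Agent.ZN.ChoiceSit
open Cfsg.Agent.MinSimple.MinParabolic (IsMinPar)
open Cfsg.Agent.Omega.FFThm (NatK NatKM SymKM OffM NoOverM ElemM)
open Cfsg.Agent.Omega.FrameFF (cv)
open Cfsg.Agent.Omega.OM.LevB (lb zc_B nxt_lev isLev_T bz_lev)
open Cfsg.Agent.Omega.OM.GLev
open Cfsg.Agent.Omega.OM.Lev.Uni (FrL)
open Cfsg.Agent.Omega.OM.SwapL (Ln ZL BG LowZ)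
open Cfsg.Agent.Omega.NO3S.Level (lev lev_mono lev_isLev Lev BO nxt lev_le_succ lev_le)
open Cfsg.Agent.Omega.NO3S.OneLine (NatC natC_of)
open Cfsg.Agent.Omega.SQ1.Bau (mem_sup_comm)

universe u

variable {G : Type u} [Group G]

theorem eq_of_two {H : Subgroup G} (h2 : Nat.card H = 2) {x y : G} (hx : x ∈ H) (hy : y ∈ H) (hx1 : x ≠ 1)
    (hy1 : y ≠ 1) : x = y := by
  have hne : (⟨x, hx⟩ : H) ≠ 1 := fun e => hx1 (congrArg Subtype.val e)
  have hne' : (⟨y, hy⟩ : H) ≠ 1 := fun e => hy1 (congrArg Subtype.val e)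
  obtain ⟨a, b, hab, hu⟩ := Nat.card_eq_two_iff.1 h2
  have key : ∀ z : H, z = a ∨ z = b := fun z => by
    have : z ∈ ({a, b} : Set H) := by rw [hu]; exact Set.mem_univ z
    simpa using this
  have h3 : (⟨x, hx⟩ : H) = ⟨y, hy⟩ := by
    rcases key 1 with h1 | h1 <;> rcases key ⟨x, hx⟩ with h2 | h2 <;> rcases key ⟨y, hy⟩ with h3 | h3
    · exact h2.trans h3.symm
    · exact absurd (h2.trans h1.symm) hne
    · exact absurd (h3.trans h1.symm) hne'
    · exact h2.trans h3.symm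
    · exact h2.trans h3.symm
    · exact absurd (h3.trans h1.symm) hne'
    · exact absurd (h2.trans h1.symm) hne
    · exact h2.trans h3.symm
  exact congrArg Subtype.val h3

section fr

variable {ι Λ : Type*} {B Q V X ZJ : Subgroup G} {L W Z C A : ι → Subgroup G}

/-- `Z i` lies in `V_Y = V ∩ ∏ c l` or in `V_N = V ∩ ⋂ N l`. -/
theorem Z_or (h : FrL B Q V X ZJ L W Z C A 2) [Finite G] [Finite ι] {T Y : Subgroup G}
    {N c : Λ → Subgroup G} [Finite Λ] (hY : YB T Y N c) (hV : YB.QV T Y Q V) (hBT : B ≤ T) (i : ι) :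
    Z i ≤ YB.Cp c Set.univ ∨ Z i ≤ YB.Np Y N Set.univ := by
  obtain ⟨b, hb, hne⟩ : ∃ b ∈ A i, ¬ ∀ v ∈ W i, b * v = v * b := by
    by_contra hcon
    push Not at hcon
    exact h.Ane i hcon
  have r := rt h hBT hb hne
  have hcard := h.cardZ i
  obtain ⟨z, hz, hz1⟩ : ∃ z ∈ Z i, z ≠ 1 := by
    by_contra hcon
    push Not at hcon
    have h1 : Z i = ⊥ := (Subgroup.eq_bot_iff_forall _).2 hcon
    rw [h1, Subgroup.card_bot] at hcard
    omega
  obtain ⟨v, hv, e⟩ := r.all z hz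
  obtain ⟨a, haV, d, hdV, ha, hd, rfl⟩ := hY.restr hV (p := Set.univ) (fun _ _ _ _ _ => by simp) hv
  have hac : a * (b * a * b⁻¹) ∈ YB.Cp c Set.univ := mul_mem ha (hY.Cp_conj r.bT (fun _ _ _ _ => Set.mem_univ _) ha)
  have hdc : d * (b * d * b⁻¹) ∈ YB.Np Y N Set.univ :=
    mul_mem hd (hY.Np_conj r.bT (fun _ _ _ _ => Set.mem_univ _) hd)
  have hra := YB.QV.memV hY hV r.bT haV
  have e2 : a * (b * a * b⁻¹) * (d * (b * d * b⁻¹)) = z := by
    rw [← e]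
    calc a * (b * a * b⁻¹) * (d * (b * d * b⁻¹)) = a * ((b * a * b⁻¹) * d) * (b * d * b⁻¹) := by group
      _ = a * d * (b * (a * d) * b⁻¹) := by rw [hY.cm (hV.VX hra) (hV.VX hdV)]; group
  by_cases h1 : a * (b * a * b⁻¹) = 1
  · right
    rw [h1, one_mul] at e2
    intro x hx
    by_cases hx1 : x = 1
    · rw [hx1]; exact one_mem _
    · rw [eq_of_two hcard hx hz hx1 hz1, ← e2]
      exact hdc
  · left
    intro x hx
    by_cases hx1 : x = 1
    · rw [hx1]; exact one_mem _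
    · rw [eq_of_two hcard hx (r.com a haV) hx1 h1]
      exact hac

/-- **(LL), `q = 2`, inside `C_G(z)`.** -/
theorem no_low_two (h : FrL B Q V X ZJ L W Z C A 2) [Finite G] [Finite ι] {T Y : Subgroup G}
    {N c : Λ → Subgroup G} [Finite Λ] (hY : YB T Y N c) (hV : YB.QV T Y Q V) (hBT : B ≤ T) {z : G} (hz : z ∈ ZJ)
    (hzC : ∀ i, z ∉ C i) (hzN : ∀ l, z ∈ N l) (l : Λ) : ZJ ≤ N l := by
  classical
  have hall : ∀ i, Z i ≤ YB.Np Y N Set.univ := by
    by_contra hcon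
    push Not at hcon
    obtain ⟨i₀, hi₀⟩ := hcon
    have hi₁ : Z i₀ ≤ YB.Cp c Set.univ := (Z_or h hY hV hBT i₀).resolve_right hi₀
    set p : Set ι := {i | ¬ Z i ≤ YB.Np Y N Set.univ} with hp
    have h1 : ZJ ≤ (⨆ i ∈ p, Z i) ⊔ ⨆ i ∈ pᶜ, Z i := by
      refine zj_le h fun i => ?_
      by_cases hi : i ∈ p
      · exact le_sup_of_le_left (le_iSup₂_of_le i hi le_rfl)
      · exact le_sup_of_le_right (le_iSup₂_of_le i hi le_rfl)
    have hC : (⨆ i ∈ p, Z i) ≤ YB.Cp c Set.univ :=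
      iSup₂_le fun i hi => (Z_or h hY hV hBT i).resolve_right hi
    have hN : (⨆ i ∈ pᶜ, Z i) ≤ YB.Np Y N Set.univ := iSup₂_le fun i hi => not_not.1 hi
    obtain ⟨a, ha, d, hd, e⟩ := hY.mem_sup_cm (hC.trans (hY.Cp_le _)) (hN.trans (YB.Np_le _)) (h1 hz)
    have h2 : a = 1 := by
      refine hY.eq_one (hC ha) fun m _ => ?_
      have h3 : a = z * d⁻¹ := by rw [e]; group
      rw [h3]
      exact mul_mem (hzN m) (inv_mem ((YB.mem_Np.1 (hN hd)).2 m (Set.mem_univ m)))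
    rw [h2, one_mul] at e
    apply hzC i₀
    rw [e]
    refine (iSup₂_le fun i hi => ?_ : (⨆ i ∈ pᶜ, Z i) ≤ C i₀) hd
    exact ((h.blk i).ZV).trans (h.WjC i₀ i fun e => hi (e ▸ hi₀))
  have h2 := zj_le h hall
  exact fun x hx => (YB.mem_Np.1 (h2 hx)).2 l (Set.mem_univ l)

end fr

variable [Finite G]

section nat

variable {F : Type} [Field F] {T H : Subgroup G} {k : ℕ} [Finite F] [CharP F 2] {X B ZJ : Subgroup G}
  {AA : Set (Subgroup G)} (h : GE T H X AA) (b : BZ T X AA B ZJ) (N : NatKM F T H (zl T H) (cv T H) k) (hk : 0 < k)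
include h b N hk

/-- `YB` for a parabolic of natural type; elements centralised by `H` lie in all `N l`. -/
theorem exists_yb_cent (hex : ∃ A ∈ AA, ¬ A ≤ o2 H) (hZ : ¬ H ≤ centralizer (zc T : Set G)) :
    ∃ Ni c : Fin k → Subgroup G, YB T ZJ Ni c ∧ (∃ i, ¬ zc T ≤ Ni i) ∧
      ∀ x ∈ ZJ, (∀ y ∈ H, y * x = x * y) → ∀ i, x ∈ Ni i := by
  obtain ⟨L, j, hL, hsup⟩ := exists_ld h b N hk hex
  obtain ⟨c, hc⟩ := hL.exists_co
  have hy := hL.yb_aux hc fun i s hs t ht hsm htm => cyc_line h.hm N hk hs hsm ht htm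
  refine ⟨_, c, hy, ⟨j, fun hcon => hZ (hsup.trans (sup_le ?_ ?_))⟩, fun x hx hxH i => ?_⟩
  · exact NO3S.Level.le_centralizer_zc T
  · intro l hl
    rw [mem_centralizer_iff]
    intro z hz
    have h1 := (mem_Ni.1 (hcon hz)).2 1 (one_mem _) (MvI.one j) l hl
    simp only [inv_one, one_mul, mul_one] at h1
    exact h1.symm
  · refine mem_Ni.2 ⟨hx, fun t ht _ l hl => ?_⟩
    have h1 : t⁻¹ * x * t = x := by
      have h2 := hxH t (h.hm.syl.1 ht)
      rw [mul_assoc, ← h2]; group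
    rw [h1]
    exact hxH l (hL.LH hl)

end nat

/-- **`YB` at the stage of `Y`**; elements centralised by `Y` lie in all `N l`. -/
theorem exists_ybj_cent (S : Sylow 2 G) {T Y : Subgroup G} {j : ℕ} (hT : Syl T Y)
    (hB : LevB.BL (S : Subgroup G) j ≤ T)
    (hP : IsMinPar T Y) (hc : Y ⊓ centralizer (o2 Y : Set G) ≤ o2 Y)
    (hlow : ∀ i < j, lev (S : Subgroup G) i ≤ o2 Y) (hn : ¬ lev (S : Subgroup G) j ≤ o2 Y)
    (hZ : ¬ Y ≤ centralizer (zc T : Set G)) :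
    ∃ (Λ : Type) (_ : Finite Λ) (N c : Λ → Subgroup G), YB T (zc (lev (S : Subgroup G) j)) N c ∧
      (∃ l, ¬ zc T ≤ N l) ∧ ∀ x ∈ zc (lev (S : Subgroup G) j), (∀ y ∈ Y, y * x = x * y) → ∀ l, x ∈ N l := by
  obtain ⟨X, AA', hge, hbz, hex, hcon⟩ := exists_ge S hT hB hP hc hlow hn hZ
  rcases hcon with ⟨F, _, _, _, k, hk, ⟨N⟩⟩ | ⟨k, m, hk, hm, ⟨N⟩⟩
  · obtain ⟨Ni, c, hy, hi, hx⟩ := exists_yb_cent hge hbz N hk hex hZ
    exact ⟨Fin k, inferInstance, Ni, c, hy, hi, hx⟩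
  · obtain ⟨ι, hf, ⟨i⟩, W, K, d, hy, -, -, -, -, -, -, hKH, hsup⟩ := YSym.exists_yb hge hbz N hk (by omega) hex
    refine ⟨ι, hf, _, _, hy, ⟨i, fun hle => hZ ((hsup i).trans (sup_le ?_ ?_))⟩, fun x _ hx l => ?_⟩
    · exact NO3S.Level.le_centralizer_zc T
    · exact le_centralizer_iff.1 hle
    · exact mem_centralizer_iff.2 fun y hy => hx y (hKH l hy)

section line

variable {ι : Type} [Finite ι] {S : Sylow 2 G} {P : Subgroup G} {n : ℕ} {L W Z C A : ι → Subgroup G}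

/-- **LL inside `C_G(c)`, `c` of full support.** -/
theorem lowZ (h : Ln S P n L W Z C A 2) {c : G} (hc : c ∈ ZL (S : Subgroup G) n) (hcf : ∀ i, c ∉ C i) :
    LowZ S n c := by
  intro T Y hT hB hY hYc hch hn
  by_contra hZ
  obtain ⟨j, hj, hlow, hnj⟩ := exists_stg (S : Subgroup G) hn
  have hBj : LevB.BL (S : Subgroup G) j ≤ T := (BL_mono (S : Subgroup G) (by omega : j ≤ n + 1)).trans hB
  obtain ⟨Λ, _, N, c', hy, ⟨l, hl⟩, hcN⟩ := exists_ybj_cent S hT hBj hY hch hlow hnj hZ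
  have hV := qv h hT.2.1 hB hj
  have hcX : c ∈ zc (lev (S : Subgroup G) j) := hV.VX (h.fr.ZJV hc)
  have h1 := no_low_two h.fr hy hV hB hc hcf
    (hcN c hcX fun y hy' => mem_centralizer_singleton_iff.1 (hYc hy')) l
  exact hl ((zc_T_le S hT.2.1 hB).trans h1)

end line

end Cfsg.Agent.Omega.OM.Lev.Low
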