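import Cfsg.Agent.Omega.OM.Lev.Low.FrFour
import Cfsg.Agent.Omega.OM.UniPlus

/-!
# TEXT LL v2 (helper584 #20624), (4), `q = 2`: the case `|π_l(V)| ≤ 2`

`V = C_X(Q)`, and the product of two elements of `V` which are nontrivial at `l` is trivial at `l`, for all `l`.

* `Hf.eq` : an element of `V` supported on the orbit of `l` and nontrivial is unique;
* `Hf.moves` : a root element `b` with `z ∈ [V, b]` nontrivial at `l` moves the orbit of `l`;
* `Hf.eq_z` : then `z = y y^b`, `y` supported on the orbit of `l`; `Hf.supp` : its support is the union of the two orbits;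
* `Hf.disj` : the supports of the `z i` are disjoint; `Hf.fixes` : `y` is fixed by `A j`, `j ≠ i`;
* `mem_ZJ_of` : an element of `C i` fixed by all `A j` is in `Z_J`; `mem_of_C` : `Z_J ∩ C i` is generated by the `Z j`, `j ≠ i`.
-/

set_option autoImplicit false
set_option linter.unusedSectionVars false

namespace Cfsg.Agent.Omega.OM.Lev.Low

open Subgroup Cfsg Cfsg.Agent.ZN Cfsg.Agent.ZN.ChoiceBase
open Cfsg.Agent.Omega.OM.Uni Cfsg.Agent.Omega.OM.Lev.Uni
open Cfsg.Agent.Omega.SQ1.Bau (mem_sup_comm card_sup_comm elem_comm elem_sq)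
open Cfsg.Agent.Omega.OM.Lev.Low.YB

universe u

variable {G : Type u} [Group G] {Λ : Type*}

/-- `|π_l(V)| ≤ 2` for all `l`. -/
structure Hf (T X Q V : Subgroup G) (N c : Λ → Subgroup G) : Prop where
  yb : YB T X N c
  qv : QV T X Q V
  half : ∀ l, ∀ v ∈ V, ∀ v' ∈ V, v ∉ N l → v' ∉ N l → v * v' ∈ N l

namespace Hf

variable {T X Q V : Subgroup G} {N c : Λ → Subgroup G} (h : Hf T X Q V N c)
include h

variable [Finite Λ]

theorem eq {l : Λ} {a a' : G} (ha : a ∈ V) (ha' : a' ∈ V) (hc : a ∈ Cp c (Orb Q N c l)) (hc' : a' ∈ Cp c (Orb Q N c l))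
    (hn : a ∉ N l) (hn' : a' ∉ N l) : a = a' := by
  have h1 := h.half l a ha a' ha' hn hn'
  have h2 := h.yb.eq_one (p := Orb Q N c l) (mul_mem hc hc') fun m hm =>
    (h.qv.cen_iff hm (mul_mem ha ha')).2 h1
  have h3 := eq_inv_of_mul_eq_one_left h2
  rwa [h.yb.inv_eq (h.qv.VX ha')] at h3

/-- conjugates of the elements supported on the orbit of `l` -/
theorem cj_mem {b : G} (hb : b ∈ T) {l m : Λ} (hm : Mv N c b l m) {y : G} (hy : y ∈ Cp c (Orb Q N c l)) :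
    b * y * b⁻¹ ∈ Cp c (Orb Q N c m) :=
  h.yb.Cp_conj hb (fun _ hl' _ hm' => orb_mv (h.qv.TQ hb) hm hl' hm') hy

theorem orb_eq {l m : Λ} (hm : m ∈ Orb Q N c l) : Orb Q N c l = Orb Q N c m := by
  ext x
  exact ⟨fun hx => orb_trans (orb_symm hm) hx, fun hx => orb_trans hm hx⟩

/-- **a root element which does not move the orbit of `l`** fixes the elements of `V` supported there -/
theorem fix_of {b : G} (hb : b ∈ T) {l m : Λ} (hm : Mv N c b l m) (hml : m ∈ Orb Q N c l) {y : G} (hy : y ∈ V)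
    (hyp : y ∈ Cp c (Orb Q N c l)) : b * y * b⁻¹ = y := by
  have hby := QV.memV h.yb h.qv hb hy
  have hbyp := h.cj_mem hb hm hyp
  rw [← h.orb_eq hml] at hbyp
  by_cases hyl : y ∈ N l
  · have h1 : y = 1 := h.yb.eq_one hyp fun m' hm' => (h.qv.cen_iff hm' hy).2 hyl
    rw [h1]; group
  · have h2 : b * y * b⁻¹ ∉ N l := fun h3 => hyl (hm.cen.1 ((h.qv.cen_iff hml hby).2 h3))
    exact h.eq hby hy hbyp hyp h2 hyl

variable {Z : Subgroup G}

/-- **a root element moves the orbits in the support of `z`** -/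
theorem moves {b : G} (r : Rt T V Z b) {l m : Λ} (hm : Mv N c b l m) {z : G} (hz : z ∈ Z) (hzl : z ∉ N l) :
    m ∉ Orb Q N c l := by
  intro hml
  obtain ⟨a, haV, ha, h1⟩ := h.yb.exists_part h.qv r hm hml hz
  refine hzl (h1 ?_)
  rw [h.fix_of r.bT hm hml haV ha, h.yb.mul_self (h.qv.VX haV)]
  exact one_mem _

/-- **`z = y y^b`** -/
theorem eq_z {b : G} (r : Rt T V Z b) (hZ : ∀ z ∈ Z, ∀ z' ∈ Z, z ≠ 1 → z' ≠ 1 → z = z') {l m : Λ} (hm : Mv N c b l m)
    {z : G} (hz : z ∈ Z) (hz1 : z ≠ 1) (hml : m ∉ Orb Q N c l) {y : G} (hy : y ∈ V) (hyp : y ∈ Cp c (Orb Q N c l))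
    (hyl : y ∉ N l) : z = y * (b * y * b⁻¹) := by
  have h1 : b * y * b⁻¹ ∈ N l := h.yb.Cp_cen (fun e => hml (orb_symm e)) (h.cj_mem r.bT hm hyp)
  refine hZ _ hz _ (r.com y hy) hz1 fun e => hyl ?_
  have h2 := mul_mem (e ▸ one_mem _ : y * (b * y * b⁻¹) ∈ N l) (inv_mem h1)
  rwa [mul_inv_cancel_right] at h2

/-- the support of `z = y y^b` -/
theorem supp {b : G} (hb : b ∈ T) {l m : Λ} (hm : Mv N c b l m) (hml : m ∉ Orb Q N c l) {y : G} (hy : y ∈ V)
    (hyp : y ∈ Cp c (Orb Q N c l)) (hyl : y ∉ N l) {l' : Λ} :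
    y * (b * y * b⁻¹) ∉ N l' ↔ l' ∈ Orb Q N c l ∨ l' ∈ Orb Q N c m := by
  have hby := QV.memV h.yb h.qv hb hy
  have hbyp := h.cj_mem hb hm hyp
  have hbyl : b * y * b⁻¹ ∉ N m := fun h3 => hyl (hm.cen.1 h3)
  constructor
  · intro h1
    by_contra hcon
    push Not at hcon
    exact h1 (mul_mem (h.yb.Cp_cen hcon.1 hyp) (h.yb.Cp_cen hcon.2 hbyp))
  · rintro (h1 | h1) h2
    · have h3 : l' ∉ Orb Q N c m := fun h3 => hml (orb_trans h1 (orb_symm h3))
      have h4 := mul_mem h2 (inv_mem (h.yb.Cp_cen h3 hbyp))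
      rw [mul_inv_cancel_right] at h4
      exact hyl ((h.qv.cen_iff h1 hy).1 h4)
    · have h3 : l' ∉ Orb Q N c l := fun h3 => hml (orb_trans h3 (orb_symm h1))
      have h4 := mul_mem (inv_mem (h.yb.Cp_cen h3 hyp)) h2
      rw [inv_mul_cancel_left] at h4
      exact hbyl ((h.qv.cen_iff h1 hby).1 h4)

end Hf

/-! ### The frame of `P` -/

section fr

variable {ι : Type*} {B Q V X ZJ : Subgroup G} {L W Z C A : ι → Subgroup G} {q : ℕ}

/-- an element of `C i` which is fixed by all `A j` is in `Z_J` -/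
theorem mem_ZJ_of (h : FrL B Q V X ZJ L W Z C A q) {x : G} (hx : x ∈ V) (hf : ∀ j, ∀ a ∈ A j, a * x = x * a) :
    x ∈ ZJ := by
  refine (h.mem_ZJ x).2 ⟨hx, fun b hb => ?_⟩
  have hbx : b * x * b⁻¹ ∈ V := by
    by_cases hι : Nonempty ι
    · obtain ⟨i⟩ := hι
      exact h.LV i b ((h.blk i).BL hb) x hx
    · have h1 : x = 1 := h.C0 x hx fun i => absurd ⟨i⟩ hι
      rw [h1]
      have e : b * 1 * b⁻¹ = 1 := by group
      rw [e]; exact one_mem _
  have h1 : b * x * b⁻¹ * x⁻¹ = 1 := by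
    refine h.C0 _ (mul_mem hbx (inv_mem hx)) fun j => ?_
    obtain ⟨w, hw, c, hc, rfl⟩ := h.WC j x hx
    -- an element of `A j` which moves `W j`
    have hane := h.Ane j
    push Not at hane
    obtain ⟨a, ha, v, hv, hne⟩ := hane
    have h2 : a * w = w * a := by
      have h3 := hf j a ha
      have h4 := h.AC j a ha c hc
      have h5 : a * w * c = w * a * c := by
        calc a * w * c = a * (w * c) := by group
          _ = w * (c * a) := by rw [h3]; group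
          _ = w * (a * c) := by rw [h4]
          _ = _ := by group
      exact mul_right_cancel h5
    have hwZ : w ∈ Z j := (h.blk j).mem_Z (h.AB j ha) (fun h6 => hne (h6 v hv)) hw h2
    have h7 := (h.blk j).cZ b hb w hwZ
    have h8 := h.BC j b hb c hc
    have h9 : b * c * b⁻¹ * c⁻¹ ∈ C j := mul_mem h8 (inv_mem hc)
    have e1 : w * (b * c * b⁻¹ * c⁻¹) = b * c * b⁻¹ * c⁻¹ * w := h.Vc (h.WV j hw) (h.CV j h9)
    have e2 : b * (w * c) * b⁻¹ * (w * c)⁻¹ = b * c * b⁻¹ * c⁻¹ := by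
      calc b * (w * c) * b⁻¹ * (w * c)⁻¹ = b * w * c * b⁻¹ * c⁻¹ * w⁻¹ := by group
        _ = w * b * c * b⁻¹ * c⁻¹ * w⁻¹ := by rw [h7]
        _ = w * (b * c * b⁻¹ * c⁻¹) * w⁻¹ := by group
        _ = _ := by rw [e1]; group
    rw [e2]
    exact h9
  exact mul_inv_eq_iff_eq_mul.1 (mul_inv_eq_one.1 h1)

/-- `Z_J ∩ C i` is generated by the `Z j`, `j ≠ i` -/
theorem mem_of_C (h : FrL B Q V X ZJ L W Z C A q) [Finite ι] {i : ι} {H : Subgroup G} (hH : ∀ j, j ≠ i → Z j ≤ H)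
    {x : G} (hx : x ∈ ZJ) (hc : x ∈ C i) : x ∈ H := by
  set H' : Subgroup G := ⨆ (j : ι) (_ : j ≠ i), Z j with hH'
  have h1 : H' ≤ C i := iSup₂_le fun j hj => ((h.blk j).ZV).trans (h.WjC i j hj.symm)
  have h2 : ZJ ≤ H' ⊔ Z i := zj_le h fun j => by
    by_cases e : j = i
    · rw [e]; exact le_sup_right
    · exact (le_iSup₂_of_le j e le_rfl : Z j ≤ H').trans le_sup_left
  obtain ⟨a, ha, z, hz, rfl⟩ := mem_sup_comm (fun a ha b hb => h.Vc (h.CV i (h1 ha)) (h.ZV i hb)) (h2 hx)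
  have h3 : z ∈ C i := by
    have := mul_mem (inv_mem (h1 ha)) hc
    rwa [inv_mul_cancel_left] at this
  have h4 : z ∈ W i ⊓ C i := mem_inf.2 ⟨(h.blk i).ZV hz, h3⟩
  rw [h.dir i, mem_bot] at h4
  rw [h4, mul_one]
  exact (iSup₂_le hH : H' ≤ H) ha

end fr

/-! ### The supports of the `z i` -/

section both

variable {ι : Type*} {B Q V X ZJ T Y : Subgroup G} {L W Z C A : ι → Subgroup G} {N c : Λ → Subgroup G} [Finite Λ]
  [Finite G]

/-- **the supports of the `z i` are disjoint** -/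
theorem Hf.disj (k : Hf T Y Q V N c) (h : FrL B Q V X ZJ L W Z C A 2) (hBT : B ≤ T) {i j : ι} (hij : i ≠ j)
    {z z' : G} (hz : z ∈ Z i) (hz' : z' ∈ Z j) {l : Λ} (hzl : z ∉ N l) (hzl' : z' ∉ N l) : False := by
  have hZ : ∀ i, ∀ z ∈ Z i, ∀ z' ∈ Z i, z ≠ 1 → z' ≠ 1 → z = z' := fun i z hz z' hz' h1 h2 =>
    UniPlus.eq_of_card_two (h.cardZ i) hz hz' h1 h2
  have hane := h.Ane i
  push Not at hane
  obtain ⟨b, hb, v, hv, hne⟩ := hane
  have hane' := h.Ane j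
  push Not at hane'
  obtain ⟨b', hb', v', hv', hne'⟩ := hane'
  have r := rt h hBT hb fun h1 => hne (h1 v hv)
  have r' := rt h hBT hb' fun h1 => hne' (h1 v' hv')
  obtain ⟨m, hm⟩ := k.yb.perm b r.bT l
  obtain ⟨m', hm'⟩ := k.yb.perm b' r'.bT l
  have hml := k.moves r hm hz hzl
  have hml' := k.moves r' hm' hz' hzl'
  obtain ⟨y, hy, hyp, hyl⟩ := k.yb.exists_single k.qv l
  have hz1 : z ≠ 1 := fun e => hzl (e ▸ one_mem _)
  have hz1' : z' ≠ 1 := fun e => hzl' (e ▸ one_mem _)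
  have e1 := k.eq_z r (hZ i) hm hz hz1 hml hy hyp hyl
  have e2 := k.eq_z r' (hZ j) hm' hz' hz1' hml' hy hyp hyl
  -- `b'` centralises `z`
  have hzC : z ∈ C j := h.WjC j i hij.symm ((h.blk i).ZV hz)
  have h3 : b' * z * b'⁻¹ = z := by rw [h.AC j b' hb' z hzC]; group
  have h4 : z ∉ N m' := fun h5 => hzl (hm'.cen.1 (by rwa [h3]))
  rw [e1] at h4
  have h5 := ((k.supp r.bT hm hml hy hyp hyl).1 h4).resolve_left hml'
  have hby := QV.memV k.yb k.qv r.bT hy
  have hby' := QV.memV k.yb k.qv r'.bT hy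
  have h6 := k.cj_mem r'.bT hm' hyp
  rw [← k.orb_eq h5] at h6
  have h7 : b * y * b⁻¹ = b' * y * b'⁻¹ := by
    refine k.eq hby hby' (k.cj_mem r.bT hm hyp) h6 (fun h8 => hyl (hm.cen.1 h8)) fun h8 => hyl (hm'.cen.1 ?_)
    exact (k.qv.cen_iff h5 hby').2 h8
  have h8 : z = z' := by rw [e1, e2, h7]
  have h9 : z ∈ W j ⊓ C j := mem_inf.2 ⟨(h.blk j).ZV (h8 ▸ hz'), hzC⟩
  rw [h.dir j, mem_bot] at h9
  exact hz1 h9

/-- **`y` is fixed by `A j`, `j ≠ i`** -/
theorem Hf.fixes (k : Hf T Y Q V N c) (h : FrL B Q V X ZJ L W Z C A 2) (hBT : B ≤ T) {i j : ι} (hij : i ≠ j)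
    {z : G} (hz : z ∈ Z i) {l : Λ} (hzl : z ∉ N l) {y : G} (hy : y ∈ V) (hyp : y ∈ Cp c (Orb Q N c l)) {a : G}
    (ha : a ∈ A j) : a * y = y * a := by
  by_cases hne : ∀ v ∈ W j, a * v = v * a
  · obtain ⟨w, hw, c', hc', rfl⟩ := h.WC j y hy
    have c1 : Commute a w := hne w hw
    have c2 : Commute a c' := h.AC j a ha c' hc'
    exact (c1.mul_right c2).eq
  have r := rt h hBT ha hne
  obtain ⟨m, hm⟩ := k.yb.perm a r.bT l
  by_cases hml : m ∈ Orb Q N c l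
  · exact mul_inv_eq_iff_eq_mul.1 (k.fix_of r.bT hm hml hy hyp)
  by_cases hyl : y ∈ N l
  · have h1 : y = 1 := k.yb.eq_one hyp fun m' hm' => (k.qv.cen_iff hm' hy).2 hyl
    rw [h1, mul_one, one_mul]
  exfalso
  refine k.disj h hBT hij hz (r.com y hy) hzl ?_
  exact (k.supp r.bT hm hml hy hyp hyl).2 (Or.inl (self_mem Q l))

/-- **the decomposition of `y`** -/
theorem Hf.exists_dec (k : Hf T Y Q V N c) (h : FrL B Q V X ZJ L W Z C A 2) [Finite ι] (hBT : B ≤ T) {i : ι}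
    {z : G} (hz : z ∈ Z i) {l : Λ} (hzl : z ∉ N l) {y : G} (hy : y ∈ V) (hyp : y ∈ Cp c (Orb Q N c l)) :
    ∃ v ∈ W i, ∃ y' ∈ ZJ, y' ∈ C i ∧ y = v * y' ∧ ∀ l', z ∉ N l' → y' ∈ N l' := by
  obtain ⟨v, hv, y', hy', rfl⟩ := h.WC i y hy
  have hZJ : y' ∈ ZJ := by
    refine mem_ZJ_of h (h.CV i hy') fun j a ha => ?_
    by_cases e : i = j
    · subst e
      exact h.AC i a ha y' hy'
    · have h1 := k.fixes h hBT e hz hzl hy hyp ha
      have h2 := h.AC j a ha v (h.WjC j i (Ne.symm e) hv)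
      have h3 : v * (a * y') = v * (y' * a) := by
        calc v * (a * y') = (v * a) * y' := by group
          _ = (a * v) * y' := by rw [h2]
          _ = a * (v * y') := by group
          _ = v * y' * a := h1
          _ = _ := by group
      exact mul_left_cancel h3
  refine ⟨v, hv, y', hZJ, hy', rfl, fun l' hl' => ?_⟩
  refine mem_of_C h (fun j hj w hw => ?_) hZJ hy'
  by_contra hw'
  exact k.disj h hBT (Ne.symm hj) hz hw hl' hw'

end both

end Cfsg.Agent.Omega.OM.Lev.Low
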