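import Cfsg.Agent.Omega.OM.Lev.Low.TwoBlk

/-!
# TORUS, `k = 2 = q` (helper109 #23071): the residual frame and its first consequences

`Res S B B0 X M N1 D K c z z1 z2`: `S` a Sylow 2-subgroup, `B` of index 2 in `S`, `B0 = C_S(X)`, one block `K` over `B0`
with `PB B0 K M N1 D 4`, `c ≤ [M, K]` a `B`-invariant complement to `D` in `N1`, `X = c × C_X(K)` (`B`-invariant),
`Ω₁Z(S) = ⟨z⟩`, `z = z1 z2`, `1 ≠ z1 ∈ c`, `1 ≠ z2 ∈ C_X(K)`.

* `inter` : `C_X(K) ∩ C_X(K)^s = 1`, so `|X| = 16`; `c_inter`, `sup_eq` : `X = c × c^s`;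
* `Loc` : if `L = ⟨K, S⟩` is local, `O = O₂(L)`: `z ∈ Ω₁Z(O)`, `[M, K] ≤ Ω₁Z(O)`, `O ≤ B0`, `X ≤ Ω₁Z(O)`.
-/

set_option autoImplicit false
set_option linter.unusedSectionVars false

namespace Cfsg.Agent.Omega.OM.Lev.Low.TwoRes

open Subgroup Cfsg Cfsg.Agent.ZN Cfsg.Agent.ZN.ChoiceBase
open Cfsg.Agent.Omega.SQ1.Bau (elem_comm elem_sq card_sup_comm mem_sup_comm)
open Cfsg.Agent.Omega.MinPar (IsLoc)

universe u

variable {G : Type u} [Group G] [Finite G]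

/-- a 2-group `U` normalising `N` of even order fixes a nontrivial element of `N` -/
theorem exists_fix {U N : Subgroup G} (hU : IsPGroup 2 U)
    (hn : ∀ u ∈ U, ∀ n ∈ N, u * n * u⁻¹ ∈ N) (hN : 2 ∣ Nat.card N) :
    ∃ v ∈ N, v ≠ 1 ∧ ∀ u ∈ U, u * v * u⁻¹ = v := by
  have : Fact (Nat.Prime 2) := ⟨Nat.prime_two⟩
  let act : MulAction U N :=
    { smul := fun u n => ⟨(u : G) * n * (u : G)⁻¹, hn u u.2 n n.2⟩
      one_smul := fun n => Subtype.ext (by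
        show (1 : G) * n * (1 : G)⁻¹ = n
        group)
      mul_smul := fun a b n => Subtype.ext (by
        show ((a : G) * b) * n * ((a : G) * b)⁻¹ = (a : G) * ((b : G) * n * (b : G)⁻¹) * (a : G)⁻¹
        group) }
  have hone : (1 : N) ∈ MulAction.fixedPoints U N := by
    intro u
    apply Subtype.ext
    show (u : G) * 1 * (u : G)⁻¹ = 1
    group
  obtain ⟨v, hv, hv1⟩ := hU.exists_fixed_point_of_prime_dvd_card_of_fixed_point N hN hone
  refine ⟨v, v.2, fun h => hv1 (Subtype.ext h.symm), ?_⟩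
  intro u hu
  exact congrArg Subtype.val (hv ⟨u, hu⟩)

/-- a nontrivial elementary abelian normal subgroup of the 2-group `S` meets `Ω₁Z(S)` -/
theorem exists_zc {S I : Subgroup G} (hS : IsPGroup 2 S) (hIS : I ≤ S) (hI : ∀ x ∈ I, x ^ 2 = 1)
    (hn : S ≤ normalizer (I : Set G)) (hne : I ≠ ⊥) : ∃ x ∈ I, x ≠ 1 ∧ x ∈ zc S := by
  have hIp : IsPGroup 2 I := hS.to_le hIS
  have h2 : 2 ∣ Nat.card I := by
    obtain ⟨n, hn⟩ := IsPGroup.iff_card.1 hIp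
    have : n ≠ 0 := by
      rintro rfl
      rw [pow_zero] at hn
      exact hne (Subgroup.eq_bot_of_card_eq I hn)
    rw [hn]
    exact dvd_pow_self 2 this
  obtain ⟨v, hv, hv1, hfix⟩ := exists_fix hS
    (fun u hu n hn' => (mem_normalizer_iff.1 (hn hu) n).1 hn') h2
  exact ⟨v, hv, hv1, ChoiceBase.mem_zc.2 ⟨hIS hv, hI v hv, fun u hu => mul_inv_eq_iff_eq_mul.1 (hfix u hu)⟩⟩

/-- The residual frame. -/
structure Res (S : Sylow 2 G) (B B0 X M N1 D K c : Subgroup G) (z z1 z2 : G) : Prop where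
  BS : B ≤ (S : Subgroup G)
  SB : (S : Subgroup G) ≤ normalizer (B : Set G)
  idx : ∀ a ∈ (S : Subgroup G), a ∉ B → ∀ b ∈ (S : Subgroup G), b ∉ B → a * b ∈ B
  ne : ∃ s ∈ (S : Subgroup G), s ∉ B
  SX : (S : Subgroup G) ≤ normalizer (X : Set G)
  X2 : IsElementaryAbelian 2 X
  B0eq : B0 = (S : Subgroup G) ⊓ centralizer (X : Set G)
  B0B : B0 ≤ B
  XB0 : X ≤ B0
  pb : PB B0 K M N1 D 4
  BN : B ≤ normalizer ((⁅M, K⁆ : Subgroup G) : Set G)
  yb : YB B X (fun _ : Fin 1 => X ⊓ centralizer (K : Set G)) (fun _ => c)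
  cN1 : c ≤ N1
  N1c : N1 ≤ c ⊔ D
  cD : c ⊓ D = ⊥
  c4 : Nat.card c = 4
  cV : c ≤ ⁅M, K⁆
  zz : z ∈ zc (S : Subgroup G)
  zS : ∀ x ∈ zc (S : Subgroup G), x ≠ 1 → x = z
  ez : z = z1 * z2
  z1c : z1 ∈ c
  z1n : z1 ≠ 1
  z2c : z2 ∈ X ⊓ centralizer (K : Set G)
  z2n : z2 ≠ 1
  X16 : 16 ≤ Nat.card X

namespace Res

variable {S : Sylow 2 G} {B B0 X M N1 D K c : Subgroup G} {z z1 z2 : G} (h : Res S B B0 X M N1 D K c z z1 z2)
include h

theorem XS : X ≤ (S : Subgroup G) := h.XB0.trans (h.B0B.trans h.BS)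

theorem cX : c ≤ X := h.yb.cX 0

theorem B_c : B ≤ normalizer (c : Set G) := fun b hb => by
  obtain ⟨m, hm⟩ := h.yb.perm b hb 0
  rw [mem_normalizer_iff_cj]
  exact hm.2

theorem B_N : B ≤ normalizer ((X ⊓ centralizer (K : Set G) : Subgroup G) : Set G) := fun b hb => by
  obtain ⟨m, hm⟩ := h.yb.perm b hb 0
  rw [mem_normalizer_iff_cj]
  exact hm.1

theorem c_inf : c ⊓ (X ⊓ centralizer (K : Set G)) = ⊥ := h.yb.triv 0

theorem X_eq : X = c ⊔ (X ⊓ centralizer (K : Set G)) := by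
  apply le_antisymm
  · intro x hx
    obtain ⟨a, ha, hax⟩ := h.yb.fix 0 x hx
    have e : x = a⁻¹ * (a * x) := by group
    rw [e]
    exact mul_mem (mem_sup_left (inv_mem ha)) (mem_sup_right hax)
  · exact sup_le h.cX inf_le_left

theorem Xcomm {x y : G} (hx : x ∈ X) (hy : y ∈ X) : x * y = y * x := elem_comm h.X2 x hx y hy

/-- `|X| = 4 |C_X(K)|` -/
theorem card_X : Nat.card X = 4 * Nat.card ↥(X ⊓ centralizer (K : Set G)) := by
  have h1 := card_sup_comm (A := c) (B := X ⊓ centralizer (K : Set G)) fun a ha b hb => h.Xcomm (h.cX ha) hb.1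
  rw [← h.X_eq, h.c_inf, Subgroup.card_bot, mul_one, h.c4] at h1
  exact h1

theorem zX : z ∈ X := by
  rw [h.ez]
  exact mul_mem (h.cX h.z1c) h.z2c.1

/-- `z` does not centralise `K` -/
theorem zK : z ∉ centralizer (K : Set G) := by
  intro hz
  have h1 : z1 ∈ c ⊓ (X ⊓ centralizer (K : Set G)) := by
    refine mem_inf.2 ⟨h.z1c, mem_inf.2 ⟨h.cX h.z1c, ?_⟩⟩
    have e : z1 = z * z2⁻¹ := by rw [h.ez]; group
    rw [e]
    exact mul_mem hz (inv_mem (mem_inf.1 h.z2c).2)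
  rw [h.c_inf] at h1
  exact h.z1n (mem_bot.1 h1)

/-- `z ∉ c` -/
theorem z_c : z ∉ c := by
  intro hz
  have h1 : z2 ∈ c ⊓ (X ⊓ centralizer (K : Set G)) := by
    refine mem_inf.2 ⟨?_, h.z2c⟩
    have e : z2 = z1⁻¹ * z := by rw [h.ez]; group
    rw [e]
    exact mul_mem (inv_mem h.z1c) hz
  rw [h.c_inf] at h1
  exact h.z2n (mem_bot.1 h1)

/-- an `S`-invariant subgroup of `X` without `z` is trivial -/
theorem eq_bot {I : Subgroup G} (hI : I ≤ X) (hS : (S : Subgroup G) ≤ normalizer (I : Set G)) (hz : z ∉ I) :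
    I = ⊥ := by
  by_contra hne
  obtain ⟨x, hx, hx1, hxS⟩ := exists_zc S.isPGroup' (hI.trans h.XS) (fun x hx => elem_sq h.X2 x (hI hx)) hS hne
  rw [h.zS x hxS hx1] at hx
  exact hz hx

/-- a `B`-invariant subgroup and its `s`-conjugate -/
theorem norm_inf {I : Subgroup G} (hB : B ≤ normalizer (I : Set G)) {s : G} (hs : s ∈ (S : Subgroup G)) (hsB : s ∉ B) :
    (S : Subgroup G) ≤ normalizer ((I ⊓ cj s I : Subgroup G) : Set G) := by
  have hfix : ∀ b ∈ B, cj b I = I := fun b hb => cj_eq_of_mem_normalizer (hB hb)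
  intro t ht
  rw [mem_normalizer_iff_cj, cj_inf]
  by_cases htB : t ∈ B
  · have h1 : s⁻¹ * t * s ∈ B := by
      have := (mem_normalizer_iff.1 (inv_mem (h.SB hs)) t).1 htB
      rwa [inv_inv] at this
    have h2 : cj t (cj s I) = cj s I := by
      have e : t * s = s * (s⁻¹ * t * s) := by group
      rw [cj_cj, e, ← cj_cj, hfix _ h1]
    rw [hfix t htB, h2]
  · have h1 : cj t (cj s I) = I := by rw [cj_cj, hfix _ (h.idx t ht htB s hs hsB)]
    have hsi : s⁻¹ ∉ B := fun h1 => hsB (by simpa using inv_mem h1)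
    have h2 : cj t I = cj s I := by
      have h3 : s⁻¹ * t ∈ B := h.idx _ (inv_mem hs) hsi t ht htB
      have e : t = s * (s⁻¹ * t) := by group
      rw [e, ← cj_cj, hfix _ h3]
    rw [h1, h2, inf_comm]

/-- `C_X(K) ∩ C_X(K)^s = 1` -/
theorem inter {s : G} (hs : s ∈ (S : Subgroup G)) (hsB : s ∉ B) :
    (X ⊓ centralizer (K : Set G)) ⊓ cj s (X ⊓ centralizer (K : Set G)) = ⊥ :=
  h.eq_bot (inf_le_left.trans inf_le_left) (h.norm_inf h.B_N hs hsB) fun hz => h.zK (mem_inf.1 (mem_inf.1 hz).1).2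

theorem cjX {s : G} (hs : s ∈ (S : Subgroup G)) {I : Subgroup G} (hI : I ≤ X) : cj s I ≤ X := by
  have h1 := cj_mono s hI
  rwa [cj_eq_of_mem_normalizer (h.SX hs)] at h1

/-- `|X| = 16`, `|C_X(K)| = 4` -/
theorem card_N : Nat.card ↥(X ⊓ centralizer (K : Set G)) = 4 := by
  obtain ⟨s, hs, hsB⟩ := h.ne
  set I := X ⊓ centralizer (K : Set G) with hI
  have h1 := card_sup_comm (A := I) (B := cj s I) fun a ha b hb => h.Xcomm (mem_inf.1 ha).1
    (h.cjX hs (inf_le_left) hb)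
  rw [h.inter hs hsB, Subgroup.card_bot, mul_one, card_cj] at h1
  have h2 : Nat.card ↥(I ⊔ cj s I) ≤ Nat.card X :=
    Subgroup.card_le_of_le (sup_le inf_le_left (h.cjX hs inf_le_left))
  rw [h1] at h2
  have h3 := h.card_X
  have h4 := h.X16
  rw [← hI] at h3
  have h5 : 0 < Nat.card I := Nat.card_pos
  have h6 : Nat.card I ≤ 4 := by
    by_contra hcon
    push Not at hcon
    nlinarith
  omega

theorem card_X' : Nat.card X = 16 := by rw [h.card_X, h.card_N]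

/-- `c ∩ c^s = 1` -/
theorem c_inter {s : G} (hs : s ∈ (S : Subgroup G)) (hsB : s ∉ B) : c ⊓ cj s c = ⊥ :=
  h.eq_bot (inf_le_left.trans h.cX) (h.norm_inf h.B_c hs hsB) fun hz => h.z_c (mem_inf.1 hz).1

/-- `X = c × c^s` -/
theorem sup_eq {s : G} (hs : s ∈ (S : Subgroup G)) (hsB : s ∉ B) : c ⊔ cj s c = X := by
  have h1 := card_sup_comm (A := c) (B := cj s c) fun a ha b hb => h.Xcomm (h.cX ha) (h.cjX hs h.cX hb)
  rw [h.c_inter hs hsB, Subgroup.card_bot, mul_one, card_cj, h.c4] at h1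
  exact Subgroup.eq_of_le_of_card_ge (sup_le h.cX (h.cjX hs h.cX)) (by rw [h1, h.card_X'])

/-! ### `⟨K, S⟩` local -/

section loc

variable (hG : IsCharacteristicTwoType G) (hL : IsLoc (S : Subgroup G) (K ⊔ (S : Subgroup G)))
include hG hL

theorem z_mem : z ∈ zc (o2 (K ⊔ (S : Subgroup G))) := by
  have hO := hL.o2_le S
  have hz := ChoiceBase.mem_zc.1 h.zz
  have h1 : z ∈ o2 (K ⊔ (S : Subgroup G)) := hL.char2 S hG
    ⟨mem_sup_right hz.1, mem_centralizer_iff.2 fun x hx => hz.2.2 x (hO hx)⟩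
  exact ChoiceBase.mem_zc.2 ⟨h1, hz.2.1, fun x hx => hz.2.2 x (hO hx)⟩

theorem norm_zc : K ⊔ (S : Subgroup G) ≤ normalizer (zc (o2 (K ⊔ (S : Subgroup G))) : Set G) :=
  (ChoiceSit.le_normalizer_o2 _).trans (NO3S.Level.normalizer_le_zc _)

/-- `[M, K] ≤ Ω₁Z(O)` -/
theorem V_le : ⁅M, K⁆ ≤ zc (o2 (K ⊔ (S : Subgroup G))) := by
  have hz := h.z_mem hG hL
  have hn := h.norm_zc hG hL
  set O := zc (o2 (K ⊔ (S : Subgroup G))) with hO
  have key : ∀ k ∈ K, k * z1 * k⁻¹ * z1⁻¹ ∈ M ⊓ O := by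
    intro k hk
    refine mem_inf.2 ⟨mul_mem (h.pb.Nn k hk _ (h.pb.N1N (h.cN1 h.z1c))) (inv_mem (h.pb.N1N (h.cN1 h.z1c))), ?_⟩
    have h1 : k * z * k⁻¹ * z⁻¹ ∈ O := mul_mem ((mem_normalizer_iff.1 (hn (mem_sup_left hk)) z).1 hz) (inv_mem hz)
    have hk2 : k * z2 = z2 * k := mem_centralizer_iff.1 h.z2c.2 k hk
    have e : k * z * k⁻¹ * z⁻¹ = k * z1 * k⁻¹ * z1⁻¹ := by
      rw [h.ez]
      have e1 : k * (z1 * z2) * k⁻¹ = k * z1 * k⁻¹ * z2 := by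
        calc k * (z1 * z2) * k⁻¹ = k * z1 * k⁻¹ * (k * z2) * k⁻¹ := by group
          _ = k * z1 * k⁻¹ * (z2 * k) * k⁻¹ := by rw [hk2]
          _ = _ := by group
      rw [e1]; group
    rwa [e] at h1
  have h2 : K ≤ normalizer ((M ⊓ O : Subgroup G) : Set G) := by
    intro k hk
    rw [mem_normalizer_iff_cj, cj_inf, cj_eq_of_mem_normalizer (h.pb.LN hk),
      cj_eq_of_mem_normalizer (hn (mem_sup_left hk))]
  refine (h.pb.V_le inf_le_left h2 fun hle => ?_).trans inf_le_right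
  obtain ⟨l, hl, hm⟩ := h.pb.mv
  have h3 := hle (key l hl)
  have hz1 := h.cN1 h.z1c
  have h4 : l * z1 * l⁻¹ ∈ N1 := by
    have h5 := mul_mem (h.pb.N01 h3) hz1
    rwa [inv_mul_cancel_right] at h5
  have h5 := h.pb.opp l hl hm z1 hz1 h4
  have h6 : z1 ∈ D := by
    have h7 := h.pb.N0c l hl _ h5
    have e : z1 = l⁻¹ * (l * z1 * l⁻¹) * l := by group
    have e2 : l⁻¹ * (l * z1 * l⁻¹) * l = l * z1 * l⁻¹ := by
      calc l⁻¹ * (l * z1 * l⁻¹) * l = l⁻¹ * (l * z1 * l⁻¹ * l) := by group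
        _ = l⁻¹ * (l * (l * z1 * l⁻¹)) := by rw [h7]
        _ = _ := by group
    rw [e, e2]
    exact h5
  have h7 : z1 ∈ c ⊓ D := mem_inf.2 ⟨h.z1c, h6⟩
  rw [h.cD] at h7
  exact h.z1n (mem_bot.1 h7)

/-- `[M, K]^g ≤ Ω₁Z(O)` -/
theorem cj_V_le {g : G} (hg : g ∈ K ⊔ (S : Subgroup G)) : cj g ⁅M, K⁆ ≤ zc (o2 (K ⊔ (S : Subgroup G))) := by
  have h1 := cj_mono g (h.V_le hG hL)
  rwa [cj_eq_of_mem_normalizer (h.norm_zc hG hL hg)] at h1

/-- `X ≤ Ω₁Z(O)` -/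
theorem X_le : X ≤ zc (o2 (K ⊔ (S : Subgroup G))) := by
  obtain ⟨s, hs, hsB⟩ := h.ne
  rw [← h.sup_eq hs hsB]
  exact sup_le (h.cV.trans (h.V_le hG hL)) ((cj_mono s h.cV).trans (h.cj_V_le hG hL (mem_sup_right hs)))

/-- `O ≤ B0` -/
theorem O_le : o2 (K ⊔ (S : Subgroup G)) ≤ B0 := by
  rw [h.B0eq]
  refine le_inf (hL.o2_le S) fun x hx => mem_centralizer_iff.2 fun y hy => ?_
  exact ((ChoiceBase.mem_zc.1 (h.X_le hG hL hy)).2.2 x hx).symm

end loc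

end Res

end Cfsg.Agent.Omega.OM.Lev.Low.TwoRes
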