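import Cfsg.Agent.Omega.OM.Lev.Low.TorusK.Inst
import Cfsg.Agent.Omega.OM.Lev.Low.TorusK.Fam
import Cfsg.Agent.Omega.EK3.UniLevK

/-!
# `NoLowK`: no minimal parabolic of smaller stage over `B` moves `Ω₁(Z(B))`, `q = 2`, `k ≥ 3`

`noLowK_of` : `NoLowK K` from the local fields (`LocOf`) and the torus theorem (`TorusOf`).
-/

set_option autoImplicit false
set_option linter.unusedSectionVars false

namespace Cfsg.Agent.Omega.OM.Lev.Low.PlugE

open Subgroup Cfsg Cfsg.Agent.ZN.ChoiceBase Cfsg.Agent.ZN.ChoiceSit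
open Cfsg.Agent.ZN (jj zj bau zc zl o2)
open Cfsg.Agent.MinSimple.MinParabolic (IsMinPar)
open Cfsg.Agent.Omega.FFThm (NatKM)
open Cfsg.Agent.Omega.FrameFF (cv)
open Cfsg.Agent.Omega.Frame (Cls)
open Cfsg.Agent.Omega.OM.Lev.Uni (FrL)
open Cfsg.Agent.Omega.OM.SwapL (Ln ZL BL)
open Cfsg.Agent.Omega.NO3S.Level (lev lev_mono lev_isLev)
open Cfsg.Agent.Omega.NO3S.EThree.Frame (Bg)
open Cfsg.Agent.Omega.MinPar (IsParS)
open Cfsg.Agent.Omega.OM.Lev.Low.TorusK (TK BK NA Loc stM stY tk_of bk_of)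
open Cfsg.Agent.Omega.OM.Lev.Low.Core (Blk exists_blk)

universe u

/-- The local fields (helper548). -/
def LocOf : Prop :=
  ∀ (G : Type u) [Group G] [Finite G] (k : ℕ) (S : Sylow 2 G) (P : Subgroup G) (n : ℕ)
    (L W Z C A : Fin k → Subgroup G), 3 ≤ k → Ln S P n L W Z C A 2 →
    Bg S P (BL (S : Subgroup G) n) (ZL (S : Subgroup G) n) L W Z C 2 →
    (∀ R, IsParS (S : Subgroup G) R → lev (S : Subgroup G) n ≤ o2 R) → ∀ j ≤ n, ∀ z ∈ ZL (S : Subgroup G) n,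
      (∀ i, z ∉ C i) → Loc (S : Subgroup G) (BL (S : Subgroup G) n) (ZL (S : Subgroup G) n)
        (LevB.BL (S : Subgroup G) j) (zc (lev (S : Subgroup G) j)) Z z

/-- The torus theorem (helper607). -/
def TorusOf : Prop :=
  ∀ (G : Type u) [Group G] [Finite G] (k : ℕ) (S B Q V Xn ZJ B0 X M0 Y0 : Subgroup G)
    (L W Z C A : Fin k → Subgroup G) (z : G) (l : Fin k) (K N N1 N0 : Subgroup G), 3 ≤ k →
    TK S B Q V Xn ZJ B0 X M0 Y0 L W Z C A z → BK B B0 X M0 Y0 W l K N N1 N0 → NA B K N → False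

/-- `NA` from `Core.Blk` -/
theorem na_of {G : Type u} [Group G] [Finite G] {ι : Type} {S : Sylow 2 G} {P : Subgroup G} {n : ℕ}
    {L W Z C A : ι → Subgroup G} {R : Subgroup G} {j : ℕ} {K N₁ c : Subgroup G} {τ : G} {l : ι}
    (h : Blk S P n L W Z C A R j K N₁ c τ l) :
    NA (BL (S : Subgroup G) n) K (zl (BL (S : Subgroup G) n) R) := ⟨h.nK, h.act⟩

theorem noLowK_of {K : Cls.{u}} (hL : LocOf.{u}) (hT : TorusOf.{u}) : EK3.UniLevK.NoLowK K := by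
  intro G _ _ hG S P hyp n hall hn1 F _ _ _ k hF hk N B ZJ eqZ eqB hE L W Z C A hbg hfr R hP hTR hc hn
  by_contra hZ
  subst eqZ eqB
  have hln : Ln S P n L W Z C A 2 := by
    refine ⟨hyp.toHypN, hall P hyp.star, hfr, fun i => ?_⟩
    have : Nontrivial (Fin k) := Fin.nontrivial_iff_two_le.2 (by omega)
    exact exists_ne i
  have : Nonempty (Fin k) := ⟨⟨0, by omega⟩⟩
  obtain ⟨j, K1, N₁, c, τ, l, hb⟩ := exists_blk hln hbg hP hTR hc hn hZ
  obtain ⟨z, hz, hzf⟩ := Line.exists_full hln.fr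
  exact hT G k _ _ _ _ _ _ _ _ _ _ _ _ _ _ _ _ _ _ _ _ _ hk
    (tk_of hln hbg hb.jn hz hzf (hL G k S P n L W Z C A hk hln hbg hall j hb.jn z hz hzf)) (bk_of hb) (na_of hb)

end Cfsg.Agent.Omega.OM.Lev.Low.PlugE
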