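import Cfsg.Agent.Omega.OM.Lev.Low.Full

/-!
# TORUS, `T = B`: `B` fixes the lines, one block

* `B_le` : `B ≤ Q ⊔ ⨆ i, A i` (`q = 2`);
* `fix_all` : if `Q` fixes all `l`, `c l ≤ V`, `|c l| > 2`, then `B` fixes all `l`;
* `exists_ybc` : `YB` for a parabolic of natural type, with `|c i| = |F|`, and `k = 1` if `T` fixes all lines;
* `line_yb` : (L) for a fixed line.
-/

set_option autoImplicit false
set_option linter.unusedSectionVars false

namespace Cfsg.Agent.Omega.OM.Lev.Low.Line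

open Subgroup Cfsg Cfsg.Agent.ZN.ChoiceBase Cfsg.Agent.ZN.ChoiceSit
open Cfsg.Agent.ZN (jj zj bau zc zl o2)
open Cfsg.Agent.Omega.OM.Lev.Uni (FrL)
open Cfsg.Agent.Omega.OM.SwapL (Ln ZL BL)
open Cfsg.Agent.Omega.NO3S.EThree.Frame (Bg)
open Cfsg.Agent.Omega.NO3S.Level (lev)

universe u

section frl

variable {G : Type u} [Group G] {ι : Type*} {B Q V X ZJ : Subgroup G} {L W Z C A : ι → Subgroup G}

/-- an element of `B` which centralises all `W i` centralises `V` -/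
theorem mem_Q_of [Nonempty ι] (h : FrL B Q V X ZJ L W Z C A 2) {b : G} (hb : b ∈ B)
    (hW : ∀ i, ∀ w ∈ W i, b * w = w * b) : b ∈ Q := by
  refine (h.mem_Q b hb).2 fun v hv => ?_
  have i0 : ι := Classical.arbitrary ι
  have hV : b * v * b⁻¹ ∈ V := h.LV i0 b ((h.blk i0).BL hb) v hv
  have h1 : b * v * b⁻¹ * v⁻¹ = 1 := h.C0 _ (mul_mem hV (inv_mem hv)) fun i => by
    obtain ⟨w, hw, c, hc, rfl⟩ := h.WC i v hv
    have h2 := h.BC i b hb c hc
    have h3 : b * (w * c) * b⁻¹ * (w * c)⁻¹ = b * c * b⁻¹ * c⁻¹ := by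
      calc b * (w * c) * b⁻¹ * (w * c)⁻¹ = (b * w) * c * b⁻¹ * (c⁻¹ * w⁻¹) := by group
        _ = w * (b * c * b⁻¹ * c⁻¹) * w⁻¹ := by rw [hW i w hw]; group
        _ = (b * c * b⁻¹ * c⁻¹) * w * w⁻¹ := by
          rw [mc h (h.WV i hw) (h.CV i (mul_mem h2 (inv_mem hc)))]
        _ = _ := by group
    rw [h3]
    exact mul_mem h2 (inv_mem hc)
  exact mul_inv_eq_iff_eq_mul.1 (mul_inv_eq_one.1 h1)

/-- `b ∈ B` or `a b` centralises `W i`, `a ∈ A i` -/
theorem exists_fixW (h : FrL B Q V X ZJ L W Z C A 2) (i : ι) {b : G} (hb : b ∈ B) :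
    ∃ a ∈ A i, ∀ w ∈ W i, (a * b) * w = w * (a * b) := by
  have hne := h.Ane i
  push Not at hne
  obtain ⟨t, ht, w0, hw0, hne⟩ := hne
  have hwZ : w0 ∉ Z i := fun hz => hne ((h.blk i).cZ t (h.AB i ht) w0 hz |> fun e => e)
  obtain ⟨z, hz, hz1⟩ := exists_z h i
  have hidx : ((Z i).subgroupOf (W i)).index = 2 := by
    have e1 := Subgroup.card_mul_index ((Z i).subgroupOf (W i))
    have e2 : Nat.card ((Z i).subgroupOf (W i)) = 2 := by
      rw [Nat.card_congr (subgroupOfEquivOfLe (ZW h i)).toEquiv, h.cardZ i]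
    rw [e2, (h.blk i).card, h.cardZ i] at e1
    omega
  -- everything in `B` which centralises `w0` centralises `W i`
  have key : ∀ b ∈ B, b * w0 = w0 * b → ∀ w ∈ W i, b * w = w * b := by
    intro b hb hb0 w hw
    by_cases hwz : w ∈ Z i
    · exact (h.blk i).cZ b hb w hwz
    · have h1 := Subgroup.mul_mem_iff_of_index_two hidx (a := ⟨w, hw⟩) (b := ⟨w0, hw0⟩)
      rw [mem_subgroupOf, mem_subgroupOf, mem_subgroupOf] at h1
      have h2 : w * w0 ∈ Z i := h1.2 (iff_of_false hwz hwZ)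
      have h3 := (h.blk i).cZ b hb _ h2
      have c1 : Commute b (w * w0) := h3
      have c2 : Commute b w0 := hb0
      have h4 := c1.mul_right c2.inv_right
      rw [mul_inv_cancel_right] at h4
      exact h4.eq
  have hcm : ∀ b ∈ B, b * w0 * b⁻¹ * w0⁻¹ ∈ Z i := by
    intro b hb
    have hbw : b * w0 * b⁻¹ ∈ W i := (h.blk i).BV hb hw0
    have hbZ : b * w0 * b⁻¹ ∉ Z i := by
      intro h5
      apply hwZ
      have h6 := (h.blk i).cZ b hb _ h5
      have e : w0 = b * w0 * b⁻¹ := by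
        have h7 : b * w0 = b * (b * w0 * b⁻¹) := by rw [h6]; group
        exact mul_left_cancel h7
      rw [e]; exact h5
    have h1 := Subgroup.mul_mem_iff_of_index_two hidx (a := ⟨b * w0 * b⁻¹, hbw⟩) (b := ⟨w0, hw0⟩⁻¹)
    rw [mem_subgroupOf, mem_subgroupOf, mem_subgroupOf] at h1
    have h2 : b * w0 * b⁻¹ * w0⁻¹ ∈ Z i := h1.2 (iff_of_false hbZ (by
      intro h3
      exact hwZ (by simpa using h3)))
    exact h2
  by_cases hb0 : b * w0 = w0 * b
  · exact ⟨1, one_mem _, fun w hw => by rw [one_mul]; exact key b hb hb0 w hw⟩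
  · refine ⟨t, ht, key _ (mul_mem (h.AB i ht) hb) ?_⟩
    have h1 : b * w0 * b⁻¹ * w0⁻¹ ≠ 1 := fun e => hb0 (mul_inv_eq_iff_eq_mul.1 (mul_inv_eq_one.1 e))
    have h2 : t * w0 * t⁻¹ * w0⁻¹ ≠ 1 := fun e => hne (mul_inv_eq_iff_eq_mul.1 (mul_inv_eq_one.1 e))
    have h3 := Z_two h (hcm b hb) h1 (hcm t (h.AB i ht)) h2
    have h4 : b * w0 * b⁻¹ = t * w0 * t⁻¹ := mul_right_cancel h3
    have hz0 := hcm t (h.AB i ht)
    have hzt := (h.blk i).cZ t (h.AB i ht) _ hz0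
    have hzz := mi h (h.ZV i hz0)
    obtain ⟨y, hy⟩ : ∃ y, y = t * w0 * t⁻¹ * w0⁻¹ := ⟨_, rfl⟩
    rw [← hy] at hzt hzz
    have e1 : t * w0 * t⁻¹ = y * w0 := by rw [hy]; group
    have e2 : (t * b) * w0 * (t * b)⁻¹ = w0 := by
      calc (t * b) * w0 * (t * b)⁻¹ = t * (b * w0 * b⁻¹) * t⁻¹ := by group
        _ = t * (y * w0) * t⁻¹ := by rw [h4, e1]
        _ = (t * y) * w0 * t⁻¹ := by group
        _ = (y * t) * w0 * t⁻¹ := by rw [hzt]
        _ = y * (t * w0 * t⁻¹) := by group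
        _ = (y * y) * w0 := by rw [e1, mul_assoc]
        _ = w0 := by rw [hzz, one_mul]
    exact mul_inv_eq_iff_eq_mul.1 e2

/-- **`B ≤ Q ⊔ ⨆ i, A i`** -/
theorem B_le [Finite ι] [Nonempty ι] (h : FrL B Q V X ZJ L W Z C A 2) : B ≤ Q ⊔ ⨆ i, A i := by
  intro b hb
  have key : ∀ s : Set ι, s.Finite → ∃ a ∈ ⨆ i, A i, a ∈ B ∧ ∀ i ∈ s, ∀ w ∈ W i, (a * b) * w = w * (a * b) := by
    intro s hs
    induction s, hs using Set.Finite.induction_on with
    | empty => exact ⟨1, one_mem _, one_mem _, fun i hi => absurd hi (Set.notMem_empty i)⟩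
    | @insert i s hi _ ih =>
      obtain ⟨a, ha, haB, h1⟩ := ih
      obtain ⟨t, ht, h2⟩ := exists_fixW h i (mul_mem haB hb)
      refine ⟨t * a, mul_mem (le_iSup A i ht) ha, mul_mem (h.AB i ht) haB, fun j hj w hw => ?_⟩
      rcases hj with rfl | hj
      · rw [mul_assoc t a b]
        exact h2 w hw
      · have hji : i ≠ j := fun e => hi (e ▸ hj)
        have c1 : Commute t w := h.AC i t ht w (h.WjC i j hji hw)
        have c2 : Commute (a * b) w := h1 j hj w hw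
        rw [mul_assoc t a b]
        exact (c1.mul_left c2).eq
  obtain ⟨a, ha, haB, h1⟩ := key Set.univ (Set.toFinite _)
  have h2 := mem_Q_of h (mul_mem haB hb) fun i w hw => h1 i (Set.mem_univ i) w hw
  have e : b = a⁻¹ * (a * b) := by group
  rw [e]
  exact mul_mem (inv_mem (mem_sup_right ha)) (mem_sup_left h2)

/-- **`B` fixes all lines.** -/
theorem fix_all [Finite ι] [Nonempty ι] (h : FrL B Q V X ZJ L W Z C A 2) {Λ : Type*} {X' : Subgroup G}
    {N c : Λ → Subgroup G} (hy : YB B X' N c) (hQ : ∀ x ∈ Q, ∀ l, Mv N c x l l) (hV : ∀ l, c l ≤ V)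
    (h2 : ∀ l, 2 < Nat.card (c l)) : ∀ b ∈ B, ∀ l, Mv N c b l l := by
  let K : Subgroup G :=
    { carrier := {g | ∀ l, Mv N c g l l}
      mul_mem' := fun ha hb l => (ha l).mul (hb l)
      one_mem' := fun l => Mv.one l
      inv_mem' := fun ha l => (ha l).inv }
  suffices hK : B ≤ K from fun b hb => hK hb
  refine (B_le h).trans (sup_le hQ (iSup_le fun i t ht l => ?_))
  obtain ⟨m, hm⟩ := hy.perm t (h.AB i ht) l
  by_cases hml : l = m
  · rw [← hml] at hm; exact hm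
  exfalso
  have hdis : c l ⊓ c m = ⊥ := by
    rw [eq_bot_iff, ← hy.triv m]
    exact le_inf inf_le_right (inf_le_left.trans (hy.comm l m hml))
  have hne : ∀ v ∈ c l, v ≠ 1 → t * v * t⁻¹ * v⁻¹ ≠ 1 := by
    intro v hv hv1 e
    apply hv1
    have h3 : t * v * t⁻¹ = v := mul_inv_eq_one.1 e
    have h4 : t * v * t⁻¹ ∈ c m := by rw [← hm.2]; exact ⟨v, hv, rfl⟩
    have h5 : v ∈ c l ⊓ c m := ⟨hv, h3 ▸ h4⟩
    rwa [hdis, mem_bot] at h5
  -- two different nontrivial elements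
  obtain ⟨v, hv, hv1, w, hw, hw1, hvw⟩ : ∃ v ∈ c l, v ≠ 1 ∧ ∃ w ∈ c l, w ≠ 1 ∧ v ≠ w := by
    have hf : Finite (c l) := Nat.finite_of_card_ne_zero (by have := h2 l; omega)
    have : Nontrivial (c l) := Finite.one_lt_card_iff_nontrivial.1 (by have := h2 l; omega)
    obtain ⟨v, hv⟩ := exists_ne (1 : c l)
    by_contra hcon
    push Not at hcon
    have h3 : ∀ x : c l, x = 1 ∨ x = v := by
      intro x
      by_cases hx : x = 1
      · exact Or.inl hx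
      · exact Or.inr (Subtype.ext (hcon v v.2 (fun e => hv (Subtype.ext e)) x x.2 fun e => hx (Subtype.ext e)).symm)
    have h4 : Nat.card (c l) ≤ 2 := by
      have h5 : Function.Surjective (fun b : Bool => if b then v else 1) := fun x => by
        rcases h3 x with e | e
        · exact ⟨false, by simp [e]⟩
        · exact ⟨true, by simp [e]⟩
      have := Nat.card_le_card_of_surjective _ h5
      simpa using this
    exact absurd (h2 l) (by omega)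
  have h3 := h.A_comm ht (hV l hv)
  have h4 := h.A_comm ht (hV l hw)
  have h5 := Z_two h h3 (hne v hv hv1) h4 (hne w hw hw1)
  have hvV := hV l hv
  have hwV := hV l hw
  have htv : t * v * t⁻¹ ∈ V := h.LV i t ((h.blk i).BL (h.AB i ht)) v hvV
  have htw : t * w * t⁻¹ ∈ V := h.LV i t ((h.blk i).BL (h.AB i ht)) w hwV
  have h6 : t * (v * w⁻¹) * t⁻¹ * (v * w⁻¹)⁻¹ = 1 := by
    obtain ⟨a, ha⟩ : ∃ a, a = t * v * t⁻¹ := ⟨_, rfl⟩
    obtain ⟨b, hb⟩ : ∃ b, b = t * w * t⁻¹ := ⟨_, rfl⟩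
    rw [← ha] at htv h5
    rw [← hb] at htw h5
    have e2 : a = b * w⁻¹ * v := by rw [← h5]; group
    have e3 : b * (w⁻¹ * v) * b⁻¹ = w⁻¹ * v := by
      rw [mc h htw (mul_mem (inv_mem hwV) hvV)]; group
    have e4 : w⁻¹ * v = v * w⁻¹ := mc h (inv_mem hwV) hvV
    calc t * (v * w⁻¹) * t⁻¹ * (v * w⁻¹)⁻¹ = (t * v * t⁻¹) * (t * w * t⁻¹)⁻¹ * w * v⁻¹ := by group
      _ = a * b⁻¹ * w * v⁻¹ := by rw [← ha, ← hb]
      _ = (b * w⁻¹ * v) * b⁻¹ * w * v⁻¹ := by rw [← e2]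
      _ = (b * (w⁻¹ * v) * b⁻¹) * w * v⁻¹ := by group
      _ = (v * w⁻¹) * w * v⁻¹ := by rw [e3, e4]
      _ = 1 := by group
  exact hne _ (mul_mem hv (inv_mem hw)) (fun e => hvw (mul_inv_eq_one.1 e)) h6

end frl

section L

variable {G : Type u} [Group G] [Finite G] {ι : Type} [Finite ι] {S : Sylow 2 G} {P : Subgroup G} {n : ℕ}
  {L W Z C A : ι → Subgroup G}

/-- **(L)** for a line of `YB` on `Ω₁Z(lev S j)`, `j ≤ n`. -/
theorem line_yb (hL : Ln S P n L W Z C A 2)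
    (hB : Bg S P (BL (S : Subgroup G) n) (ZL (S : Subgroup G) n) L W Z C 2) {j : ℕ} (hj : j ≤ n) {Λ : Type*}
    {N c : Λ → Subgroup G} (hy : YB (BL (S : Subgroup G) n) (zc (lev (S : Subgroup G) j)) N c) {l : Λ}
    (hfix : ∀ b ∈ BL (S : Subgroup G) n, Mv N c b l l) (hcV : c l ≤ zl (S : Subgroup G) P)
    (hc4 : Nat.card (c l) = 4) (hZJ : ¬ ZL (S : Subgroup G) n ≤ N l) {τ : G}
    (hτc : ∀ x ∈ c l, τ * x * τ⁻¹ ∈ c l) (hτ1 : ∀ x ∈ c l, τ * x * τ⁻¹ = x → x = 1)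
    (hτN : ∀ x ∈ N l, τ * x * τ⁻¹ = x) :
    ∃ i, c l = W i ∧ (∀ m, m ≠ i → W m ≤ N l) ∧ ∀ m, m ≠ i → Z m ≤ N l := by
  refine line' hL hB hcV hc4 (fun x hx => hy.fix l x ?_) (hy.triv l) (fun b hb x hx => ?_) (fun b hb x hx => ?_) hZJ
    hτc hτ1 hτN
  · exact (NO3S.Level.lev_isLev (S : Subgroup G) j).zc_le_zc (NO3S.Level.lev_mono _ hj) (NO3S.Level.lev_le _ n) hx
  · have h1 := (hfix b hb).2
    have h2 : b * x * b⁻¹ ∈ cj b (c l) := ⟨x, hx, rfl⟩
    rwa [h1] at h2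
  · have h1 := (hfix b hb).1
    have h2 : b * x * b⁻¹ ∈ cj b (N l) := ⟨x, hx, rfl⟩
    rwa [h1] at h2

end L

end Cfsg.Agent.Omega.OM.Lev.Low.Line
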