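import Cfsg.Agent.Omega.OM.Lev.Low.WSet

/-!
# TEXT LL v2 (helper584 #20624), (W) over `Set5`, `P` transitive

`no_two'` : `Set5.no_two` with `P ∩ N(B)` transitive on the `V l` and `Q ≤ P ∩ N(B)` (`Q ≰ B`).
-/

set_option autoImplicit false
set_option linter.unusedSectionVars false

namespace Cfsg.Agent.Omega.OM.Lev.Low.Five.Set5

open Subgroup Cfsg Cfsg.Agent.ZN Cfsg.Agent.ZN.ChoiceBase
open Cfsg.Agent.Omega.NO3S.ThmB (mem_cj_of exists_of_mem_cj cj_comm)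
open Cfsg.Agent.Omega.OM.Lev.Low.WDead

variable {G : Type*} [Group G] {ι : Type*} {S U H B ZJ P : Subgroup G} {AA : Set (Subgroup G)}
  {K V : ι → Subgroup G} (X : Set5 S U H B ZJ P AA K V)

theorem cj_line' {b : G} (hb : b ∈ normalizer (B : Set G)) {l m : ι} (e : cj b (V l) = V m) :
    cj b ⁅V l, B⁆ = ⁅V m, B⁆ := by
  rw [cj_comm, e, cj_eq_of_mem_normalizer hb]

include X

/-- The lines are permuted transitively. -/
theorem lines' (trP : ∀ l m, ∃ b ∈ P, b ∈ normalizer (B : Set G) ∧ cj b (V l) = V m) : Lines P (CC B P V) where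
  cl := by
    rintro g hg _ ⟨g', hg', l, rfl⟩
    exact ⟨g * g', mul_mem hg hg', l, cj_cj _ _ _⟩
  tr := by
    rintro _ ⟨g, hg, l, rfl⟩ _ ⟨g', hg', m, rfl⟩
    obtain ⟨b, hb, hbB, e⟩ := trP l m
    refine ⟨g' * b * g⁻¹, mul_mem (mul_mem hg' hb) (inv_mem hg), ?_⟩
    rw [cj_cj, ← cj_line' hbB e, cj_cj]
    congr 1
    group

/-- **The case (W) is impossible.** -/
theorem no_two' [Finite G] {w : Fin 3 → G} {y' : G} (k : Tri P w y') {Q : Subgroup G} (QP : Q ≤ P)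
    (QB : Q ≤ normalizer (B : Set G))
    (PQ : P ≤ normalizer (Q : Set G)) (Qw : ∀ q ∈ Q, ∀ a, q * w a = w a * q)
    (trP : ∀ l m, ∃ b ∈ P, b ∈ normalizer (B : Set G) ∧ cj b (V l) = V m)
    (cK : ∀ l m, l ≠ m → ⁅V l, B⁆ ≤ centralizer (K m : Set G))
    (hz : w 2 ∈ sSup (Set.range fun l => ⁅V l, B⁆)) (hz' : ∀ l, w 2 ∉ centralizer (K l : Set G))
    {σ : ι → Prop} (h1 : ∃ l, σ l) (h2 : ∃ l, ¬ σ l)
    (hQ : ∀ q ∈ Q, ∀ l, ∃ m, (σ l ↔ σ m) ∧ cj q (V l) = V m)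
    (hQ' : ∀ l m, (σ l ↔ σ m) → ∃ q ∈ Q, cj q (V l) = V m)
    {y v : G} (hy : y ∈ sSup {C | ∃ l, σ l ∧ C = ⁅V l, B⁆}) (hyv : y = v * y') (hv : v = w 0 ∨ v = w 1)
    (hy' : ∀ l, y' ∈ centralizer (K l : Set G)) : False := by
  have hne : ∀ l, ¬ ⁅V l, B⁆ ≤ centralizer (K l : Set G) := fun l hl => hz' l (by
    have h3 : sSup (Set.range fun l => ⁅V l, B⁆) ≤ centralizer (K l : Set G) := by
      refine sSup_le ?_
      rintro _ ⟨m, rfl⟩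
      by_cases e : m = l
      · rw [e]; exact hl
      · exact cK m l e
    exact h3 hz)
  have hinj : ∀ l m, ⁅V l, B⁆ = ⁅V m, B⁆ → l = m := fun l m e => by
    by_contra hn
    exact hne m (e ▸ cK l m hn)
  have horb : ∀ τ : ι → Prop, (∃ l, τ l) → (∀ q ∈ Q, ∀ l, ∃ m, (τ l ↔ τ m) ∧ cj q (V l) = V m) →
      (∀ l m, (τ l ↔ τ m) → ∃ q ∈ Q, cj q (V l) = V m) → Orb Q {C | ∃ l, τ l ∧ C = ⁅V l, B⁆} := by
    intro τ h3 h4 h5
    obtain ⟨l0, hl0⟩ := h3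
    refine ⟨⟨_, l0, hl0, rfl⟩, ?_⟩
    rintro _ ⟨l, hl, rfl⟩ D
    constructor
    · rintro ⟨m, hm, rfl⟩
      obtain ⟨q, hq, e⟩ := h5 l m ⟨fun _ => hm, fun _ => hl⟩
      exact ⟨q, hq, cj_line' (QB hq) e⟩
    · rintro ⟨q, hq, rfl⟩
      obtain ⟨m, hm, e⟩ := h4 q hq l
      exact ⟨m, hm.1 hl, cj_line' (QB hq) e⟩
  have hp := horb σ h1 hQ hQ'
  have hp' := horb (fun l => ¬ σ l) h2 (fun q hq l => by
    obtain ⟨m, hm, e⟩ := hQ q hq l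
    exact ⟨m, not_congr hm, e⟩) fun l m h => hQ' l m (not_iff_not.1 h)
  refine w_dead (X.lines' trP) k PQ QP Qw hp hp' ?_ ?_ ?_ ?_ hy hyv hv
    (N := centralizer (K h1.choose : Set G)) ?_ (hy' _) (hz' _)
  · rintro _ ⟨l, -, rfl⟩
    exact mem_CC l
  · rintro _ ⟨l, -, rfl⟩
    exact mem_CC l
  · rintro _ ⟨l, hl, rfl⟩ ⟨m, hm, e⟩
    exact hm (hinj l m e ▸ hl)
  · intro C hC
    rw [X.supp_iff hz hz' hC]
    constructor
    · rintro ⟨l, rfl⟩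
      by_cases h : σ l
      · exact Or.inl ⟨l, h, rfl⟩
      · exact Or.inr ⟨l, h, rfl⟩
    · rintro (⟨l, -, rfl⟩ | ⟨l, -, rfl⟩) <;> exact ⟨l, rfl⟩
  · intro C hC hn hn'
    refine (X.le_cen hC h1.choose).resolve_left fun e => ?_
    exact hn ⟨_, h1.choose_spec, e⟩

end Cfsg.Agent.Omega.OM.Lev.Low.Five.Set5
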