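import Cfsg.Agent.Omega.OM.Lev.Low.Line

/-!
# TORUS, `q = 2`: (W) (helper607 #23961)

* `tr_of` : `Tr W Z C` from `Bg`;
* `full_of_conj` : **(W)**: if `z, g z g⁻¹ ∈ Z_J` and `z` has full support then so has `g z g⁻¹`;
* `full_V'` : the same in `V`;
* `line'` : (L) over `Ln` + `Bg`.
-/

set_option autoImplicit false
set_option linter.unusedSectionVars false

namespace Cfsg.Agent.Omega.OM.Lev.Low.Line

open Subgroup Cfsg Cfsg.Agent.ZN.ChoiceBase Cfsg.Agent.ZN.ChoiceSit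
open Cfsg.Agent.ZN (jj zj bau zc zl o2)
open Cfsg.Agent.Omega.OM.Lev.Uni (FrL)
open Cfsg.Agent.Omega.OM.SwapL (Ln ZL BL)
open Cfsg.Agent.Omega.NO3S.EThree.Frame (Bg)
open Cfsg.Agent.Omega.NO3S.Level (lev)

universe u

/-- at most one element of `Z_J` has full support -/
theorem full_unique {G : Type u} [Group G] {ι : Type*} {B Q V X ZJ : Subgroup G} {L W Z C A : ι → Subgroup G}
    (h : FrL B Q V X ZJ L W Z C A 2) {z z' : G} (hz : z ∈ ZJ) (hz' : z' ∈ ZJ) (hf : Full C z)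
    (hf' : Full C z') : z = z' := by
  have h1 : z * z'⁻¹ = 1 := h.C0 _ (mul_mem (h.ZJV hz) (inv_mem (h.ZJV hz'))) fun i => by
    obtain ⟨a, ha, b, hb, e⟩ := ZJ_cmp h hz i
    obtain ⟨a', ha', b', hb', e'⟩ := ZJ_cmp h hz' i
    have h2 : a ≠ 1 := by
      rintro rfl
      exact hf i (by rw [e, one_mul]; exact hb)
    have h3 : a' ≠ 1 := by
      rintro rfl
      exact hf' i (by rw [e', one_mul]; exact hb')
    have e3 := Z_two h ha h2 ha' h3
    have h4 : a * (b * b'⁻¹) = b * b'⁻¹ * a := mc h (h.ZV i ha) (h.CV i (mul_mem hb (inv_mem hb')))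
    have h5 : z * z'⁻¹ = b * b'⁻¹ := by
      rw [e, e', ← e3]
      calc a * b * (a * b')⁻¹ = a * (b * b'⁻¹) * a⁻¹ := by group
        _ = _ := by rw [h4]; group
    rw [h5]
    exact mul_mem hb (inv_mem hb')
  exact mul_inv_eq_one.1 h1

section W

variable {G : Type u} [Group G] [Finite G] {ι : Type} [Finite ι] {S : Sylow 2 G} {P : Subgroup G} {n : ℕ}
  {L W Z C A : ι → Subgroup G}

theorem tr_of {B ZJ : Subgroup G} {q : ℕ} (h : Bg S P B ZJ L W Z C q) : Tr W Z C := fun i x hx hx1 => by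
  obtain ⟨l, -, hl, hz⟩ := h.tr i x hx hx1
  exact ⟨l, fun y hy => (mem_centralizer_iff.1 hl y hy).symm, hz⟩

theorem norm_ZL {y z : G} (hy : y ∈ normalizer (BL (S : Subgroup G) n : Set G)) (hz : z ∈ ZL (S : Subgroup G) n) :
    y * z * y⁻¹ ∈ ZL (S : Subgroup G) n := by
  have h4 := cj_eq_of_mem_normalizer ((SwapL.lb S n).norm_B_le hy)
  have h5 : y * z * y⁻¹ ∈ cj y (ZL (S : Subgroup G) n) := ⟨z, hz, rfl⟩
  rwa [h4] at h5

theorem full_norm (hL : Ln S P n L W Z C A 2) {y z : G} (hy : y ∈ normalizer (BL (S : Subgroup G) n : Set G))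
    (hz : z ∈ ZL (S : Subgroup G) n) (hf : Full C z) : Full C (y * z * y⁻¹) := by
  intro j hj
  obtain ⟨i, -, -, h1⟩ := SwapL.perm hL (inv_mem hy) j
  have h2 := (h1 _ (norm_ZL hy hz)).2 hj
  have e : y⁻¹ * (y * z * y⁻¹) * y⁻¹⁻¹ = z := by group
  rw [e] at h2
  exact hf i h2

/-- `S` centralises the element of full support -/
theorem S_cent (hL : Ln S P n L W Z C A 2)
    (hB : Bg S P (BL (S : Subgroup G) n) (ZL (S : Subgroup G) n) L W Z C 2) {z : G}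
    (hz : z ∈ ZL (S : Subgroup G) n) (hf : Full C z) {s : G} (hs : s ∈ (S : Subgroup G)) : s * z = z * s := by
  have h1 := hB.S_norm_B hs
  have h2 := full_unique hL.fr (norm_ZL h1 hz) hz (full_norm hL h1 hz hf) hf
  exact mul_inv_eq_iff_eq_mul.1 h2

/-- **(W)** -/
theorem full_of_conj (hL : Ln S P n L W Z C A 2)
    (hB : Bg S P (BL (S : Subgroup G) n) (ZL (S : Subgroup G) n) L W Z C 2) {z g : G}
    (hz : z ∈ ZL (S : Subgroup G) n) (hg : g * z * g⁻¹ ∈ ZL (S : Subgroup G) n) (hf : Full C z) :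
    Full C (g * z * g⁻¹) := by
  have : Fact (Nat.Prime 2) := ⟨Nat.prime_two⟩
  obtain ⟨z', hz'⟩ : ∃ z', z' = g * z * g⁻¹ := ⟨_, rfl⟩
  rw [← hz'] at hg ⊢
  have hBz : BL (S : Subgroup G) n ≤ centralizer ({z'} : Set G) := by
    intro b hb
    rw [hB.eqB] at hb
    rw [mem_centralizer_singleton_iff]
    exact (mem_centralizer_iff.1 hb.2 z' hg).symm
  have hSz : ((g • S : Sylow 2 G) : Subgroup G) ≤ centralizer ({z'} : Set G) := by
    rw [Sylow.coe_subgroup_smul]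
    rintro _ ⟨s, hs, rfl⟩
    rw [mem_centralizer_singleton_iff]
    have h1 := S_cent hL hB hz hf hs
    change g * s * g⁻¹ * z' = z' * (g * s * g⁻¹)
    rw [hz']
    calc g * s * g⁻¹ * (g * z * g⁻¹) = g * (s * z) * g⁻¹ := by group
      _ = g * (z * s) * g⁻¹ := by rw [h1]
      _ = _ := by group
  have hB2 : IsPGroup 2 ((BL (S : Subgroup G) n).subgroupOf (centralizer ({z'} : Set G))) :=
    (hB.bau_two).comap_of_injective _ (Subgroup.subtype_injective _)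
  obtain ⟨R, hR⟩ := hB2.exists_le_sylow
  obtain ⟨x, hx⟩ := MulAction.exists_smul_eq (centralizer ({z'} : Set G)) ((g • S).subtype hSz) R
  have h2 : BL (S : Subgroup G) n ≤ cj ((x : G) * g) (S : Subgroup G) := by
    intro b hb
    have h3 : (⟨b, hBz hb⟩ : centralizer ({z'} : Set G)) ∈ R := hR hb
    rw [← hx] at h3
    obtain ⟨⟨c, hc⟩, hc1, e⟩ := h3
    obtain ⟨s, hs, rfl⟩ := hc1
    refine ⟨s, hs, ?_⟩
    have e2 : (x : G) * (g * s * g⁻¹) * (x : G)⁻¹ = b := congrArg Subtype.val e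
    change (x : G) * g * s * ((x : G) * g)⁻¹ = b
    rw [← e2]
    group
  have h3 : cj ((x : G) * g)⁻¹ (BL (S : Subgroup G) n) ≤ (S : Subgroup G) := by
    have := cj_mono ((x : G) * g)⁻¹ h2
    rwa [cj_inv_cj] at this
  have h4 : ((x : G) * g)⁻¹ ∈ normalizer (BL (S : Subgroup G) n : Set G) :=
    mem_normalizer_iff_cj.2 (SwapL.wc S n (S : Subgroup G) S.isPGroup' (SwapL.lb S n).BS _ h3)
  have h5 : (x : G) * g ∈ normalizer (BL (S : Subgroup G) n : Set G) := inv_mem_iff.1 h4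
  have h6 := full_norm hL h5 hz hf
  have e : (x : G) * g * z * ((x : G) * g)⁻¹ = z' := by
    have h7 := mem_centralizer_singleton_iff.1 x.2
    calc (x : G) * g * z * ((x : G) * g)⁻¹ = x * (g * z * g⁻¹) * (x : G)⁻¹ := by group
      _ = z' := by rw [← hz', h7]; group
  rwa [e] at h6

/-- (W) in `V` -/
theorem full_V' (hL : Ln S P n L W Z C A 2)
    (hB : Bg S P (BL (S : Subgroup G) n) (ZL (S : Subgroup G) n) L W Z C 2) {v g : G}
    (hv : v ∈ zl (S : Subgroup G) P) (hg : g * v * g⁻¹ ∈ zl (S : Subgroup G) P) (hf : Full C v) :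
    Full C (g * v * g⁻¹) :=
  full_V hL.fr (tr_of hB) (fun _ hz _ hg hf => full_of_conj hL hB hz hg hf) hv hg hf

/-- **(L)** over `Ln` + `Bg` -/
theorem line' (hL : Ln S P n L W Z C A 2)
    (hB : Bg S P (BL (S : Subgroup G) n) (ZL (S : Subgroup G) n) L W Z C 2)
    {c N : Subgroup G} (hcV : c ≤ zl (S : Subgroup G) P) (hc4 : Nat.card c = 4)
    (hfix : ∀ x ∈ zc (lev (S : Subgroup G) n), ∃ a ∈ c, a * x ∈ N)
    (htriv : c ⊓ N = ⊥) (hBc : ∀ b ∈ BL (S : Subgroup G) n, ∀ x ∈ c, b * x * b⁻¹ ∈ c)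
    (hBN : ∀ b ∈ BL (S : Subgroup G) n, ∀ x ∈ N, b * x * b⁻¹ ∈ N)
    (hZJ : ¬ ZL (S : Subgroup G) n ≤ N) {τ : G} (hτc : ∀ x ∈ c, τ * x * τ⁻¹ ∈ c)
    (hτ1 : ∀ x ∈ c, τ * x * τ⁻¹ = x → x = 1) (hτN : ∀ x ∈ N, τ * x * τ⁻¹ = x) :
    ∃ l, c = W l ∧ (∀ m, m ≠ l → W m ≤ N) ∧ ∀ m, m ≠ l → Z m ≤ N :=
  line hL.fr (tr_of hB) (fun _ hz _ hg hf => full_of_conj hL hB hz hg hf) hcV hc4 hfix htriv hBc hBN hZJ hτc
    hτ1 hτN

end W

end Cfsg.Agent.Omega.OM.Lev.Low.Line
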