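import Cfsg.Agent.Omega.OM.Lev.Low.TwoRes
import Cfsg.Agent.Omega.TC.UniLev

/-!
# TORUS, `k = 2 = q`: the instance of `TwoRes.Res`, and the minimal parabolics over `S`

* `idx`, `exists_out`, `zc_S` : over `Bg S P B ZJ L W Z C 2`, `ι = Fin 2`: `|S : B| = 2`, `Ω₁Z(S) = ⟨v 0 v 1⟩`;
* `res_of` : `Res` from the block `TwoBlk.exists_one` and `v i ∈ c`, `v i' ∈ C(K)`;
* `gen_le` : a local `L ≥ S` is generated by elements normalising `Ω₁Z(lev S j)`, `j ≤ n`, or centralising `z`, if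
  `lev S n ≤ O₂(R)` for all `R ∈ P*(S)` and `Ω₁Z(S) = ⟨z⟩`.
-/

set_option autoImplicit false
set_option linter.unusedSectionVars false

namespace Cfsg.Agent.Omega.OM.Lev.Low.TwoInst

open Subgroup Cfsg Cfsg.Agent.ZN Cfsg.Agent.ZN.ChoiceBase
open Cfsg.Agent.ZN.ChoiceSit (Syl)
open Cfsg.Agent.Omega.MinPar (IsLoc IsPar IsParS)
open Cfsg.Agent.Omega.NO3S.EThree.Frame (Bg)
open Cfsg.Agent.Omega.NO3S.Level (lev lev_mono lev_isLev lev_le)
open Cfsg.Agent.Omega.OM.SwapL (Ln ZL)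
open Cfsg.Agent.Omega.OM.GLev
open Cfsg.Agent.Omega.OM.Lev.Low
open Cfsg.Agent.Omega.FFThm (NatKM)
open Cfsg.Agent.Omega.FrameFF (cv)
open Cfsg.Agent.Omega.SQ1.Bau (elem_comm elem_sq card_sup_comm)
open Cfsg.Agent.MinSimple.MinParabolic (IsMinPar)

universe u

variable {G : Type u} [Group G] [Finite G]

section bg

variable {S : Sylow 2 G} {P B ZJ : Subgroup G} {L W Z C : Fin 2 → Subgroup G} (h : Bg S P B ZJ L W Z C 2)
include h

theorem fin_two {i j k : Fin 2} (h1 : i ≠ j) (h2 : k ≠ j) : k = i := by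
  revert i j k; decide

/-- an element of `S - B` interchanges `Z 0` and `Z 1` -/
theorem cj_Z {s : G} (hs : s ∈ (S : Subgroup G)) (hsB : s ∉ B) : cj s (Z 0) = Z 1 ∧ cj s (Z 1) = Z 0 := by
  obtain ⟨σ, hσ⟩ := h.perm_S hs
  have h0 : σ 0 ≠ 0 := by
    intro e
    apply hsB
    rw [← TC.UniLev.T_eq h]
    refine mem_inf.2 ⟨hs, ?_⟩
    rw [mem_normalizer_iff_cj, (hσ 0).2.1, e]
  have h1 : σ 0 = 1 := by
    have : ∀ a : Fin 2, a ≠ 0 → a = 1 := by decide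
    exact this _ h0
  have h2 : σ 1 = 0 := by
    have : ∀ a : Fin 2, a ≠ 1 → a = 0 := by decide
    refine this _ fun e => ?_
    have := σ.injective (e.trans h1.symm)
    exact absurd this (by decide)
  exact ⟨by rw [(hσ 0).2.1, h1], by rw [(hσ 1).2.1, h2]⟩

/-- `|S : B| ≤ 2` -/
theorem idx {a b : G} (ha : a ∈ (S : Subgroup G)) (haB : a ∉ B) (hb : b ∈ (S : Subgroup G)) (hbB : b ∉ B) :
    a * b ∈ B := by
  rw [← TC.UniLev.T_eq h]
  refine mem_inf.2 ⟨mul_mem ha hb, ?_⟩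
  rw [mem_normalizer_iff_cj, ← cj_cj, (cj_Z h hb hbB).1, (cj_Z h ha haB).2]

/-- `B < S` -/
theorem exists_out : ∃ s ∈ (S : Subgroup G), s ∉ B := by
  obtain ⟨s, hs, e⟩ := h.trans 0 1
  refine ⟨s, hs, fun hsB => ?_⟩
  have h1 := (h.cj_Z_iff hs).2 e
  have h2 : cj s (Z 0) = Z 0 := by
    have : s ∈ (S : Subgroup G) ⊓ normalizer (Z 0 : Set G) := by
      rw [TC.UniLev.T_eq h]
      exact hsB
    exact cj_eq_of_mem_normalizer this.2
  rw [h2] at h1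
  exact absurd (h.Z_inj h1) (by decide)

variable {v : Fin 2 → G} (hv1 : ∀ i, v i ≠ 1) (hv : ∀ i, ∀ x, x ∈ Z i ↔ x = 1 ∨ x = v i)
include hv1 hv

theorem swap {s : G} (hs : s ∈ (S : Subgroup G)) (hsB : s ∉ B) : s * v 0 * s⁻¹ = v 1 ∧ s * v 1 * s⁻¹ = v 0 := by
  obtain ⟨h0, h1⟩ := cj_Z h hs hsB
  have key : ∀ i j, cj s (Z i) = Z j → s * v i * s⁻¹ = v j := by
    intro i j e
    have h2 : s * v i * s⁻¹ ∈ Z j := by
      rw [← e]
      exact ⟨v i, (hv i _).2 (Or.inr rfl), rfl⟩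
    rcases (hv j _).1 h2 with h3 | h3
    · exact absurd (conj_eq_one_iff.1 h3) (hv1 i)
    · exact h3
  exact ⟨key 0 1 h0, key 1 0 h1⟩

theorem v_comm : v 0 * v 1 = v 1 * v 0 :=
  h.fr.Vc (h.fr.ZV 0 ((hv 0 _).2 (Or.inr rfl))) (h.fr.ZV 1 ((hv 1 _).2 (Or.inr rfl)))

theorem v_sq (i : Fin 2) : v i * v i = 1 := by
  have h1 := h.fr.Vsq (h.fr.ZV i ((hv i _).2 (Or.inr rfl)))
  rwa [pow_two] at h1

theorem v_ne : v 0 ≠ v 1 := by
  intro e
  have h1 : v 0 ∈ Z 0 ⊓ Z 1 := ⟨(hv 0 _).2 (Or.inr rfl), (hv 1 _).2 (Or.inr e)⟩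
  have h2 := h.Z_disj (show (0 : Fin 2) ≠ 1 by decide)
  rw [h2] at h1
  exact hv1 0 (mem_bot.1 h1)

/-- `v 0 v 1 ∈ Ω₁Z(S)` -/
theorem z_mem : v 0 * v 1 ∈ zc (S : Subgroup G) := by
  have h0 : v 0 ∈ ZJ := h.fr.Z_le 0 ((hv 0 _).2 (Or.inr rfl))
  have h1 : v 1 ∈ ZJ := h.fr.Z_le 1 ((hv 1 _).2 (Or.inr rfl))
  have hZS : ZJ ≤ (S : Subgroup G) := (h.fr.ZJV.trans h.fr.VB).trans h.BS
  refine ChoiceBase.mem_zc.2 ⟨mul_mem (hZS h0) (hZS h1), ?_, fun s hs => ?_⟩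
  · rw [pow_two]
    calc v 0 * v 1 * (v 0 * v 1) = v 0 * (v 1 * v 0) * v 1 := by group
      _ = v 0 * (v 0 * v 1) * v 1 := by rw [v_comm h hv1 hv]
      _ = (v 0 * v 0) * (v 1 * v 1) := by group
      _ = 1 := by rw [v_sq h hv1 hv, v_sq h hv1 hv, one_mul]
  · by_cases hsB : s ∈ B
    · exact ((h.fr.mem_ZJ _).1 (mul_mem h0 h1)).2 s hsB
    · obtain ⟨e0, e1⟩ := swap h hv1 hv hs hsB
      refine mul_inv_eq_iff_eq_mul.1 ?_
      calc s * (v 0 * v 1) * s⁻¹ = (s * v 0 * s⁻¹) * (s * v 1 * s⁻¹) := by group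
        _ = v 0 * v 1 := by rw [e0, e1, v_comm h hv1 hv]

/-- `Ω₁Z(S) = {1, v 0 v 1}` -/
theorem zc_S {x : G} (hx : x ∈ zc (S : Subgroup G)) (hx1 : x ≠ 1) : x = v 0 * v 1 := by
  have h1 := TC.OfBg.zc_le_ZJ h le_rfl h.BS hx
  obtain ⟨s, hs, hsB⟩ := exists_out h
  obtain ⟨e0, e1⟩ := swap h hv1 hv hs hsB
  have hfix : s * x * s⁻¹ = x := by rw [(ChoiceBase.mem_zc.1 hx).2.2 s hs]; group
  rcases (TC.OfBg.mem_ZJ_iff h hv).1 h1 with e | e | e | e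
  · exact absurd e hx1
  · rw [e, e0] at hfix
    exact absurd hfix.symm (v_ne h hv1 hv)
  · rw [e, e1] at hfix
    exact absurd hfix (v_ne h hv1 hv)
  · exact e

end bg

/-- `|V_P| ≥ 16` -/
theorem card_V {S : Sylow 2 G} {P B ZJ : Subgroup G} {L W Z C : Fin 2 → Subgroup G} (h : Bg S P B ZJ L W Z C 2) :
    16 ≤ Nat.card (zl (S : Subgroup G) P) := by
  have hW : ∀ i, Nat.card (W i) = 4 := fun i => by
    rw [(h.fr.blk i).card, h.fr.cardZ i]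
  have h01 : W 0 ⊓ W 1 = ⊥ := h.W_disj (by decide)
  have h1 := card_sup_comm (A := W 0) (B := W 1) fun a ha b hb => h.fr.Vc (h.fr.WV 0 ha) (h.fr.WV 1 hb)
  rw [h01, Subgroup.card_bot, mul_one, hW, hW] at h1
  calc 16 = Nat.card ↥(W 0 ⊔ W 1) := h1.symm
    _ ≤ _ := Subgroup.card_le_of_le (sup_le (h.fr.WV 0) (h.fr.WV 1))

/-- **The instance of `Res`.** -/
theorem res_of {S : Sylow 2 G} {P : Subgroup G} {n : ℕ} {L W Z C A : Fin 2 → Subgroup G}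
    (hln : Ln S P n L W Z C A 2) (hbg : Bg S P (SwapL.BL (S : Subgroup G) n) (ZL (S : Subgroup G) n) L W Z C 2)
    {v : Fin 2 → G} (hv1 : ∀ i, v i ≠ 1) (hv : ∀ i, ∀ x, x ∈ Z i ↔ x = 1 ∨ x = v i) {M N₁ D K c : Subgroup G}
    {j : ℕ} (hj : j ≤ n) (hpb : PB (LevB.BL (S : Subgroup G) j) K M N₁ D 4)
    (hBN : SwapL.BL (S : Subgroup G) n ≤ normalizer ((⁅M, K⁆ : Subgroup G) : Set G))
    (hyb : YB (SwapL.BL (S : Subgroup G) n) (zc (lev (S : Subgroup G) j))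
      (fun _ : Fin 1 => zc (lev (S : Subgroup G) j) ⊓ centralizer (K : Set G)) (fun _ => c))
    (hc1 : c ≤ N₁) (hc2 : N₁ ≤ c ⊔ D) (hcD : c ⊓ D = ⊥) (hc4 : Nat.card c = 4) (hcV : c ≤ ⁅M, K⁆)
    {i i' : Fin 2} (hii : i ≠ i') (h1 : v i ∈ c) (h2 : v i' ∈ centralizer (K : Set G)) :
    TwoRes.Res S (SwapL.BL (S : Subgroup G) n) (LevB.BL (S : Subgroup G) j) (zc (lev (S : Subgroup G) j)) M N₁ D K c
      (v 0 * v 1) (v i) (v i') where
  BS := hbg.BS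
  SB := hbg.S_norm_B
  idx := fun a ha haB b hb hbB => idx hbg ha haB hb hbB
  ne := exists_out hbg
  SX := ((lev_isLev (S : Subgroup G) j).S_norm).trans (NO3S.Level.normalizer_le_zc _)
  X2 := NO3S.OneLine.zc_elem _
  B0eq := rfl
  B0B := BL_mono (S : Subgroup G) (by omega : j ≤ n + 1)
  XB0 := by
    have h3 := LevB.zc_B S j
    rw [← h3]
    exact fun x hx => (ChoiceBase.mem_zc.1 hx).1
  pb := hpb
  BN := hBN
  yb := hyb
  cN1 := hc1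
  N1c := hc2
  cD := hcD
  c4 := hc4
  cV := hcV
  zz := z_mem hbg hv1 hv
  zS := fun x hx hx1 => zc_S hbg hv1 hv hx hx1
  ez := by
    have : ∀ a b : Fin 2, a ≠ b → (a = 0 ∧ b = 1) ∨ (a = 1 ∧ b = 0) := by decide
    rcases this i i' hii with ⟨rfl, rfl⟩ | ⟨rfl, rfl⟩
    · rfl
    · exact v_comm hbg hv1 hv
  z1c := h1
  z1n := hv1 i
  z2c := by
    refine mem_inf.2 ⟨?_, h2⟩
    have h3 : v i' ∈ zl (S : Subgroup G) P := hbg.fr.ZV i' ((hv i' _).2 (Or.inr rfl))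
    exact (hln.fr.VX.trans ((lev_isLev (S : Subgroup G) j).zc_le_zc (lev_mono _ hj) (lev_le _ n))) h3
  z2n := hv1 i'
  X16 := (card_V hbg).trans (Subgroup.card_le_of_le
    (hln.fr.VX.trans ((lev_isLev (S : Subgroup G) j).zc_le_zc (lev_mono _ hj) (lev_le _ n))))

/-- **The generation of a local group over `S`.** -/
theorem gen_le (S : Sylow 2 G) {L : Subgroup G} (hL : IsLoc (S : Subgroup G) L) {n j : ℕ} (hj : j ≤ n)
    (hall : ∀ R, IsParS (S : Subgroup G) R → lev (S : Subgroup G) n ≤ o2 R) {z : G} (hz : z ∈ zc (S : Subgroup G))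
    (hz1 : z ≠ 1) (hzS : ∀ x ∈ zc (S : Subgroup G), x ≠ 1 → x = z) :
    L ≤ closure {g | (g ∈ L ∧ g * z = z * g) ∨
      cj g (zc (lev (S : Subgroup G) j)) = zc (lev (S : Subgroup G) j)} := by
  have hlv := lev_isLev (S : Subgroup G) j
  refine hL.le_of_forall S ?_ fun Y hY hYL => ?_
  · intro g hg
    refine subset_closure (Or.inr (cj_eq_of_mem_normalizer ?_))
    exact NO3S.Level.normalizer_le_zc _ (hlv.norm _ hlv.le le_rfl hg.2)
  · by_cases hZ : Y ≤ normalizer (zc (S : Subgroup G) : Set G)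
    · intro g hg
      refine subset_closure (Or.inl ⟨hYL hg, ?_⟩)
      have h1 : g * z * g⁻¹ ∈ zc (S : Subgroup G) := (mem_normalizer_iff.1 (hZ hg) z).1 hz
      have h2 := hzS _ h1 fun e => hz1 (conj_eq_one_iff.1 e)
      exact mul_inv_eq_iff_eq_mul.1 h2
    · have h1 := hall Y ⟨hY, hZ⟩
      have h2 : Y ≤ normalizer (lev (S : Subgroup G) j : Set G) :=
        hlv.le_norm_of_o2 ((lev_mono _ hj).trans h1) (hY.isLoc.o2_le S)
      exact fun g hg => subset_closure (Or.inr (cj_eq_of_mem_normalizer (NO3S.Level.normalizer_le_zc _ (h2 hg))))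

end Cfsg.Agent.Omega.OM.Lev.Low.TwoInst
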