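import Cfsg.Agent.Omega.OM.Lev.BlkGen
import Cfsg.Agent.Omega.NO3S.Level.Fam

/-!
# Every stage `-1, .., n - 1` as `GE`, `BZ`

`(T, H)` : `T` a Sylow 2-subgroup of the minimal parabolic `H`, `B = C_S(Ω₁Z(lev S j)) ≤ T`.

* `ge_neg`, `bz_neg` : stage `-1` (`J(S) ≰ O₂(H)`): `X = Ω₁Z(J(O₂(H)))`, the family is `𝒜(T)`, `ZJ = Ω₁Z(J(S))`;
* `exists_ge` : `j` minimal with `lev S j ≰ O₂(H)`: `GE T H X AA`, `BZ T X AA (BL S j) (zc (lev S j))`, a member of `AA` not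
  contained in `O₂(H)`, and the conclusion of the FF-module theorem.
-/

set_option autoImplicit false
set_option linter.unusedSectionVars false

namespace Cfsg.Agent.Omega.OM.Lev.Low

open Subgroup Cfsg Cfsg.Agent.ZN.ChoiceBase Cfsg.Agent.ZN.ChoiceSit
open Cfsg.Agent.ZN (jj zj bau zc zl o2)
open Cfsg.Agent.MinSimple.MinParabolic (IsMinPar)
open Cfsg.Agent.Omega.FFThm (NatKM SymKM OffM NoOverM ElemM)
open Cfsg.Agent.Omega.FrameFF (cv)
open Cfsg.Agent.Omega.OM.LevB (BL lb zc_B nxt_lev isLev_T bz_lev)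
open Cfsg.Agent.Omega.OM.GLev
open Cfsg.Agent.Omega.NO3S.Level (lev lev_mono lev_isLev Lev BO nxt lev_le_succ)
open Cfsg.Agent.Omega.NO3S.OneLine (BFam)
open Cfsg.Agent.Omega.SQ1.Bau (elem_comm elem_sq)
open Cfsg.Agent.PLocal.ElemAbSup Cfsg.Agent.PLocal.ThompsonJ

universe u

variable {G : Type u} [Group G] [Finite G]

/-- `𝒜(T)` as a family of best offenders on `U ≤ T` -/
theorem bfam_AA {T U L : Subgroup G} (hU : IsElementaryAbelian 2 U) (hUT : U ≤ T) : BFam T U L (AA T) := by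
  have h := NO3S.Level.bfam_AA (L := L) hU hUT
  exact ⟨h.le, h.elem, h.best, h.cut, h.conj⟩

theorem zc_jj (S : Subgroup G) : zc (jj S) = zj S := by
  ext x
  rw [mem_zc, mem_zj]

/-- an involution which commutes with `J(T)` lies in every member of `𝒜(T)` -/
theorem mem_of_AA {T A : Subgroup G} (hA : A ∈ AA T) {x : G} (hx : x ∈ T) (hx2 : x ^ 2 = 1)
    (hc : ∀ y ∈ A, y * x = x * y) : x ∈ A := by
  have h1 : IsElementaryAbelian 2 (zpowers x) := by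
    refine PLocal.OffenderStep.isElementaryAbelian_of_comm (fun a ha b hb => ?_) fun a ha => ?_
    · obtain ⟨m, rfl⟩ := mem_zpowers_iff.1 ha
      obtain ⟨n, rfl⟩ := mem_zpowers_iff.1 hb
      exact ((Commute.refl x).zpow_zpow m n).eq
    · obtain ⟨m, rfl⟩ := mem_zpowers_iff.1 ha
      rw [← zpow_natCast, zpow_comm, zpow_natCast, hx2, one_zpow]
  have h2 : zpowers x ≤ centralizer (A : Set G) := by
    rw [zpowers_le]
    exact mem_centralizer_iff.2 hc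
  have h3 : IsElementaryAbelian 2 (A ⊔ zpowers x : Subgroup G) := isElementaryAbelian_sup hA.1 h1 h2
  have h4 := hA.2.2 _ h3 (sup_le hA.2.1 (zpowers_le.2 hx))
  have h5 : A = A ⊔ zpowers x := Subgroup.eq_of_le_of_card_ge le_sup_left h4
  rw [h5]
  exact mem_sup_right (mem_zpowers x)

section neg

variable {T H : Subgroup G}

/-- a member of `𝒜(T)` inside `O₂(H)` -/
theorem exists_low (hT : Syl T H) (hc : H ⊓ centralizer (o2 H : Set G) ≤ o2 H)
    (hQC : T ⊓ centralizer (zl T H : Set G) ≤ o2 H) (hno : NoOverM (zl T H) H)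
    {A : Subgroup G} (hA : A ∈ AA T) : ∃ A₀ ∈ AA T, A₀ ≤ o2 H := by
  have hTH := hT.1
  have hV : zl T H ≤ zc (o2 H) := MinSimple.VModule.zl_le_zc hT.1 hT.2.1 (syl_not_dvd hT) hc
  have hVQ : zl T H ≤ o2 H := hV.trans (zc_le _)
  have hVel : IsElementaryAbelian 2 (zl T H) := isElementaryAbelian_mono (NO3S.OneLine.zc_elem _) hV
  have hVc : ∀ x ∈ o2 H, ∀ v ∈ zl T H, x * v = v * x := fun x hx v hv => (mem_zc.1 (hV hv)).2.2 x hx
  have hAV : A ⊓ centralizer (zl T H : Set G) = A ⊓ o2 H := by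
    apply le_antisymm
    · exact le_inf inf_le_left (le_trans (inf_le_inf_right _ hA.2.1) hQC)
    · exact inf_le_inf_left _ fun x hx => mem_centralizer_iff.2 fun v hv => (hVc x hx v hv).symm
  have hel : ElemM (zl T H) A := (bfam_AA (L := ⊤) hVel (hVQ.trans (o2_le_syl hT))).elem A hA
  have h1 := hno A (hA.2.1.trans hTH) hel
  rw [hAV] at h1
  have hcom : (zl T H) ≤ centralizer ((A ⊓ o2 H : Subgroup G) : Set G) := fun v hv =>
    mem_centralizer_iff.2 fun a ha => hVc a ha.2 v hv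
  have h2 := card_sup_mul_card_inf hcom
  have h3 : Nat.card ↥((A ⊓ o2 H) ⊓ zl T H) ≤ Nat.card ↥(zl T H ⊓ centralizer (A : Set G)) :=
    card_le_of_le fun x hx => ⟨hx.2, mem_centralizer_iff.2 fun a ha => elem_comm hA.1 a ha x hx.1.1⟩
  have h4 : Nat.card A ≤ Nat.card ↥((A ⊓ o2 H) ⊔ zl T H) := by
    have hp : 0 < Nat.card ↥(zl T H ⊓ centralizer (A : Set G)) := Nat.card_pos
    refine Nat.le_of_mul_le_mul_right (c := Nat.card ↥(zl T H ⊓ centralizer (A : Set G))) ?_ hp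
    calc Nat.card A * Nat.card ↥(zl T H ⊓ centralizer (A : Set G))
        ≤ Nat.card (zl T H) * Nat.card ↥(A ⊓ o2 H) := h1
      _ = Nat.card ↥((A ⊓ o2 H) ⊔ zl T H) * Nat.card ↥((A ⊓ o2 H) ⊓ zl T H) := by rw [h2]; ring
      _ ≤ _ := Nat.mul_le_mul_left _ h3
  have h5 : IsElementaryAbelian 2 ((A ⊓ o2 H) ⊔ zl T H : Subgroup G) :=
    isElementaryAbelian_sup (isElementaryAbelian_mono hA.1 inf_le_left) hVel hcom
  refine ⟨_, ⟨h5, sup_le (inf_le_left.trans hA.2.1) (hVQ.trans (o2_le_syl hT)), fun D hD hDT =>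
    (hA.2.2 D hD hDT).trans h4⟩, sup_le inf_le_right hVQ⟩

/-- `Ω₁Z(J(T)) ≤ Ω₁Z(J(O₂(H)))` -/
theorem zj_le_o2 (hT : Syl T H) {A₀ : Subgroup G} (hA₀ : A₀ ∈ AA T) (hA₀Q : A₀ ≤ o2 H) :
    zj T ≤ zj (o2 H) := by
  have hQT : o2 H ≤ T := o2_le_syl hT
  have hsub : ∀ A ∈ AA (o2 H), A ∈ AA T := fun A hA =>
    ⟨hA.1, hA.2.1.trans hQT, fun D hD hDT => (hA₀.2.2 D hD hDT).trans (hA.2.2 A₀ hA₀.1 hA₀Q)⟩
  have hjj : jj (o2 H) ≤ jj T := by
    rw [jj_eq]
    exact sSup_le fun A hA => le_jj (hsub A hA)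
  intro z hz
  obtain ⟨h1, h2, h3⟩ := mem_zj.1 hz
  have h4 : z ∈ A₀ := mem_of_AA hA₀ (jj_le T h1) h2 fun y hy => h3 y (le_jj hA₀ hy)
  have h5 : ∀ y ∈ jj (o2 H), y * z = z * y := fun y hy => h3 y (hjj hy)
  exact mem_zj.2 ⟨mem_jj_of_comm (hA₀Q h4) h2 h5, h2, h5⟩

/-- `Ω₁Z(O₂(H)) ≤ Ω₁Z(J(O₂(H)))` -/
theorem zc_le_zj (Q : Subgroup G) : zc Q ≤ zj Q := by
  intro z hz
  obtain ⟨h1, h2, h3⟩ := mem_zc.1 hz
  have h4 : ∀ y ∈ jj Q, y * z = z * y := fun y hy => h3 y (jj_le Q hy)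
  exact mem_zj.2 ⟨mem_jj_of_comm h1 h2 h4, h2, h4⟩

theorem zj_elem (Q : Subgroup G) : IsElementaryAbelian 2 (zj Q) :=
  PLocal.OffenderStep.isElementaryAbelian_of_comm
    (fun _ hx _ hy => (mem_zj.1 hy).2.2 _ (mem_zj.1 hx).1) fun _ hx => (mem_zj.1 hx).2.1

theorem zjQ_le (Q : Subgroup G) : zj Q ≤ Q := fun _ hz => jj_le Q (mem_zj.1 hz).1

/-- **stage `-1` as `GE`** -/
theorem ge_neg (hT : Syl T H) (hP : IsMinPar T H) (hc : H ⊓ centralizer (o2 H : Set G) ≤ o2 H)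
    (hZ : ¬ H ≤ centralizer (zc T : Set G)) (hno : NoOverM (zl T H) H) :
    GE T H (zj (o2 H)) (AA T) where
  hm := SQ1.FFOne.minH_of hT hP hc
  fam := bfam_AA (zj_elem _) ((zjQ_le _).trans (o2_le_syl hT))
  elem := zj_elem _
  norm := (le_normalizer_o2 H).trans (normalizer_le_of_cj (F := zj) zj_cj (o2 H))
  VX := (MinSimple.VModule.zl_le_zc hT.1 hT.2.1 (syl_not_dvd hT) hc).trans (zc_le_zj _)
  QC := BlkGen.inf_cent hT hP hZ
  noOver := hno

/-- **stage `-1` as `BZ`** -/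
theorem bz_neg (S : Sylow 2 G) (hT : IsPGroup 2 T) (hB : BL (S : Subgroup G) 0 ≤ T) {X : Subgroup G} (hXT : X ≤ T)
    (hX2 : ∀ x ∈ X, x ^ 2 = 1) (hZX : zj T ≤ X) :
    BZ T X (AA T) (BL (S : Subgroup G) 0) (zc (lev (S : Subgroup G) 0)) := by
  have hb := lb S 0
  have hle := hb.KB.trans hB
  have hjj : jj T = jj (S : Subgroup G) := MinSimple.EmptyTI.jj_eq S hT hle
  have hzz : zc (lev (S : Subgroup G) 0) = zj T := by
    show zc (jj (S : Subgroup G)) = zj T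
    rw [← hjj, zc_jj]
  refine
    { mem_ZJ := fun z => ?_
      eqB := (hb.inf_eq hT hB).symm
      zcB := zc_B S 0
      wn := fun R hR hBR => hb.two_le hR hBR
      sylB := fun R hR hBR hRc => hb.syl.2.2 R hRc hR hBR }
  rw [hzz]
  constructor
  · exact fun hz => ⟨hZX hz, fun A hA a ha => (mem_zj.1 hz).2.2 a (le_jj hA ha)⟩
  · rintro ⟨hzX, hz⟩
    have h1 : ∀ y ∈ jj T, y * z = z * y := by
      have h2 : jj T ≤ centralizer {z} := by
        rw [jj_eq]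
        refine sSup_le fun A hA a ha => ?_
        rw [mem_centralizer_singleton_iff]
        exact hz A hA a ha
      exact fun y hy => mem_centralizer_singleton_iff.1 (h2 hy)
    exact mem_zj.2 ⟨mem_jj_of_comm (hXT hzX) (hX2 z hzX) h1, hX2 z hzX, h1⟩

end neg

/-- The stage of `(T, H)` and the conclusion of the FF-module theorem, all stages. -/
theorem exists_ge (S : Sylow 2 G) {T H : Subgroup G} {j : ℕ} (hT : Syl T H) (hB : BL (S : Subgroup G) j ≤ T)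
    (hP : IsMinPar T H) (hc : H ⊓ centralizer (o2 H : Set G) ≤ o2 H)
    (hlow : ∀ i < j, lev (S : Subgroup G) i ≤ o2 H) (hn : ¬ lev (S : Subgroup G) j ≤ o2 H)
    (hZ : ¬ H ≤ centralizer (zc T : Set G)) :
    ∃ (X : Subgroup G) (AA' : Set (Subgroup G)), GE T H X AA' ∧
      BZ T X AA' (BL (S : Subgroup G) j) (zc (lev (S : Subgroup G) j)) ∧ (∃ A ∈ AA', ¬ A ≤ o2 H) ∧
      ((∃ (F : Type) (_ : Field F) (_ : Finite F) (_ : CharP F 2) (k : ℕ), 0 < k ∧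
          Nonempty (NatKM F T H (zl T H) (cv T H) k)) ∨
        ∃ k m : ℕ, 0 < k ∧ 2 ≤ m ∧ Nonempty (SymKM T H (zl T H) (cv T H) k m)) := by
  have hT2 := hT.2.1
  have hQC := BlkGen.inf_cent hT hP hZ
  have hVzc := MinSimple.VModule.zl_le_zc hT.1 hT2 (syl_not_dvd hT) hc
  have hb := lb S j
  have hle := hb.KB.trans hB
  cases j with
  | zero =>
    have hjj : jj T = jj (S : Subgroup G) := MinSimple.EmptyTI.jj_eq S hT2 hle
    obtain ⟨A, hA, hAQ⟩ : ∃ A ∈ AA T, ¬ A ≤ o2 H := by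
      by_contra hcon
      push Not at hcon
      apply hn
      show jj (S : Subgroup G) ≤ _
      rw [← hjj, jj_eq]
      exact sSup_le hcon
    have hVX : zl T H ≤ T := (hVzc.trans (zc_le _)).trans (o2_le_syl hT)
    have hVel : IsElementaryAbelian 2 (zl T H) := isElementaryAbelian_mono (NO3S.OneLine.zc_elem _) hVzc
    have hoff : OffM (zl T H) A :=
      { toElemM := (bfam_AA (L := ⊤) hVel hVX).elem A hA
        ne := fun h1 => hAQ ((le_inf hA.2.1 h1).trans hQC)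
        le := (bfam_AA (L := ⊤) hVel hVX).off (elem_comm hVel) le_rfl hA }
    obtain ⟨hno, hcon⟩ := FF.Glob.ffthmM G T H hT hP hc ⟨A, hA.2.1.trans hT.1, hoff⟩
    obtain ⟨A₀, hA₀, hA₀Q⟩ := exists_low hT hc hQC hno hA
    have hXT : zj (o2 H) ≤ T := (zjQ_le _).trans (o2_le_syl hT)
    exact ⟨_, _, ge_neg hT hP hc hZ hno,
      bz_neg S hT2 hB hXT (fun x hx => (mem_zj.1 hx).2.1) (zj_le_o2 hT hA₀ hA₀Q), ⟨A, hA, hAQ⟩, hcon⟩
  | succ n =>
    have hK := hlow n (Nat.lt_succ_self n)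
    have hL := isLev_T S hT2 ((lev_le_succ _ n).trans hle)
    have hnx := nxt_lev S hT2 hle
    have hV : zl T H ≤ zc (lev (S : Subgroup G) n) := hVzc.trans (hL.zc_o2_le hK (o2_le_syl hT))
    obtain ⟨A, hA, hAQ⟩ : ∃ A ∈ BO T (lev (S : Subgroup G) n), ¬ A ≤ o2 H := by
      by_contra hcon
      push Not at hcon
      apply hn
      rw [← hnx]
      exact sup_le ((inf_le_inf_left _ (centralizer_le hV)).trans hQC) (sSup_le hcon)
    have hoff : OffM (zl T H) A := hA.2.offM hV fun h1 => hAQ ((le_inf hA.1 h1).trans hQC)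
    obtain ⟨hno, hcon⟩ := FF.Glob.ffthmM G T H hT hP hc ⟨A, hA.1.trans hT.1, hoff⟩
    exact ⟨_, _, GE.of_lev hT hP hc hZ hL hK hno, bz_lev S hT2 hB, ⟨A, hA, hAQ⟩, hcon⟩

end Cfsg.Agent.Omega.OM.Lev.Low
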