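import Cfsg.Agent.Omega.OM.Lev.Low.PlugTwo

/-!
# TORUS, `q = 2`, (W) and (L) (helper607 #23961)

`FrL B Q V X ZJ L W Z C A 2`, `c ≤ V` a subgroup of order `4` (the line of a block `K` of natural type over `𝔽₄` of a
parabolic of lower stage), `N = C_X(K)`, `τ` an element of `K` which acts on `c` without fixed points and centralises `N`.

* `exists_cj_ZJ` : every element of `V` is conjugate to an element of `Z_J` with the same support;
* `full_V` : (W) for elements of `V`;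
* `line` : **(L)**: `c = W l` for one `l` and `W m ≤ N` for `m ≠ l`;
* `full_of_conj` : **(W)**: a conjugate in `Z_J` of an element of `Z_J` of full support has full support.
-/

set_option autoImplicit false
set_option linter.unusedSectionVars false

namespace Cfsg.Agent.Omega.OM.Lev.Low.Line

open Subgroup Cfsg Cfsg.Agent.ZN.ChoiceBase Cfsg.Agent.ZN.ChoiceSit
open Cfsg.Agent.ZN (jj zj bau zc zl o2)
open Cfsg.Agent.Omega.OM.Lev.Uni (FrL)
open Cfsg.Agent.Omega.OM.SwapL (Ln ZL BL)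
open Cfsg.Agent.Omega.SQ1.Bau (elem_comm elem_sq)

universe u

variable {G : Type u} [Group G] {ι : Type*} {B Q V X ZJ : Subgroup G} {L W Z C A : ι → Subgroup G}

/-- full support -/
def Full (C : ι → Subgroup G) (v : G) : Prop := ∀ i, v ∉ C i

/-- `L i` is transitive on `W i` and centralises `C i` -/
def Tr (W Z C : ι → Subgroup G) : Prop :=
  ∀ i, ∀ x ∈ W i, x ≠ 1 → ∃ l : G, (∀ y ∈ C i, l * y = y * l) ∧ ∃ z ∈ Z i, l * z * l⁻¹ = x

theorem two_lt_card {H : Subgroup G} [Finite G] {a b c : G} (ha : a ∈ H) (hb : b ∈ H) (hc : c ∈ H) (hab : a ≠ b)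
    (hac : a ≠ c) (hbc : b ≠ c) : 2 < Nat.card H := by
  let f : Fin 3 → H := ![⟨a, ha⟩, ⟨b, hb⟩, ⟨c, hc⟩]
  have hf : Function.Injective f := by
    intro x y hxy
    fin_cases x <;> fin_cases y <;> simp [f, Subtype.ext_iff] at hxy ⊢ <;> first
      | exact absurd hxy hab | exact absurd hxy.symm hab
      | exact absurd hxy hac | exact absurd hxy.symm hac
      | exact absurd hxy hbc | exact absurd hxy.symm hbc
  have := Nat.card_le_card_of_injective f hf
  rw [Nat.card_eq_fintype_card, Fintype.card_fin] at this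
  omega

theorem eq_four {n : ℕ} (h : n ∣ 4) (h2 : 2 < n) : n = 4 := by
  obtain ⟨k, hk⟩ := h
  rcases k with _ | _ | k
  · omega
  · omega
  · nlinarith

section base

variable (h : FrL B Q V X ZJ L W Z C A 2)
include h

theorem mc {v w : G} (hv : v ∈ V) (hw : w ∈ V) : v * w = w * v := h.Vc hv hw

theorem mi {v : G} (hv : v ∈ V) : v * v = 1 := by
  rw [← pow_two]
  exact elem_sq h.elX v (h.VX hv)

theorem inv_eq {v : G} (hv : v ∈ V) : v⁻¹ = v := inv_eq_of_mul_eq_one_left (mi h hv)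

/-- an element of `W i ∩ C i` is trivial -/
theorem one_of {i : ι} {x : G} (h1 : x ∈ W i) (h2 : x ∈ C i) : x = 1 := by
  have h3 : x ∈ W i ⊓ C i := ⟨h1, h2⟩
  rwa [h.dir i, mem_bot] at h3

theorem mul_mem_C {i j : ι} (hij : i ≠ j) {w x : G} (hw : w ∈ W j) : w * x ∈ C i ↔ x ∈ C i :=
  mul_mem_cancel_left (h.WjC i j hij hw)

/-- `Z i = {1, z}` -/
theorem Z_two {i : ι} {z z' : G} (hz : z ∈ Z i) (hz1 : z ≠ 1) (hz' : z' ∈ Z i) (hz1' : z' ≠ 1) : z = z' := by
  have h1 : Nat.card (Z i) = 2 := h.cardZ i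
  have hf : Finite (Z i) := Nat.finite_of_card_ne_zero (by omega)
  obtain ⟨a, b, hab, hab2⟩ := Nat.card_eq_two_iff.1 h1
  have key : ∀ x : Z i, x = a ∨ x = b := fun x => by
    have : x ∈ ({a, b} : Set (Z i)) := by rw [hab2]; trivial
    simpa using this
  by_contra hne
  have h2 := key ⟨z, hz⟩
  have h3 := key ⟨z', hz'⟩
  have h4 := key 1
  have e1 : (⟨z, hz⟩ : Z i) ≠ ⟨z', hz'⟩ := fun e => hne (congrArg Subtype.val e)
  have e2 : (⟨z, hz⟩ : Z i) ≠ 1 := fun e => hz1 (congrArg Subtype.val e)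
  have e3 : (⟨z', hz'⟩ : Z i) ≠ 1 := fun e => hz1' (congrArg Subtype.val e)
  rcases h2 with h2 | h2 <;> rcases h3 with h3 | h3 <;> rcases h4 with h4 | h4 <;>
    simp_all

theorem exists_z (i : ι) : ∃ z ∈ Z i, z ≠ 1 := by
  have h1 : Nat.card (Z i) = 2 := h.cardZ i
  have hf : Finite (Z i) := Nat.finite_of_card_ne_zero (by omega)
  have : Nontrivial (Z i) := Finite.one_lt_card_iff_nontrivial.1 (by omega)
  obtain ⟨z, hz⟩ := exists_ne (1 : Z i)
  exact ⟨z, z.2, fun h => hz (Subtype.ext h)⟩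

theorem ZW (i : ι) : Z i ≤ W i := (h.blk i).ZV

/-- if all components lie in the `Z i`, then `v ∈ ZJ` -/
theorem mem_ZJ_of {v : G} (hv : v ∈ V) (hcmp : ∀ i, ∃ a ∈ Z i, ∃ b ∈ C i, v = a * b) : v ∈ ZJ := by
  refine (h.mem_ZJ v).2 ⟨hv, fun b hb => ?_⟩
  have hbV : b * v * b⁻¹ ∈ V := by
    rcases isEmpty_or_nonempty ι with hι | ⟨⟨i⟩⟩
    · have h1 : v = 1 := h.C0 v hv fun i => hι.elim i
      rw [h1]
      simp [one_mem]
    · exact h.LV i b ((h.blk i).BL hb) v hv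
  have h1 : b * v * b⁻¹ * v⁻¹ = 1 := by
    refine h.C0 _ (mul_mem hbV (inv_mem hv)) fun i => ?_
    obtain ⟨a, ha, c, hc, rfl⟩ := hcmp i
    have h2 := (h.blk i).cZ b hb a ha
    have h3 := h.BC i b hb c hc
    have e : b * (a * c) * b⁻¹ * (a * c)⁻¹ = (b * c * b⁻¹) * c⁻¹ := by
      have e1 : b * (a * c) * b⁻¹ = (b * c * b⁻¹) * a := by
        have e2 : b * (a * c) * b⁻¹ = a * (b * c * b⁻¹) := by
          calc b * (a * c) * b⁻¹ = (b * a) * c * b⁻¹ := by group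
            _ = a * (b * c * b⁻¹) := by rw [h2]; group
        rw [e2]
        exact mc h (h.ZV i ha) (h.CV i h3)
      rw [e1, mul_inv_rev]
      have e3 : b * c * b⁻¹ * a * (c⁻¹ * a⁻¹) = b * c * b⁻¹ * (a * c⁻¹) * a⁻¹ := by group
      rw [e3, mc h (h.ZV i ha) (inv_mem (h.CV i hc))]
      group
    rw [e]
    exact mul_mem h3 (inv_mem hc)
  exact mul_inv_eq_iff_eq_mul.1 (mul_inv_eq_one.1 h1)

/-- the components of an element of `ZJ` -/
theorem ZJ_cmp {v : G} (hv : v ∈ ZJ) (i : ι) : ∃ a ∈ Z i, ∃ b ∈ C i, v = a * b := by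
  obtain ⟨w, hw, c, hc, -, e⟩ := h.split_ZJ i hv
  exact ⟨w, hw, c, hc, e⟩

/-- every element of `V` is conjugate to an element of `Z_J` with the same support -/
theorem exists_cj_ZJ [Finite ι] (htr : Tr W Z C) {v : G} (hv : v ∈ V) :
    ∃ g : G, g * v * g⁻¹ ∈ ZJ ∧ ∀ i, g * v * g⁻¹ ∈ C i ↔ v ∈ C i := by
  have key : ∀ s : Set ι, s.Finite → ∃ g : G, g * v * g⁻¹ ∈ V ∧ (∀ i, g * v * g⁻¹ ∈ C i ↔ v ∈ C i) ∧
      ∀ i ∈ s, ∃ a ∈ Z i, ∃ b ∈ C i, g * v * g⁻¹ = a * b := by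
    intro s hs
    induction s, hs using Set.Finite.induction_on with
    | empty =>
      refine ⟨1, by simpa using hv, fun i => by simp, fun i hi => absurd hi (Set.notMem_empty i)⟩
    | @insert i s hi _ ih =>
      obtain ⟨g, hg, hgC, hgs⟩ := ih
      obtain ⟨w, hw, c, hc, e⟩ := h.WC i _ hg
      by_cases hw1 : w = 1
      · refine ⟨g, hg, hgC, fun j hj => ?_⟩
        rcases hj with rfl | hj
        · exact ⟨1, one_mem _, c, hc, by rw [e, hw1]⟩
        · exact hgs j hj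
      · obtain ⟨l, hl, z, hz, hlz⟩ := htr i w hw hw1
        have hz1 : z ≠ 1 := by
          rintro rfl
          apply hw1
          rw [← hlz]
          simp
        have e1 : (l⁻¹ * g) * v * (l⁻¹ * g)⁻¹ = z * c := by
          have e2 : (l⁻¹ * g) * v * (l⁻¹ * g)⁻¹ = l⁻¹ * (g * v * g⁻¹) * l := by group
          rw [e2, e, ← hlz]
          have e3 : c * l = l * c := (hl c hc).symm
          calc l⁻¹ * (l * z * l⁻¹ * c) * l = z * l⁻¹ * (c * l) := by group
            _ = z * c := by rw [e3]; group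
        have hzV : z ∈ V := h.ZV i hz
        have hcV : c ∈ V := h.CV i hc
        have e4 : z * c = z * w⁻¹ * (g * v * g⁻¹) := by rw [e]; group
        refine ⟨l⁻¹ * g, by rw [e1]; exact mul_mem hzV hcV, fun j => ?_, fun j hj => ?_⟩
        · rw [e1, ← hgC j, e]
          by_cases hji : j = i
          · subst hji
            constructor
            · intro h1
              exact absurd (one_of h (ZW h j hz) ((mul_mem_cancel_right hc).1 h1)) hz1
            · intro h1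
              exact absurd (one_of h hw ((mul_mem_cancel_right hc).1 h1)) hw1
          · rw [mul_mem_C h hji (ZW h i hz), mul_mem_C h hji hw]
        · rw [e1]
          by_cases hji : j = i
          · subst hji
            exact ⟨z, hz, c, hc, rfl⟩
          · have hjs : j ∈ s := by
              rcases hj with hj | hj
              · exact absurd hj hji
              · exact hj
            obtain ⟨a, ha, b, hb, e5⟩ := hgs j hjs
            have h6 : z * w⁻¹ ∈ C j := h.WjC j i hji (mul_mem (ZW h i hz) (inv_mem hw))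
            refine ⟨a, ha, z * w⁻¹ * b, mul_mem h6 hb, ?_⟩
            rw [e4, e5]
            have h7 := mc h (h.CV j h6) (h.ZV j ha)
            calc z * w⁻¹ * (a * b) = (z * w⁻¹ * a) * b := by group
              _ = (a * (z * w⁻¹)) * b := by rw [h7]
              _ = _ := by group
  obtain ⟨g, hg, hgC, hgs⟩ := key Set.univ (Set.toFinite _)
  exact ⟨g, mem_ZJ_of h hg fun i => hgs i (Set.mem_univ i), hgC⟩

/-- (W) for elements of `V` -/
theorem full_V [Finite ι] (htr : Tr W Z C)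
    (hW : ∀ z ∈ ZJ, ∀ g : G, g * z * g⁻¹ ∈ ZJ → Full C z → Full C (g * z * g⁻¹)) {v g : G} (hv : v ∈ V)
    (hg : g * v * g⁻¹ ∈ V) (hf : Full C v) : Full C (g * v * g⁻¹) := by
  obtain ⟨a, ha, haC⟩ := exists_cj_ZJ h htr hv
  obtain ⟨b, hb, hbC⟩ := exists_cj_ZJ h htr hg
  have e : (b * g * a⁻¹) * (a * v * a⁻¹) * (b * g * a⁻¹)⁻¹ = b * (g * v * g⁻¹) * b⁻¹ := by group
  have h1 := hW _ ha (b * g * a⁻¹) (by rw [e]; exact hb) fun i hi => hf i ((haC i).1 hi)
  rw [e] at h1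
  exact fun i hi => h1 i ((hbC i).2 hi)

/-- an element of `ZJ` of full support -/
theorem exists_full [Finite ι] : ∃ z ∈ ZJ, Full C z := by
  have key : ∀ s : Set ι, s.Finite → ∃ z ∈ ZJ, (∀ i ∈ s, z ∉ C i) ∧ ∀ i ∉ s, z ∈ C i := by
    intro s hs
    induction s, hs using Set.Finite.induction_on with
    | empty => exact ⟨1, one_mem _, fun i hi => absurd hi (Set.notMem_empty i), fun i _ => one_mem _⟩
    | @insert i s hi _ ih =>
      obtain ⟨z, hz, h1, h2⟩ := ih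
      obtain ⟨w, hw, hw1⟩ := exists_z h i
      refine ⟨w * z, mul_mem (h.Z_le i hw) hz, fun j hj => ?_, fun j hj => ?_⟩
      · by_cases hji : j = i
        · subst hji
          intro h3
          exact hw1 (one_of h (ZW h j hw) ((mul_mem_cancel_right (h2 j hi)).1 h3))
        · rw [mul_mem_C h hji (ZW h i hw)]
          rcases hj with hj | hj
          · exact absurd hj hji
          · exact h1 j hj
      · have hji : j ≠ i := fun e => hj (Or.inl e)
        rw [mul_mem_C h hji (ZW h i hw)]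
        exact h2 j fun e => hj (Or.inr e)
  obtain ⟨z, hz, h1, -⟩ := key Set.univ (Set.toFinite _)
  exact ⟨z, hz, fun i => h1 i (Set.mem_univ i)⟩

/-- `ZJ ∩ C l ≤ N` if `Z m ≤ N` for `m ≠ l` -/
theorem ZJ_C_le [Finite ι] {l : ι} {N : Subgroup G} (hN : ∀ m, m ≠ l → Z m ≤ N) {x : G} (hx : x ∈ ZJ)
    (hxC : x ∈ C l) : x ∈ N := by
  classical
  have h1 : ZJ ≤ Z l ⊔ (N ⊓ C l) := by
    refine zj_le h fun i => ?_
    by_cases hi : i = l
    · rw [hi]; exact le_sup_left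
    · exact (le_inf (hN i hi) ((ZW h i).trans (h.WjC l i (Ne.symm hi)))).trans le_sup_right
  have hcomm : ∀ a ∈ Z l, ∀ b ∈ N ⊓ C l, a * b = b * a := fun a ha b hb =>
    mc h (h.ZV l ha) (h.CV l (mem_inf.1 hb).2)
  obtain ⟨z, hz, n, hn, e⟩ := SQ1.Bau.mem_sup_comm hcomm (h1 hx)
  have h3 : z ∈ C l := by
    rw [e] at hxC
    exact (mul_mem_cancel_right (mem_inf.1 hn).2).1 hxC
  rw [e, one_of h (ZW h l hz) h3, one_mul]
  exact (mem_inf.1 hn).1

/-- **(L)** -/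
theorem line [Finite G] [Finite ι] (htr : Tr W Z C)
    (hW : ∀ z ∈ ZJ, ∀ g : G, g * z * g⁻¹ ∈ ZJ → Full C z → Full C (g * z * g⁻¹))
    {c N : Subgroup G} (hcV : c ≤ V) (hc4 : Nat.card c = 4) (hfix : ∀ x ∈ X, ∃ a ∈ c, a * x ∈ N)
    (htriv : c ⊓ N = ⊥) (hBc : ∀ b ∈ B, ∀ x ∈ c, b * x * b⁻¹ ∈ c) (hBN : ∀ b ∈ B, ∀ x ∈ N, b * x * b⁻¹ ∈ N)
    (hZJ : ¬ ZJ ≤ N) {τ : G} (hτc : ∀ x ∈ c, τ * x * τ⁻¹ ∈ c) (hτ1 : ∀ x ∈ c, τ * x * τ⁻¹ = x → x = 1)
    (hτN : ∀ x ∈ N, τ * x * τ⁻¹ = x) :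
    ∃ l, c = W l ∧ (∀ m, m ≠ l → W m ≤ N) ∧ ∀ m, m ≠ l → Z m ≤ N := by
  classical
  have hfull := fun {v g : G} (hv : v ∈ V) (hg : g * v * g⁻¹ ∈ V) => full_V h htr hW (v := v) (g := g) hv hg
  -- a root element which centralises `c` has its `Z i` in `N`
  have key1 : ∀ i, (∀ t ∈ A i, ∀ x ∈ c, t * x = x * t) → Z i ≤ N := by
    intro i hi z hz
    have hne := h.Ane i
    push Not at hne
    obtain ⟨t, ht, w0, hw0, hne⟩ := hne
    obtain ⟨w, hw, e⟩ := exists_comm h (h.AB i ht) (fun hh => hne (hh w0 hw0)) hz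
    have hwV : w ∈ V := h.WV i hw
    obtain ⟨a, ha, haN⟩ := hfix w (h.VX hwV)
    have haV := hcV ha
    have h1 := hBN t (h.AB i ht) _ haN
    have h2 := mul_mem haN h1
    have hta : t * a * t⁻¹ = a := mul_inv_eq_iff_eq_mul.2 (hi t ht a ha)
    have htw : t * w * t⁻¹ ∈ V := h.LV i t ((h.blk i).BL (h.AB i ht)) w hwV
    have e1 : a * w * (t * (a * w) * t⁻¹) = w * (t * w * t⁻¹) := by
      have e2 : t * (a * w) * t⁻¹ = a * (t * w * t⁻¹) := by
        calc t * (a * w) * t⁻¹ = (t * a * t⁻¹) * (t * w * t⁻¹) := by group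
          _ = _ := by rw [hta]
      rw [e2]
      calc a * w * (a * (t * w * t⁻¹)) = a * (w * a) * (t * w * t⁻¹) := by group
        _ = (a * a) * w * (t * w * t⁻¹) := by rw [mc h hwV haV]; group
        _ = _ := by rw [mi h haV, one_mul]
    rwa [e1, e] at h2
  -- (1)
  obtain ⟨l, t, ht, x0, hx0, hne⟩ : ∃ l, ∃ t ∈ A l, ∃ x ∈ c, t * x ≠ x * t := by
    by_contra hcon
    push Not at hcon
    exact hZJ (zj_le h fun i => key1 i fun t ht x hx => hcon i t ht x hx)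
  -- (2)
  have hxV := hcV hx0
  have h1 : t * x0 * t⁻¹ * x0⁻¹ ∈ Z l := h.A_comm ht hxV
  have h2 : t * x0 * t⁻¹ * x0⁻¹ ∈ c := mul_mem (hBc t (h.AB l ht) x0 hx0) (inv_mem hx0)
  have h3 : t * x0 * t⁻¹ * x0⁻¹ ≠ 1 := fun e => hne (mul_inv_eq_iff_eq_mul.1 (mul_inv_eq_one.1 e))
  have hZc : Z l ≤ c := by
    intro z hz
    by_cases hz1 : z = 1
    · rw [hz1]; exact one_mem _
    · rw [Z_two h hz hz1 h1 h3]; exact h2
  obtain ⟨zl, hzl, hzl1⟩ := exists_z h l
  -- (3)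
  have hidx : ((Z l).subgroupOf c).index = 2 := by
    have e1 := Subgroup.card_mul_index ((Z l).subgroupOf c)
    have e2 : Nat.card ((Z l).subgroupOf c) = 2 := by
      rw [Nat.card_congr (subgroupOfEquivOfLe hZc).toEquiv, h.cardZ l]
    rw [e2, hc4] at e1
    omega
  have h4 : ∀ b ∈ B, ∀ x ∈ c, b * x * b⁻¹ * x⁻¹ ∈ Z l := by
    intro b hb x hx
    have hbx := hBc b hb x hx
    by_cases hxZ : x ∈ Z l
    · rw [(h.blk l).cZ b hb x hxZ]
      simp [one_mem]
    · have hbxZ : b * x * b⁻¹ ∉ Z l := by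
        intro h5
        apply hxZ
        have h6 := (h.blk l).cZ b hb _ h5
        have e : x = b * x * b⁻¹ := by
          have h7 : b * x = b * (b * x * b⁻¹) := by rw [h6]; group
          exact mul_left_cancel h7
        rw [e]; exact h5
      have h5 := Subgroup.mul_mem_iff_of_index_two hidx (a := ⟨b * x * b⁻¹, hbx⟩) (b := ⟨x, hx⟩⁻¹)
      have h6 : ((⟨b * x * b⁻¹, hbx⟩ * ⟨x, hx⟩⁻¹ : c) : G) = b * x * b⁻¹ * x⁻¹ := rfl
      rw [mem_subgroupOf, mem_subgroupOf, mem_subgroupOf, h6] at h5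
      refine h5.2 (iff_of_false hbxZ ?_)
      intro h7
      exact hxZ (by simpa using h7)
  -- (4)
  have h5 : ∀ x ∈ c, ∃ w ∈ W l, ∃ b ∈ C l, b ∈ ZJ ∧ x = w * b := by
    intro x hx
    obtain ⟨w, hw, b', hb', rfl⟩ := h.WC l x (hcV hx)
    refine ⟨w, hw, b', hb', (h.mem_ZJ b').2 ⟨h.CV l hb', fun b hb => ?_⟩, rfl⟩
    have h6 := h4 b hb _ hx
    have h7 := (h.blk l).BV hb hw
    have h8 := h.BC l b hb b' hb'
    have e : b * (w * b') * b⁻¹ * (w * b')⁻¹ = (b * w * b⁻¹ * w⁻¹) * (b * b' * b⁻¹ * b'⁻¹) := by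
      have c1 := mc h (h.WV l hw) (h.CV l (mul_mem h8 (inv_mem hb')))
      calc b * (w * b') * b⁻¹ * (w * b')⁻¹ = (b * w * b⁻¹) * ((b * b' * b⁻¹ * b'⁻¹) * w⁻¹) := by group
        _ = (b * w * b⁻¹) * (w⁻¹ * (b * b' * b⁻¹ * b'⁻¹)) := by
          rw [mc h (h.CV l (mul_mem h8 (inv_mem hb'))) (inv_mem (h.WV l hw))]
        _ = _ := by group
    rw [e] at h6
    have h9 : b * b' * b⁻¹ * b'⁻¹ ∈ W l :=
      (mul_mem_cancel_left (mul_mem h7 (inv_mem hw))).1 (ZW h l h6)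
    have h10 := one_of h h9 (mul_mem h8 (inv_mem hb'))
    exact mul_inv_eq_iff_eq_mul.1 (mul_inv_eq_one.1 h10)
  -- (5)
  have h6 : ∀ m, m ≠ l → Z m ≤ N := by
    intro m hm
    refine key1 m fun s hs x hx => ?_
    obtain ⟨w, hw, b, hb, hbZ, rfl⟩ := h5 x hx
    have c1 : Commute s w := h.AC m s hs w (h.WjC m l hm hw)
    have c2 : Commute s b := ((h.mem_ZJ b).1 hbZ).2 s (h.AB m hs)
    exact (c1.mul_right c2).eq
  -- (6)
  obtain ⟨z0, hz0, hz0f⟩ := exists_full h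
  obtain ⟨y, hy, c0, hc0, hc0Z, ez0⟩ := h.split_ZJ l hz0
  have hy1 : y ≠ 1 := by
    rintro rfl
    apply hz0f l
    rw [ez0, one_mul]
    exact hc0
  have hc0N : c0 ∈ N := ZJ_C_le h h6 hc0Z hc0
  have hc0f : ∀ i, i ≠ l → c0 ∉ C i := fun i hi h7 => hz0f i (by
    rw [ez0, mul_mem_C h hi (ZW h l hy)]; exact h7)
  have hyc : y ∈ c := hZc hy
  have hx := hτc y hyc
  obtain ⟨w, hw, b', hb', hb'Z, ex⟩ := h5 _ hx
  have hτz : τ * z0 * τ⁻¹ = w * (b' * c0) := by
    rw [ez0]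
    calc τ * (y * c0) * τ⁻¹ = (τ * y * τ⁻¹) * (τ * c0 * τ⁻¹) := by group
      _ = w * b' * c0 := by rw [ex, hτN c0 hc0N]
      _ = _ := by group
  have hτzV : τ * z0 * τ⁻¹ ∈ V := by
    rw [hτz]
    exact mul_mem (h.WV l hw) (mul_mem (h.CV l hb') (h.CV l hc0))
  have hf1 := hfull (h.ZJV hz0) hτzV hz0f
  have hb'1 : b' = 1 := by
    refine h.C0 b' (h.CV l hb') fun i => ?_
    by_cases hi : i = l
    · rw [hi]; exact hb'
    · by_contra hbi
      have h7 : b' * c0 ∉ C i := fun h8 => hf1 i (by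
        rw [hτz, mul_mem_C h hi hw]; exact h8)
      obtain ⟨a1, ha1, d1, hd1, e1⟩ := ZJ_cmp h hb'Z i
      obtain ⟨a2, ha2, d2, hd2, e2⟩ := ZJ_cmp h hc0Z i
      have ha1' : a1 ≠ 1 := by
        rintro rfl
        exact hbi (by rw [e1, one_mul]; exact hd1)
      have ha2' : a2 ≠ 1 := by
        rintro rfl
        exact hc0f i hi (by rw [e2, one_mul]; exact hd2)
      have e3 := Z_two h ha1 ha1' ha2 ha2'
      apply h7
      rw [e1, e2, ← e3]
      have e4 : a1 * d1 * (a1 * d2) = (a1 * a1) * (d1 * d2) := by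
        calc a1 * d1 * (a1 * d2) = a1 * (d1 * a1) * d2 := by group
          _ = a1 * (a1 * d1) * d2 := by rw [mc h (h.CV i hd1) (h.ZV i ha1)]
          _ = _ := by group
      rw [e4, mi h (h.ZV i ha1), one_mul]
      exact mul_mem hd1 hd2
  have hxW : τ * y * τ⁻¹ ∈ W l := by rw [ex, hb'1, mul_one]; exact hw
  have hx1 : τ * y * τ⁻¹ ≠ 1 := fun e => hy1 (conj_eq_one_iff.1 e)
  have hxy : τ * y * τ⁻¹ ≠ y := fun e => hy1 (hτ1 y hyc e)
  have hWl : Nat.card (W l) = 4 := by rw [(h.blk l).card, h.cardZ l]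
  have hcW : c = W l := by
    have h7 : Nat.card ↥(c ⊓ W l) ∣ 4 := by
      rw [← hc4]
      exact Subgroup.card_dvd_of_le inf_le_left
    have h8 : 2 < Nat.card ↥(c ⊓ W l) :=
      two_lt_card (one_mem _) (mem_inf.2 ⟨hyc, ZW h l hy⟩) (mem_inf.2 ⟨hx, hxW⟩) hy1.symm hx1.symm hxy.symm
    have h9 : Nat.card ↥(c ⊓ W l) = 4 := eq_four h7 h8
    have h10 : c ⊓ W l = c := Subgroup.eq_of_le_of_card_ge inf_le_left (by rw [h9, hc4])
    have h11 : c ⊓ W l = W l := Subgroup.eq_of_le_of_card_ge inf_le_right (by rw [h9, hWl])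
    rw [← h10, h11]
  refine ⟨l, hcW, fun m hm v hv => ?_, h6⟩
  -- (7)
  by_cases hv1 : v = 1
  · rw [hv1]; exact one_mem _
  have hvV := h.WV m hv
  obtain ⟨a, ha, haN⟩ := hfix v (h.VX hvV)
  by_cases ha1 : a = 1
  · rwa [ha1, one_mul] at haN
  exfalso
  have haV := hcV ha
  set a' := τ * a * τ⁻¹ with ha'
  have ha'c : a' ∈ c := hτc a ha
  have hne' : a' ≠ a := fun e => ha1 (hτ1 a ha e)
  have hτv : τ * v * τ⁻¹ = (a' * a) * v := by
    have e1 : v = a * (a * v) := by rw [← mul_assoc, mi h haV, one_mul]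
    have e2 : τ * v * τ⁻¹ = a' * (τ * (a * v) * τ⁻¹) := by
      rw [ha']
      nth_rewrite 1 [e1]
      group
    rw [e2, hτN _ haN]
    group
  set w' := a' * a with hw'
  have hw'c : w' ∈ c := mul_mem ha'c ha
  have hw'c' := hw'c
  have hw'1 : w' ≠ 1 := fun e => hne' (by
    rw [← inv_eq h haV]
    exact eq_inv_of_mul_eq_one_left e)
  -- `τ` is surjective on `c`
  obtain ⟨e', he', hee⟩ : ∃ e ∈ c, τ * e * τ⁻¹ = w' := by
    have h7 : cj τ c = c := by
      refine Subgroup.eq_of_le_of_card_ge ?_ (card_cj _ _).ge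
      rintro _ ⟨x, hx, rfl⟩
      exact hτc x hx
    rw [← h7] at hw'c
    obtain ⟨x, hx, e⟩ := hw'c
    exact ⟨x, hx, e⟩
  have he1 : e' ≠ 1 := by
    rintro rfl
    apply hw'1
    rw [← hee]
    simp
  obtain ⟨y2, hy2, c1, hc1, hc1Z, ec0⟩ := h.split_ZJ m hc0Z
  have hy2C : ∀ i, i ≠ m → y2 ∈ C i := fun i hi => h.WjC i m hi (ZW h m hy2)
  have hc1l : c1 ∈ C l := by
    rw [ec0] at hc0
    exact (mul_mem_cancel_left (hy2C l (Ne.symm hm))).1 hc0
  have hc1N : c1 ∈ N := ZJ_C_le h h6 hc1Z hc1l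
  have hc1f : ∀ i, i ≠ l → i ≠ m → c1 ∉ C i := fun i hi hi' h7 => hc0f i hi (by
    rw [ec0]; exact mul_mem (hy2C i hi') h7)
  have he'W : e' ∈ W l := hcW ▸ he'
  have hw'W : w' ∈ W l := hcW ▸ hw'c'
  have hu : v * (e' * c1) ∈ V := mul_mem hvV (mul_mem (h.WV l he'W) (h.CV m hc1))
  have huf : Full C (v * (e' * c1)) := by
    intro i h7
    by_cases him : i = m
    · subst him
      have h8 : e' * c1 ∈ C i := by
        rw [mul_mem_C h hm he'W]; exact hc1
      exact hv1 (one_of h hv ((mul_mem_cancel_right h8).1 h7))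
    · rw [mul_mem_C h him hv] at h7
      by_cases hil : i = l
      · subst hil
        exact he1 (one_of h he'W ((mul_mem_cancel_right hc1l).1 h7))
      · rw [mul_mem_C h hil he'W] at h7
        exact hc1f i hil him h7
  have eu : τ * (v * (e' * c1)) * τ⁻¹ = v * c1 := by
    have e1 : τ * (v * (e' * c1)) * τ⁻¹ = (τ * v * τ⁻¹) * (τ * e' * τ⁻¹) * (τ * c1 * τ⁻¹) := by group
    rw [e1, hτv, hee, hτN c1 hc1N, mul_assoc w' v w', mc h hvV (h.WV l hw'W), ← mul_assoc w' w' v,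
      mi h (h.WV l hw'W), one_mul]
  have h7 := hfull hu (by rw [eu]; exact mul_mem hvV (h.CV m hc1)) huf l
  rw [eu] at h7
  exact h7 (mul_mem (h.WjC l m (Ne.symm hm) hv) hc1l)

end base

end Cfsg.Agent.Omega.OM.Lev.Low.Line
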