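import Cfsg.Agent.Omega.OM.Lev.Low.TwoBlk
import Cfsg.Agent.Omega.NO3S.ThmB.Cyc

/-!
# TORUS, `T = B`, one natural factor: an element of `T` which centralises the line modulo `D` centralises `[V, B₀]`

`cen_hat` : from `NO3S.ThmB.Nb.cen_of_line`.
-/

set_option autoImplicit false
set_option linter.unusedSectionVars false

namespace Cfsg.Agent.Omega.OM.Lev.Low

open Subgroup Cfsg Cfsg.Agent.ZN Cfsg.Agent.ZN.ChoiceBase Cfsg.Agent.ZN.ChoiceSit
open Cfsg.Agent.Omega.NatPair (ap ap_zero' ap_one' ap_one ap_mul ext2 ap_inv_ap ap_inj)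
open Cfsg.Agent.Lib.SL2Mat
open Cfsg.Agent.Omega.SQ1.FFOne (MinH)
open Cfsg.Agent.Omega.NO3S.OneLine (NatC natC_of)
open Cfsg.Agent.Omega.OM.GLev
open Cfsg.Agent.Omega.FFThm (NatK NatKM ActsSL)
open Cfsg.Agent.Omega.NO3S.ThmB (Nb Fx Pf One sg sg_self wv wv_V wv_i)
open Cfsg.Agent.Omega.FrameFF (cv)
open scoped commutatorElement

universe u

variable {G : Type u} [Group G] [Finite G]

section inst

variable {F : Type} [Field F] [Finite F] [CharP F 2] {T H X B ZJ : Subgroup G} {AA : Set (Subgroup G)}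

/-- **An element of `T` which centralises the line modulo `D` centralises `[V, B₀]`.** -/
theorem cen_hat (h : GE T H X AA) (b : BZ T X AA B ZJ) (N : NatKM F T H (zl T H) (cv T H) 1)
    (hex : ∃ A ∈ AA, ¬ A ≤ o2 H) {u : G} (hu : u ∈ T)
    (hc : ∀ v ∈ zl T H, v ∈ ZJ → u * v * u⁻¹ * v⁻¹ ∈ cv T H) : ∀ x ∈ ⁅zl T H, B⁆, u * x = x * u := by
  obtain ⟨L, i, N₁, hLD, hPB, -, hup, -⟩ := TwoBlk.exists_ldp h b N one_pos hex
  have hi : ∀ l : Fin 1, l = i := fun l => Subsingleton.elim l i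
  have hTH := h.TH
  have hVn := MinSimple.VModule.le_normalizer_zl T H
  have hO : One N (zl T H) B i := by
    refine ⟨fun a ha => ?_, fun β => ?_, fun u hu => ⟨u, hu, fun l hl => absurd (hi l) hl, 1, one_mem _,
      fun a _ => by simp, (mul_one u).symm⟩, fun v hv => ⟨fun hcv => ?_, fun h0 a ha => ?_⟩⟩
    · obtain ⟨A, hA, -⟩ := hup a (hLD.BL ha)
      -- `a` fixes the line
      have key : ∀ x : F, ap (A i) ![x, 0] = ![x, 0] := by
        intro x
        have hw := wv_V N i ![x, 0]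
        have hwi := wv_i N i ![x, 0]
        have hwZ : wv N i ![x, 0] ∈ ZJ := (hLD.mem _ hw).2 fun l => by
          rw [hi l]
          show N.e (wv N i ![x, 0]) i 1 = 0
          rw [hwi]; rfl
        have h1 := hLD.cB a ha _ hwZ
        have h2 : N.e (a * wv N i ![x, 0] * a⁻¹) i = ap (A i) (N.e (wv N i ![x, 0]) i) := hA _ hw i
        rw [h1, mul_inv_cancel_right, hwi] at h2
        exact h2.symm
      have k1 := key 1
      have e0 := congrFun k1 0
      have e1 := congrFun k1 1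
      rw [ap_zero'] at e0
      rw [ap_one'] at e1
      simp only [Matrix.cons_val_zero, Matrix.cons_val_one, mul_one, mul_zero, add_zero] at e0 e1
      have hdet := (A i).2
      rw [Matrix.det_fin_two] at hdet
      have e11 : ent (A i) 1 1 = 1 := by
        have h00 : (A i).1 0 0 = 1 := e0
        have h10 : (A i).1 1 0 = 0 := e1
        rw [h00, h10] at hdet
        have h5 : (A i).1 1 1 = 1 := by simpa using hdet
        exact h5
      refine ⟨ent (A i) 0 1, fun v hv l => ?_, fun d hd => hLD.cD a (hLD.BL ha) d hd⟩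
      rw [hi l, sg_self]
      have h2 : N.e (a * v * a⁻¹) i = ap (A i) (N.e v i) := hA v hv i
      rw [h2]
      apply ext2
      · rw [ap_zero', ap_zero', e0]; simp
      · rw [ap_one', ap_one', e1, e11]; simp
    · obtain ⟨a, ha, -, ha1, ha2⟩ := hLD.root β
      refine ⟨a, ha, fun v hv l => ?_, ha2⟩
      have h1 := ha1 v hv l
      rw [hi l, Pi.mulSingle_eq_same] at h1
      rw [hi l, sg_self]
      exact h1
    · obtain ⟨a, ha, -, ha1, -⟩ := hLD.root 1
      have h1 := ha1 v hv i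
      rw [hcv a ha, mul_inv_cancel_right, Pi.mulSingle_eq_same] at h1
      have h2 := congrFun h1 0
      rw [ap_zero'] at h2
      have h3 : (natC_of h.hm one_pos N.toNatK).nat.e v i 1 = 0 := by simpa using h2
      exact h3
    · refine hLD.cB a ha v ((hLD.mem v hv).2 fun l => ?_)
      rw [hi l]
      exact h0
  have hVN : u ∈ normalizer ((⁅zl T H, B⁆ : Subgroup G) : Set G) := by
    rw [mem_normalizer_iff_cj, NO3S.ThmB.cj_comm, cj_eq_of_mem_normalizer (hVn (hTH hu)),
      cj_eq_of_mem_normalizer (hLD.TB hu)]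
  obtain ⟨m, hm⟩ := h.hm.syl.2.1 ⟨u, hu⟩
  have hm' : u ^ 2 ^ m = 1 := by simpa using congrArg Subtype.val hm
  refine (nb h.hm N one_pos).cen_of_line b.BT le_rfl hO hu hVN hm' fun x => ?_
  have hw := wv_V N i ![x, 0]
  have hwi := wv_i N i ![x, 0]
  have hwZ : wv N i ![x, 0] ∈ ZJ := (hLD.mem _ hw).2 fun l => by
    rw [hi l]
    show N.e (wv N i ![x, 0]) i 1 = 0
    rw [hwi]; rfl
  have h1 := hc _ hw hwZ
  set M := natC_of h.hm one_pos N.toNatK with hM
  have h2 := M.map_div (M.Vn u (hTH hu) _ hw) hw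
  have h3 : M.nat.e (u * wv N i ![x, 0] * u⁻¹ * (wv N i ![x, 0])⁻¹) = 0 := D_e (M := M) h1
  rw [h3] at h2
  have h4 : N.e (u * wv N i ![x, 0] * u⁻¹) = N.e (wv N i ![x, 0]) := (sub_eq_zero.1 h2.symm)
  show N.e (u * wv N i ![x, 0] * u⁻¹) i 0 = x
  rw [h4, hwi]
  rfl

end inst

end Cfsg.Agent.Omega.OM.Lev.Low
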