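import Cfsg.Agent.Omega.OM.Lev.Low.Mvi

/-!
# `T`-equivariant complements to `D` in the lines

`LD M B ZJ L j` : the hypotheses on `B`, `Z_J` and one block `L` for the `j`-th summand.

* `LD.root_i` : `B` contains all root groups; `LD.cen_Li`;
* `Co M ZJ c` : `Li M i = c i × D`, the `c i` permuted by `T`;
* `LD.exists_co`.
-/

set_option autoImplicit false
set_option linter.unusedSectionVars false

namespace Cfsg.Agent.Omega.OM.Lev.Low

open Subgroup Cfsg Cfsg.Agent.ZN Cfsg.Agent.ZN.ChoiceBase Cfsg.Agent.ZN.ChoiceSit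
open Cfsg.Agent.Omega.NatPair (ap ap_zero' ap_one' ap_one ap_mul ext2 ap_inv_ap ap_inj)
open Cfsg.Agent.Lib.SL2Mat
open Cfsg.Agent.Omega.SQ1.FFOne (MinH)
open Cfsg.Agent.Omega.NO3S.OneLine (NatC single_acts)
open Cfsg.Agent.Omega.NO3S.OneLine.NatC (acts_mul acts_inv acts_one acts_unique)
open Cfsg.Agent.Omega.OM.Lev.Nat (Wn mem_Wn ap_z exists_up)
open Cfsg.Agent.Omega.OM.GNat (cent_N)
open Cfsg.Agent.Omega.FFThm (NatK ActsSL)
open Cfsg.Agent.Omega.SQ1.Bau (elem_comm elem_sq)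

universe u

variable {G : Type u} [Group G] [Finite G] {F : Type} [Field F] {T H V D : Subgroup G} {k : ℕ}

/-- The hypotheses on `B`, `Z_J` and one block `L` for the `j`-th summand. -/
structure LD (M : NatC F T H V D k) (B ZJ L : Subgroup G) (j : Fin k) : Prop where
  hm : MinH H T
  BT : B ≤ T
  TB : T ≤ normalizer (B : Set G)
  TZ : T ≤ normalizer (ZJ : Set G)
  el : IsElementaryAbelian 2 ZJ
  cB : ∀ b ∈ B, ∀ z ∈ ZJ, b * z = z * b
  mem : ∀ v ∈ V, v ∈ ZJ ↔ ∀ i, M.nat.e v i 1 = 0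
  root : ∀ c : F, ∃ b ∈ B, Ons M j b (up c)
  BL : B ≤ L
  LH : L ≤ H
  cD : ∀ l ∈ L, ∀ d ∈ D, l * d = d * l
  cov : ∀ A, ∃ l ∈ L, Ons M j l A
  LW : ∀ l ∈ L, ∀ m, m ≠ j → ∀ v ∈ Li M m, l * v = v * l
  split : ∀ z ∈ ZJ, ∃ c ∈ ZJ, (∀ l ∈ L, l * c = c * l) ∧ ∃ n ∈ Li M j, z = c * n

/-- `T`-equivariant complements to `D` in the lines. -/
structure Co (M : NatC F T H V D k) (c : Fin k → Subgroup G) : Prop where
  le : ∀ i, c i ≤ Li M i
  dis : ∀ i, ∀ v ∈ c i, v ∈ D → v = 1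
  cov : ∀ i, ∀ v ∈ Li M i, ∃ a ∈ c i, ∃ d ∈ D, v = a * d
  conj : ∀ t ∈ T, ∀ i m, MvI M t i m → cj t (c i) = c m

variable {M : NatC F T H V D k} {B ZJ L : Subgroup G} {j : Fin k}

namespace LD

variable (h : LD M B ZJ L j)
include h

theorem TH : T ≤ H := h.hm.syl.1

theorem LiZ (i : Fin k) : Li M i ≤ ZJ := fun v hv => (h.mem v hv.1).2 fun m => by
  by_cases hm : m = i
  · subst hm; exact hv.2.2
  · rw [hv.2.1 m hm]; rfl

theorem DZ : D ≤ ZJ := (D_le_Li j).trans (h.LiZ j)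

/-- **`B` contains all root groups** -/
theorem root_i [CharP F 2] (i : Fin k) (c : F) : ∃ b ∈ B, Ons M i b (up c) := by
  classical
  obtain ⟨u, hu, hu1⟩ := M.nat.unip (Pi.single i c)
  rw [single_acts] at hu1
  have hU : Ons M i u (up c) := ⟨h.TH hu, hu1⟩
  obtain ⟨t, ht, htr⟩ := M.nat.trans i j
  have hmv : MvI M t i j := htr
  obtain ⟨A', hA'⟩ := hU.conj (h.TH ht) hmv
  obtain ⟨e1, e2⟩ := hU.line_triv h.TH ht hmv hA'
  have h10 : ent A' 1 0 = 0 := e1.1 (up_10 c)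
  have h00 : ent A' 0 0 = 1 := (e2 (up_10 c)).1 (up_00 c)
  have hup : A' = up (ent A' 0 1) := by
    have h11 := det_eq A'
    rw [h10, h00, mul_zero, sub_zero, one_mul] at h11
    exact ext_ent (by rw [up_00, h00]) (by rw [up_01]) (by rw [up_10, h10]) (by rw [up_11, h11])
  obtain ⟨b, hb, hbA⟩ := h.root (ent A' 0 1)
  rw [← hup] at hbA
  have hti := inv_mem (h.TH ht)
  have hbB : t⁻¹ * b * t ∈ B := by
    have := (mem_normalizer_iff.1 (inv_mem (h.TB ht)) b).1 hb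
    rwa [inv_inv] at this
  have key : ∀ v ∈ V, t⁻¹ * b * t * v * (t⁻¹ * b * t)⁻¹ = u * v * u⁻¹ := by
    intro v hv
    have h3 := hbA.same h.hm hA' (M.Vn t (h.TH ht) v hv)
    calc t⁻¹ * b * t * v * (t⁻¹ * b * t)⁻¹ = t⁻¹ * (b * (t * v * t⁻¹) * b⁻¹) * t := by group
      _ = t⁻¹ * (t * u * t⁻¹ * (t * v * t⁻¹) * (t * u * t⁻¹)⁻¹) * t := by rw [h3]
      _ = _ := by group
  refine ⟨_, hbB, Ons.of (h.TH (h.BT hbB)) (fun v hv => ?_) (fun v hv m hm => ?_) fun d hd => h.cB _ hbB d (h.DZ hd)⟩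
  · rw [key v hv, hU.e_i hv]
  · rw [key v hv, hU.e_m hv hm]

/-- unipotent elements centralise the preimage of the line -/
theorem cen_Li [CharP F 2] {i : Fin k} {g : G} {A : Matrix.SpecialLinearGroup (Fin 2) F} (hg : Ons M i g A)
    (h10 : ent A 1 0 = 0) (h00 : ent A 0 0 = 1) {v : G} (hv : v ∈ Li M i) : g * v * g⁻¹ = v := by
  have hup : A = up (ent A 0 1) := by
    have h11 := det_eq A
    rw [h10, h00, mul_zero, sub_zero, one_mul] at h11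
    exact ext_ent (by rw [up_00, h00]) (by rw [up_01]) (by rw [up_10, h10]) (by rw [up_11, h11])
  obtain ⟨b, hb, hbA⟩ := h.root_i i (ent A 0 1)
  rw [← hup] at hbA
  rw [hg.same h.hm hbA hv.1, h.cB b hb v (h.LiZ i hv)]
  group

end LD

/-! ### The torus -/

/-- `l` acts as a torus element on the `i`-th line -/
def Tor (M : NatC F T H V D k) (i : Fin k) (l : G) : Prop := ∃ A, Ons M i l A ∧ ent A 1 0 = 0 ∧ ent A 0 0 ≠ 1

theorem inv_tri {A : Matrix.SpecialLinearGroup (Fin 2) F} (h : ent A 1 0 = 0) : ent A⁻¹ 1 0 = 0 := by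
  rw [ent_inv A, mk_10, h, neg_zero]

theorem inv_00 (A : Matrix.SpecialLinearGroup (Fin 2) F) : ent A⁻¹ 0 0 = ent A 1 1 := by
  rw [ent_inv A, mk_00]

theorem mul_tri {A B : Matrix.SpecialLinearGroup (Fin 2) F} (h : ent A 1 0 = 0) (h' : ent B 1 0 = 0) :
    ent (A * B) 1 0 = 0 ∧ ent (A * B) 0 0 = ent A 0 0 * ent B 0 0 := by
  rw [ent_mul, ent_mul, h, h']
  constructor <;> ring

theorem tri_det {A : Matrix.SpecialLinearGroup (Fin 2) F} (h : ent A 1 0 = 0) : ent A 0 0 * ent A 1 1 = 1 := by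
  have h1 := det_eq A
  rwa [h, mul_zero, sub_zero] at h1

/-- a triangular element acts on the line -/
theorem Ons.Li {i : Fin k} {l : G} {A : Matrix.SpecialLinearGroup (Fin 2) F} (hl : Ons M i l A) (h0 : ent A 1 0 = 0)
    {v : G} (hv : v ∈ Li M i) : l * v * l⁻¹ ∈ Low.Li M i ∧ M.nat.e (l * v * l⁻¹) i 0 = ent A 0 0 * M.nat.e v i 0 := by
  refine ⟨⟨M.Vn l hl.1 v hv.1, fun m hm => by rw [hl.e_m hv.1 hm, hv.2.1 m hm], ?_⟩, ?_⟩
  · rw [hl.e_i hv.1, ap_one', h0, hv.2.2]; simp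
  · rw [hl.e_i hv.1, ap_zero', hv.2.2]; simp

/-- `[Li, l]` -/
def Cl (M : NatC F T H V D k) (i : Fin k) (l : G) (hl : l ∈ H) : Subgroup G where
  carrier := {x | ∃ v ∈ Li M i, x = l * v * l⁻¹ * v⁻¹}
  mul_mem' := by
    rintro _ _ ⟨v, hv, rfl⟩ ⟨w, hw, rfl⟩
    refine ⟨v * w, mul_mem hv hw, ?_⟩
    have hlw : l * w * l⁻¹ ∈ V := M.Vn l hl w hw.1
    have e1 := M.Vcomm (mul_mem hlw (inv_mem hw.1)) (inv_mem hv.1)
    calc l * v * l⁻¹ * v⁻¹ * (l * w * l⁻¹ * w⁻¹) = l * v * l⁻¹ * (v⁻¹ * (l * w * l⁻¹ * w⁻¹)) := by group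
      _ = l * v * l⁻¹ * (l * w * l⁻¹ * w⁻¹ * v⁻¹) := by rw [e1]
      _ = _ := by group
  one_mem' := ⟨1, one_mem _, by group⟩
  inv_mem' := by
    rintro _ ⟨v, hv, rfl⟩
    refine ⟨v⁻¹, inv_mem hv, ?_⟩
    have hlv : l * v⁻¹ * l⁻¹ ∈ V := M.Vn l hl _ (inv_mem hv.1)
    have e1 := M.Vcomm hlv hv.1
    calc (l * v * l⁻¹ * v⁻¹)⁻¹ = v * (l * v⁻¹ * l⁻¹) := by group
      _ = l * v⁻¹ * l⁻¹ * v := e1.symm
      _ = _ := by group

theorem mem_Cl {i : Fin k} {l : G} {hl : l ∈ H} {x : G} : x ∈ Cl M i l hl ↔ ∃ v ∈ Li M i, x = l * v * l⁻¹ * v⁻¹ := Iff.rfl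

namespace Tor

variable {i : Fin k} {l l' : G}

theorem memH (h : Tor M i l) : l ∈ H := by
  obtain ⟨A, hA, -⟩ := h
  exact hA.1

theorem Li (h : Tor M i l) {v : G} (hv : v ∈ Li M i) : l * v * l⁻¹ ∈ Low.Li M i := by
  obtain ⟨A, hA, h0, -⟩ := h
  exact (hA.Li h0 hv).1

theorem Cl_le (h : Tor M i l) : Cl M i l h.memH ≤ Low.Li M i := by
  rintro _ ⟨v, hv, rfl⟩
  exact mul_mem (h.Li hv) (inv_mem hv)

/-- a vector of the line fixed by `l` modulo `D` lies in `D` -/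
theorem fix (h : Tor M i l) {v : G} (hv : v ∈ Low.Li M i) (hf : l * v * l⁻¹ * v⁻¹ ∈ D) : v ∈ D := by
  obtain ⟨A, hA, h0, h1⟩ := h
  obtain ⟨h2, h3⟩ := hA.Li h0 hv
  have h4 := D_e (M := M) hf
  rw [M.map_div h2.1 hv.1, sub_eq_zero] at h4
  rw [h4] at h3
  refine Li_D hv ?_
  by_contra hne
  apply h1
  have h5 : (ent A 0 0 - 1) * M.nat.e v i 0 = 0 := by rw [sub_mul, one_mul, ← h3, sub_self]
  rcases mul_eq_zero.1 h5 with h6 | h6
  · exact sub_eq_zero.1 h6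
  · exact absurd h6 hne

theorem dis (h : Tor M i l) {x : G} (hx : x ∈ Cl M i l h.memH) (hD : x ∈ D) : x = 1 := by
  obtain ⟨v, hv, rfl⟩ := hx
  have h1 := h.fix hv hD
  obtain ⟨A, hA, -⟩ := h
  rw [hA.2.2 v h1]; group

theorem cov (h : Tor M i l) {v : G} (hv : v ∈ Low.Li M i) : ∃ a ∈ Cl M i l h.memH, ∃ d ∈ D, v = a * d := by
  obtain ⟨A, hA, h0, h1⟩ := id h
  obtain ⟨w, hw, e⟩ := exists_line M i ((ent A 0 0 - 1)⁻¹ * M.nat.e v i 0)
  obtain ⟨h2, h3⟩ := hA.Li h0 hw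
  have ha : l * w * l⁻¹ * w⁻¹ ∈ Low.Li M i := mul_mem h2 (inv_mem hw)
  refine ⟨_, ⟨w, hw, rfl⟩, (l * w * l⁻¹ * w⁻¹)⁻¹ * v, Li_D (mul_mem (inv_mem ha) hv) ?_, by group⟩
  rw [M.nat.mul _ (inv_mem ha.1) _ hv.1, Pi.add_apply, Pi.add_apply, M.map_inv ha.1, Pi.neg_apply, Pi.neg_apply,
    M.map_div h2.1 hw.1, Pi.sub_apply, Pi.sub_apply, h3, e]
  have h4 : ent A 0 0 - 1 ≠ 0 := sub_ne_zero.2 h1
  field_simp
  ring

variable {B ZJ L : Subgroup G} {j : Fin k}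

/-- torus elements commute on the line -/
theorem comm [CharP F 2] (hL : LD M B ZJ L j) (h : Tor M i l) (h' : Tor M i l') {v : G} (hv : v ∈ Low.Li M i) :
    l * (l' * v * l'⁻¹) * l⁻¹ = l' * (l * v * l⁻¹) * l'⁻¹ := by
  obtain ⟨A, hA, h0, h1⟩ := h
  obtain ⟨A', hA', h0', h1'⟩ := h'
  have hg := (hA'.mul hA).inv.mul (hA.mul hA')
  obtain ⟨t1, t2⟩ := mul_tri h0' h0
  obtain ⟨t3, t4⟩ := mul_tri h0 h0'
  obtain ⟨t5, t6⟩ := mul_tri (inv_tri t1) t3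
  have h00 : ent ((A' * A)⁻¹ * (A * A')) 0 0 = 1 := by
    rw [t6, inv_00, t4, mul_comm (ent A 0 0), ← t2, mul_comm]
    exact tri_det t1
  have h2 := hL.cen_Li hg t5 h00 hv
  have h3 := congrArg (fun x => l' * l * x * (l' * l)⁻¹) h2
  have e1 : l' * l * ((l' * l)⁻¹ * (l * l') * v * ((l' * l)⁻¹ * (l * l'))⁻¹) * (l' * l)⁻¹ =
      l * (l' * v * l'⁻¹) * l⁻¹ := by group
  have e2 : l' * l * v * (l' * l)⁻¹ = l' * (l * v * l⁻¹) * l'⁻¹ := by group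
  rw [← e1, ← e2]
  exact h3

theorem Cl_le_Cl [CharP F 2] (hL : LD M B ZJ L j) (h : Tor M i l) (h' : Tor M i l') :
    Cl M i l h.memH ≤ Cl M i l' h'.memH := by
  -- `l'` acts on `[Li, l]`
  have hn : ∀ x ∈ Cl M i l h.memH, l' * x * l'⁻¹ ∈ Cl M i l h.memH := by
    rintro _ ⟨v, hv, rfl⟩
    refine ⟨l' * v * l'⁻¹, h'.Li hv, ?_⟩
    have e : l' * (l * v * l⁻¹ * v⁻¹) * l'⁻¹ = l' * (l * v * l⁻¹) * l'⁻¹ * (l' * v * l'⁻¹)⁻¹ := by group
    rw [e, ← h.comm hL h' hv]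
  let f : ↥(Cl M i l h.memH) → ↥(Cl M i l h.memH) := fun x =>
    ⟨l' * x * l'⁻¹ * (x : G)⁻¹, mul_mem (hn x x.2) (inv_mem x.2)⟩
  have hinj : Function.Injective f := by
    rintro ⟨x, hx⟩ ⟨y, hy⟩ hxy
    have h1 : l' * x * l'⁻¹ * x⁻¹ = l' * y * l'⁻¹ * y⁻¹ := congrArg Subtype.val hxy
    have hxL := h.Cl_le hx
    have hyL := h.Cl_le hy
    have h2 : y⁻¹ * x ∈ Cl M i l h.memH := mul_mem (inv_mem hy) hx
    have h3 : y⁻¹ * x ∈ D := by
      refine h'.fix (h.Cl_le h2) ?_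
      have c1 := M.Vcomm (M.Vn l' h'.memH x hxL.1) (inv_mem hxL.1)
      have c2 := M.Vcomm (M.Vn l' h'.memH y hyL.1) (inv_mem hyL.1)
      have h4 : l' * (y⁻¹ * x) * l'⁻¹ * (y⁻¹ * x)⁻¹ = 1 := by
        calc l' * (y⁻¹ * x) * l'⁻¹ * (y⁻¹ * x)⁻¹ = (l' * y * l'⁻¹)⁻¹ * (l' * x * l'⁻¹ * x⁻¹) * y := by group
          _ = (l' * y * l'⁻¹)⁻¹ * (l' * y * l'⁻¹ * y⁻¹) * y := by rw [h1]
          _ = 1 := by group
      rw [h4]; exact one_mem _
    have h5 := h.dis h2 h3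
    exact Subtype.ext (inv_mul_eq_one.1 h5).symm
  intro x hx
  obtain ⟨⟨y, hy⟩, e⟩ := (Finite.injective_iff_surjective.1 hinj) ⟨x, hx⟩
  exact ⟨y, h.Cl_le hy, (congrArg Subtype.val e).symm⟩

end Tor

namespace LD

variable {B ZJ L : Subgroup G} {j : Fin k} (h : LD M B ZJ L j)
include h

/-- `F ≠ F₂`: complements from the torus -/
theorem co_tor [CharP F 2] {a : F} (ha0 : a ≠ 0) (ha1 : a ≠ 1) :
    Co M fun i => ⨆ (l : G) (hl : Tor M i l), Cl M i l hl.memH := by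
  classical
  have hex : ∀ i, ∃ l, Tor M i l := by
    intro i
    obtain ⟨l, hl, hl1⟩ := M.nat.lift (Pi.mulSingle i (dg a ha0))
    exact ⟨l, dg a ha0, ⟨hl, hl1⟩, by simp, by simpa using ha1⟩
  have heq : ∀ i l (hl : Tor M i l), (⨆ (l : G) (hl : Tor M i l), Cl M i l hl.memH) = Cl M i l hl.memH := by
    intro i l hl
    apply le_antisymm
    · exact iSup_le fun l' => iSup_le fun hl' => hl'.Cl_le_Cl h hl
    · exact le_iSup_of_le l (le_iSup_of_le hl le_rfl)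
  refine ⟨fun i => ?_, fun i v hv hD => ?_, fun i v hv => ?_, fun t ht i m hm => ?_⟩
  · obtain ⟨l, hl⟩ := hex i
    rw [heq i l hl]
    exact hl.Cl_le
  · obtain ⟨l, hl⟩ := hex i
    rw [heq i l hl] at hv
    exact hl.dis hv hD
  · obtain ⟨l, hl⟩ := hex i
    rw [heq i l hl]
    exact hl.cov hv
  · have key : ∀ t ∈ T, ∀ i m, MvI M t i m → cj t (⨆ (l : G) (hl : Tor M i l), Cl M i l hl.memH) ≤
        ⨆ (l : G) (hl : Tor M m l), Cl M m l hl.memH := by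
      intro t ht i m hm
      obtain ⟨l, hl⟩ := hex i
      obtain ⟨A, hA, h0, h1⟩ := id hl
      obtain ⟨A', hA'⟩ := hA.conj (h.TH ht) hm
      obtain ⟨e1, e2⟩ := hA.line_triv h.TH ht hm hA'
      have hl' : Tor M m (t * l * t⁻¹) := ⟨A', hA', e1.1 h0, fun e => h1 ((e2 h0).2 e)⟩
      rw [heq i l hl, heq m _ hl']
      rintro _ ⟨_, ⟨v, hv, rfl⟩, rfl⟩
      refine ⟨t * v * t⁻¹, hm.Li h.TH ht hv, ?_⟩
      show t * (l * v * l⁻¹ * v⁻¹) * t⁻¹ = _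
      group
    apply le_antisymm (key t ht i m hm)
    have h1 := cj_mono t (key t⁻¹ (inv_mem ht) m i (hm.inv (h.TH ht)))
    rwa [cj_cj_inv] at h1

/-- `F = F₂`: complements from `[Wn, B]` -/
theorem co_two [Finite F] [CharP F 2] (hF : ∀ x : F, x = 0 ∨ x = 1) :
    Co M fun i => closure {x | ∃ b ∈ B, ∃ w ∈ Wn M i, x = b * w * b⁻¹ * w⁻¹} := by
  classical
  have hTH := h.TH
  -- the element `z i`
  have hz : ∀ i, ∃ z ∈ Li M i, M.nat.e z i 0 = 1 ∧ z * z = 1 ∧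
      closure {x | ∃ b ∈ B, ∃ w ∈ Wn M i, x = b * w * b⁻¹ * w⁻¹} = zpowers z := by
    intro i
    obtain ⟨b0, hb0, hb0A⟩ := h.root_i i 1
    obtain ⟨w0, hw0, e0⟩ := exists_vec M i ![0, 1]
    have hb0w := M.Vn b0 hb0A.1 w0 hw0.1
    have hzL : b0 * w0 * b0⁻¹ * w0⁻¹ ∈ Li M i := by
      refine ⟨mul_mem hb0w (inv_mem hw0.1), fun m hm => ?_, ?_⟩
      · rw [M.map_div hb0w hw0.1, Pi.sub_apply, hb0A.e_m hw0.1 hm, sub_self]
      · rw [M.map_div hb0w hw0.1, Pi.sub_apply, Pi.sub_apply, hb0A.e_i hw0.1, ap_one', e0]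
        simp
    have hz0 : M.nat.e (b0 * w0 * b0⁻¹ * w0⁻¹) i 0 = 1 := by
      rw [M.map_div hb0w hw0.1, Pi.sub_apply, Pi.sub_apply, hb0A.e_i hw0.1, ap_zero', e0]
      simp
    refine ⟨_, hzL, hz0, by rw [← pow_two]; exact M.Vsq _ hzL.1, ?_⟩
    apply le_antisymm
    · rw [closure_le]
      rintro _ ⟨b, hb, w, hw, rfl⟩
      have hbH := hTH (h.BT hb)
      obtain ⟨c, hc⟩ := exists_up M h.hm.syl (h.BT hb) fun v hv hv1 => h.cB b hb v ((h.mem v hv).2 hv1)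
      have hbD : ∀ d ∈ D, b * d = d * b := fun d hd => h.cB b hb d (h.DZ hd)
      rcases hF (c i) with hci | hci
      · have h1 := cent_N M h.hm hbH hc hbD (i := i) (by rw [hci, up_zero]) hw.1 hw.2
        have e : b * w * b⁻¹ * w⁻¹ = 1 := by rw [h1]; group
        rw [e]; exact one_mem _
      · -- `b` acts on `Wn i` as `b0`
        have h1 := acts_mul (M := M) hbH (acts_inv (M := M) hb0A.1 hb0A.2.1) hc
        have h2 := cent_N M h.hm (mul_mem (inv_mem hb0A.1) hbH) h1 (fun d hd => by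
          have c1 : Commute b0 d := hb0A.2.2 d hd
          have c2 : Commute b d := hbD d hd
          exact (c1.inv_left.mul_left c2).eq) (i := i) (by
            rw [Pi.mul_apply, Pi.inv_apply, Pi.mulSingle_eq_same, hci, inv_mul_cancel]) hw.1 hw.2
        have h3 : b * w * b⁻¹ = b0 * w * b0⁻¹ := by
          calc b * w * b⁻¹ = b0 * ((b0⁻¹ * b) * w) * b⁻¹ := by group
            _ = b0 * (w * (b0⁻¹ * b)) * b⁻¹ := by rw [h2]
            _ = _ := by group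
        rw [h3]
        rcases hF (M.nat.e w i 1) with hw1 | hw1
        · have h4 := h.cB b0 hb0 w (h.LiZ i ⟨hw.1, hw.2, hw1⟩)
          have e : b0 * w * b0⁻¹ * w⁻¹ = 1 := by rw [h4]; group
          rw [e]; exact one_mem _
        · have hr : w0⁻¹ * w ∈ Li M i := by
            refine ⟨mul_mem (inv_mem hw0.1) hw.1, fun m hm => ?_, ?_⟩
            · rw [M.nat.mul _ (inv_mem hw0.1) _ hw.1, Pi.add_apply, M.map_inv hw0.1, Pi.neg_apply, hw0.2 m hm,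
                hw.2 m hm, neg_zero, add_zero]
            · rw [M.nat.mul _ (inv_mem hw0.1) _ hw.1, Pi.add_apply, Pi.add_apply, M.map_inv hw0.1, Pi.neg_apply,
                Pi.neg_apply, e0, hw1]
              simp
          have h4 := h.cB b0 hb0 _ (h.LiZ i hr)
          have e : b0 * w * b0⁻¹ * w⁻¹ = b0 * w0 * b0⁻¹ * w0⁻¹ := by
            calc b0 * w * b0⁻¹ * w⁻¹ = b0 * w0 * (b0⁻¹ * b0) * (w0⁻¹ * w) * b0⁻¹ * w⁻¹ := by group
              _ = b0 * w0 * b0⁻¹ * (b0 * (w0⁻¹ * w)) * b0⁻¹ * w⁻¹ := by group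
              _ = b0 * w0 * b0⁻¹ * ((w0⁻¹ * w) * b0) * b0⁻¹ * w⁻¹ := by rw [h4]
              _ = _ := by group
          rw [e]
          exact mem_zpowers _
    · rw [zpowers_le]
      exact subset_closure ⟨b0, hb0, w0, hw0, rfl⟩
  refine ⟨fun i => ?_, fun i v hv hD => ?_, fun i v hv => ?_, fun t ht i m hm => ?_⟩
  · obtain ⟨z, hz1, -, -, e⟩ := hz i
    simp only [e]
    rw [zpowers_le]
    exact hz1
  · obtain ⟨z, hz1, hz0, hzz, e⟩ := hz i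
    simp only [e] at hv
    have h1 : v = 1 ∨ v = z := by
      obtain ⟨n, rfl⟩ := mem_zpowers_iff.1 hv
      rcases Int.even_or_odd n with ⟨r, rfl⟩ | ⟨r, rfl⟩
      · left
        rw [← two_mul, zpow_mul, zpow_ofNat, pow_two, hzz, one_zpow]
      · right
        rw [zpow_add, zpow_mul, zpow_ofNat, pow_two, hzz, one_zpow, one_mul, zpow_one]
    rcases h1 with h1 | h1
    · exact h1
    · subst h1
      have h2 := D_e (M := M) hD
      rw [h2] at hz0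
      simp at hz0
  · obtain ⟨z, hz1, hz0, hzz, e⟩ := hz i
    simp only [e]
    rcases hF (M.nat.e v i 0) with h0 | h0
    · exact ⟨1, one_mem _, v, Li_D hv h0, by rw [one_mul]⟩
    · refine ⟨z, mem_zpowers z, z⁻¹ * v, Li_D (mul_mem (inv_mem hz1) hv) ?_, by group⟩
      rw [M.nat.mul _ (inv_mem hz1.1) _ hv.1, Pi.add_apply, Pi.add_apply, M.map_inv hz1.1, Pi.neg_apply,
        Pi.neg_apply, hz0, h0]
      simp
  · have key : ∀ t ∈ T, ∀ i m, MvI M t i m → cj t (closure {x | ∃ b ∈ B, ∃ w ∈ Wn M i, x = b * w * b⁻¹ * w⁻¹}) ≤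
        closure {x | ∃ b ∈ B, ∃ w ∈ Wn M m, x = b * w * b⁻¹ * w⁻¹} := by
      intro t ht i m hm
      rw [Subgroup.map_le_iff_le_comap, closure_le]
      rintro _ ⟨b, hb, w, hw, rfl⟩
      refine subset_closure ⟨t * b * t⁻¹, (mem_normalizer_iff.1 (h.TB ht) b).1 hb, t * w * t⁻¹, hm.Wn (hTH ht) hw, ?_⟩
      show t * (b * w * b⁻¹ * w⁻¹) * t⁻¹ = _
      group
    apply le_antisymm (key t ht i m hm)
    have h1 := cj_mono t (key t⁻¹ (inv_mem ht) m i (hm.inv (hTH ht)))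
    rwa [cj_cj_inv] at h1

/-- **complements exist** -/
theorem exists_co [Finite F] [CharP F 2] : ∃ c, Co M c := by
  by_cases hF : ∀ x : F, x = 0 ∨ x = 1
  · exact ⟨_, h.co_two hF⟩
  · push Not at hF
    obtain ⟨a, ha0, ha1⟩ := hF
    exact ⟨_, h.co_tor ha0 ha1⟩

end LD

end Cfsg.Agent.Omega.OM.Lev.Low
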