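import Cfsg.Agent.Omega.OM.Lev.Low.SetU

/-!
# TEXT LL v2 (helper584 #20624), (4) + (5) + (W), `q = 2`

`wide` : if `Y` moves `Ω₁Z(T)`, then for every block `K l` of `Y` two elements of `V_P` have different nontrivial
components at `l`.
-/

set_option autoImplicit false
set_option linter.unusedSectionVars false

namespace Cfsg.Agent.Omega.OM.Lev.Low

open Subgroup Cfsg Cfsg.Agent.ZN.ChoiceBase Cfsg.Agent.ZN.ChoiceSit
open Cfsg.Agent.ZN (jj zj bau zc zl o2)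
open Cfsg.Agent.Omega.SQ1.Bau (elem_comm elem_sq)
open Cfsg.Agent.Omega.OM.SwapL (Ln ZL)
open Cfsg.Agent.Omega.OM.LevB (lb zc_B nxt_lev isLev_T bz_lev)
open Cfsg.Agent.Omega.NO3S.Level (lev lev_mono lev_isLev Lev BO nxt lev_le_succ lev_le)
open Cfsg.Agent.Omega.OM.Lev.Low.Five (Set5)
open Cfsg.Agent.Omega.OM.Lev.Low.YB
open Cfsg.Agent.Omega.OM.Lev.Low.WDead (tri_of)
open scoped commutatorElement

universe u

variable {G : Type u} [Group G] [Finite G] {ι Λ : Type} {S : Sylow 2 G} {P : Subgroup G} {n : ℕ}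
  {L W Z C A : ι → Subgroup G} {T Y : Subgroup G} {j : ℕ} {K E N c : Λ → Subgroup G}

namespace Inp

variable (h : Inp S P n L W Z C A T Y j K E N c)
include h

theorem qv [Finite ι] : QV T (zc (lev (S : Subgroup G) j)) (o2 P) (zl (S : Subgroup G) P) :=
  Low.qv h.ln h.syl.2.1 h.BT h.jn

/-- `|π_l(V)| ≤ 2` for one `l` implies it for all `l` -/
theorem hf [Finite ι] {l₀ : Λ} (hl : ∀ v ∈ zl (S : Subgroup G) P, ∀ v' ∈ zl (S : Subgroup G) P, v ∉ N l₀ → v' ∉ N l₀ →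
    v * v' ∈ N l₀) : Hf T (zc (lev (S : Subgroup G) j)) (o2 P) (zl (S : Subgroup G) P) N c where
  yb := h.yk.yb
  qv := h.qv
  half := by
    intro l v hv v' hv' hn hn'
    obtain ⟨t, ht, hm⟩ := h.yk.tr l l₀
    have h1 := hl (t * v * t⁻¹) (QV.memV h.yk.yb h.qv ht hv) (t * v' * t⁻¹) (QV.memV h.yk.yb h.qv ht hv')
      (fun h2 => hn (hm.cen.1 h2)) fun h2 => hn' (hm.cen.1 h2)
    have e : t * v * t⁻¹ * (t * v' * t⁻¹) = t * (v * v') * t⁻¹ := by group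
    rw [e] at h1
    exact hm.cen.1 h1

/-- `Ω₁Z(T)` is nontrivial at all `l` -/
theorem zc_all {l : Λ} (hl : ¬ zc T ≤ N l) (m : Λ) : ¬ zc T ≤ N m := by
  intro hm
  obtain ⟨z, hz, hzl⟩ := SetLike.not_le_iff_exists.1 hl
  obtain ⟨t, ht, hlm⟩ := h.yk.tr l m
  have h1 := (mem_zc.1 hz).2.2 t ht
  have e : t * z * t⁻¹ = z := by rw [h1]; group
  refine hzl (hlm.cen.1 ?_)
  rw [e]
  exact hm hz

/-- **(4), (W)** -/
theorem two [Finite ι] [Finite Λ] {l₀ : Λ} (hZ : ¬ zc T ≤ N l₀)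
    (hl : ∀ v ∈ zl (S : Subgroup G) P, ∀ v' ∈ zl (S : Subgroup G) P, v ∉ N l₀ → v' ∉ N l₀ → v * v' ∈ N l₀) : False := by
  have k := h.hf hl
  have fr := h.ln.fr
  have hBT := h.BT
  -- `z i`
  obtain ⟨i, hi⟩ : ∃ i, ¬ Z i ≤ N l₀ := by
    by_contra hcon
    push Not at hcon
    exact hZ ((zc_T_le S h.syl.2.1 hBT).trans (zj_le fr hcon))
  obtain ⟨z, hz, hzl⟩ := SetLike.not_le_iff_exists.1 hi
  have hz1 : z ≠ 1 := fun e => hzl (e ▸ one_mem _)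
  obtain ⟨i', hi'⟩ := h.ln.two i
  have hane := fr.Ane i
  push Not at hane
  obtain ⟨b, hb, v₁, hv₁, hne⟩ := hane
  have r := rt fr hBT hb fun h1 => hne (h1 v₁ hv₁)
  obtain ⟨m₀, hm⟩ := k.yb.perm b r.bT l₀
  have hml := k.moves r hm hz hzl
  obtain ⟨y, hy, hyp, hyl⟩ := k.yb.exists_single k.qv l₀
  have e1 := k.eq_z r (fun z hz z' hz' h1 h2 => UniPlus.eq_of_card_two (fr.cardZ i) hz hz' h1 h2) hm hz hz1 hml hy
    hyp hyl
  have hsupp : ∀ l', z ∉ N l' ↔ l' ∈ Orb (o2 P) N c l₀ ∨ l' ∈ Orb (o2 P) N c m₀ := fun l' => by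
    rw [e1]; exact k.supp r.bT hm hml hy hyp hyl
  obtain ⟨v, hv, y', hy'Z, hy'C, hyv, hy'N⟩ := k.exists_dec fr hBT hz hzl hy hyp
  -- the blocks in the support centralise `Z i'`
  have hσ : ∀ l, z ∉ N l → Z i' ≤ N l := fun l hl' w hw => by
    by_contra hw'
    exact k.disj fr hBT (Ne.symm hi') hz hw hl' hw'
  -- `B` is transitive on the support
  have hbB : b ∈ SwapL.BL (S : Subgroup G) n := fr.AB i hb
  have htr0 : ∀ l, z ∉ N l → ∃ g ∈ SwapL.BL (S : Subgroup G) n, Mv N c g l₀ l := by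
    intro l hl'
    rcases (hsupp l).1 hl' with ⟨q, hq, h1⟩ | ⟨q, hq, h1⟩
    · exact ⟨q, fr.QB hq, h1⟩
    · exact ⟨q * b, mul_mem (fr.QB hq) hbB, h1.mul hm⟩
  have htr1 : ∀ l m : {l // z ∉ N l}, ∃ g ∈ SwapL.BL (S : Subgroup G) n, Mv N c g (l : Λ) m := by
    intro l m
    obtain ⟨g, hg, h1⟩ := htr0 l l.2
    obtain ⟨g', hg', h2⟩ := htr0 m m.2
    exact ⟨g' * g⁻¹, mul_mem hg' (inv_mem hg), h2.mul h1.inv⟩
  have hBL : SwapL.BL (S : Subgroup G) n ≤ L i := (fr.blk i).BL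
  obtain ⟨AA, X⟩ := h.exists_set5 i hi' (fun l => z ∉ N l) hσ fun l m => by
    obtain ⟨g, hg, h1⟩ := htr1 l m
    exact ⟨g, hBL hg, h.yk.mv g (hBT hg) _ _ h1⟩
  -- the three elements of `W i`
  have hnb := SwapL.nb fr i
  have h4 : Nat.card (W i) = 4 := by rw [(fr.blk i).card, fr.cardZ i]
  have hbz : b * z = z * b := (fr.blk i).cZ b hbB z hz
  obtain ⟨w, hw2, kt, hall⟩ := tri_of (P := L i) (L := L i) (Vi := W i) h4 (fr.blk i).el
    (fun l hl' => mem_normalizer_of_cj_le (by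
      rintro _ ⟨x, hx, rfl⟩
      exact (fr.blk i).nV l hl' x hx)) le_rfl (fun x hx x' hx' hx1 hx1' => by
        obtain ⟨g, hg, s, hs, e⟩ := UniPlus.cover_two hnb hx
        obtain ⟨g', hg', s', hs', e'⟩ := UniPlus.cover_two hnb hx'
        have e2 : g * s * g⁻¹ = x := e
        have e2' : g' * s' * g'⁻¹ = x' := e'
        have hs1 : s ≠ 1 := fun e3 => hx1 (by rw [← e2, e3]; group)
        have hs1' : s' ≠ 1 := fun e3 => hx1' (by rw [← e2', e3]; group)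
        have e4 := UniPlus.eq_of_card_two (fr.cardZ i) hs hs' hs1 hs1'
        refine ⟨g' * g⁻¹, mul_mem hg' (inv_mem hg), ?_⟩
        rw [← e2, ← e2', ← e4]
        group) ((fr.blk i).ZV hz) hz1 (t := b) (hBL hbB) hbz (fun h5 => hne (mem_centralizer_iff.1 h5 v₁ hv₁).symm)
    (y' := y') (fun g hg => fr.LC i g hg y' hy'Z hy'C) fun u hu => fr.Vc (fr.ZJV hy'Z) (fr.WV i hu)
  have hzX : z ∈ zc (lev (S : Subgroup G) j) := h.qv.VX (fr.ZV i hz)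
  have hyX : y' ∈ zc (lev (S : Subgroup G) j) := h.qv.VX (fr.ZJV hy'Z)
  have hwV : ∀ a, w a ∈ zl (S : Subgroup G) P := by
    intro a
    have h5 : ∀ a, ∃ g ∈ L i, g * w 2 * g⁻¹ = w a := fun a => by
      obtain ⟨g, hg, -, h6⟩ := kt.ex (Equiv.swap 2 a)
      exact ⟨g, hg, by rw [h6, Equiv.swap_apply_left]⟩
    obtain ⟨g, hg, e⟩ := h5 a
    rw [← e, hw2]
    exact fr.LV i g hg z (fr.ZV i hz)
  -- `v`
  have hv1 : v ≠ 1 := by
    rintro rfl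
    rw [one_mul] at hyv
    exact hyl (by rw [hyv]; exact hy'N l₀ hzl)
  have hvz : v ≠ z := by
    rintro rfl
    have h5 : b * y = y * b := by
      rw [hyv]
      have c1 : Commute b v := hbz
      have c2 : Commute b y' := ((fr.mem_ZJ y').1 hy'Z).2 b hbB
      exact (c1.mul_right c2).eq
    have h6 : b * y * b⁻¹ = y := by rw [h5]; group
    rw [h6, k.yb.mul_self (k.qv.VX hy)] at e1
    exact hz1 e1
  have hv01 : v = w 0 ∨ v = w 1 := by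
    obtain ⟨a, ha⟩ := hall v hv hv1
    have h5 : ∀ a : Fin 3, a = 0 ∨ a = 1 ∨ a = 2 := by decide
    rcases h5 a with rfl | rfl | rfl
    · exact Or.inl ha
    · exact Or.inr ha
    · exact absurd (ha.trans hw2) hvz
  -- lines
  have hQT := h.QT
  have hline : ∀ p : Set Λ, Cp c p ≤ ⨆ l ∈ p, ⁅(⁅E l, K l⁆ : Subgroup G), LevB.BL (S : Subgroup G) j⁆ := fun p =>
    iSup₂_mono fun l _ => by
      obtain ⟨N1, N0, r', hp⟩ := h.yk.pb l
      rw [hp.VB_eq]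
      exact h.yk.line l
  have hl0' : z ∉ N l₀ := hzl
  refine X.no_two' kt (h.QL i) (h.QT.trans h.TBj) (h.LQ i) (fun q hq a => fr.cQ hq (hwV a)) ?_ ?_ ?_ ?_
    (σ := fun l => (l : Λ) ∈ Orb (o2 P) N c l₀) ⟨⟨l₀, hzl⟩, self_mem _ _⟩ ?_ ?_ ?_ ?_ hyv hv01 ?_
  · -- `trP`
    intro l m
    obtain ⟨g, hg, h5⟩ := htr1 l m
    exact ⟨g, hBL hg, h.TBj (hBT hg), h.yk.mv g (hBT hg) _ _ h5⟩
  · -- `cK`
    intro l m hlm x hx
    obtain ⟨N1, N0, r', hp⟩ := h.yk.pb l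
    have h5 : x ∈ ⁅E (l : Λ), LevB.BL (S : Subgroup G) j⁆ := by rw [← hp.VB_eq]; exact hx
    have h6 : x ∈ zc (lev (S : Subgroup G) j) := by
      have h7 := (X.c_le l) hx
      exact h7.2
    exact (h.mem_cK h6).1 (h.yk.cross l m (fun e => hlm (Subtype.ext e)) h5)
  · -- `hz`
    rw [hw2]
    have h5 : y ∈ sSup (Set.range fun l : {l // z ∉ N l} =>
        ⁅(⁅E (l : Λ), K (l : Λ)⁆ : Subgroup G), LevB.BL (S : Subgroup G) j⁆) := by
      refine (iSup₂_le fun l hl' => ?_ : (⨆ l ∈ Orb (o2 P) N c l₀,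
        ⁅(⁅E l, K l⁆ : Subgroup G), LevB.BL (S : Subgroup G) j⁆) ≤ _) (hline _ hyp)
      exact le_sSup ⟨⟨l, (hsupp l).2 (Or.inl hl')⟩, rfl⟩
    have h6 : b * y * b⁻¹ ∈ sSup (Set.range fun l : {l // z ∉ N l} =>
        ⁅(⁅E (l : Λ), K (l : Λ)⁆ : Subgroup G), LevB.BL (S : Subgroup G) j⁆) := by
      refine (iSup₂_le fun l hl' => ?_ : (⨆ l ∈ Orb (o2 P) N c m₀,
        ⁅(⁅E l, K l⁆ : Subgroup G), LevB.BL (S : Subgroup G) j⁆) ≤ _) (hline _ (k.cj_mem r.bT hm hyp))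
      exact le_sSup ⟨⟨l, (hsupp l).2 (Or.inr hl')⟩, rfl⟩
    have h7 := mul_mem h5 h6
    rwa [← e1] at h7
  · -- `hz'`
    intro l hcon
    rw [hw2] at hcon
    exact l.2 ((h.mem_cK hzX).2 hcon)
  · -- another orbit
    exact ⟨⟨m₀, (hsupp m₀).2 (Or.inr (self_mem _ _))⟩, hml⟩
  · -- `hQ`
    intro q hq l
    obtain ⟨m, hlm⟩ := k.yb.perm q (hQT hq) l
    have h5 : (l : Λ) ∈ Orb (o2 P) N c l₀ ↔ m ∈ Orb (o2 P) N c l₀ := orb_inv l₀ q hq l m hlm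
    have h6 : (l : Λ) ∈ Orb (o2 P) N c m₀ ↔ m ∈ Orb (o2 P) N c m₀ := orb_inv m₀ q hq l m hlm
    refine ⟨⟨m, (hsupp m).2 ?_⟩, h5, h.yk.mv q (hQT hq) _ _ hlm⟩
    rcases (hsupp l).1 l.2 with h7 | h7
    · exact Or.inl (h5.1 h7)
    · exact Or.inr (h6.1 h7)
  · -- `hQ'`
    intro l m hlm
    have h5 : (m : Λ) ∈ Orb (o2 P) N c l := by
      by_cases h6 : (l : Λ) ∈ Orb (o2 P) N c l₀
      · exact orb_trans (orb_symm h6) (hlm.1 h6)
      · have h7 := ((hsupp l).1 l.2).resolve_left h6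
        have h8 := ((hsupp m).1 m.2).resolve_left fun h9 => h6 (hlm.2 h9)
        exact orb_trans (orb_symm h7) h8
    obtain ⟨q, hq, h6⟩ := h5
    exact ⟨q, hq, h.yk.mv q (hQT hq) _ _ h6⟩
  · -- `hy`
    refine (iSup₂_le fun l hl' => ?_ : (⨆ l ∈ Orb (o2 P) N c l₀,
      ⁅(⁅E l, K l⁆ : Subgroup G), LevB.BL (S : Subgroup G) j⁆) ≤ _) (hline _ hyp)
    exact le_sSup ⟨⟨l, (hsupp l).2 (Or.inl hl')⟩, hl', rfl⟩
  · -- `hy'`
    intro l
    exact (h.mem_cK hyX).1 (hy'N l l.2)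

/-- **Two elements of `V_P` with different nontrivial components at `l`.** -/
theorem wide [Finite ι] [Finite Λ] (hZ : ∃ l, ¬ zc T ≤ N l) (l : Λ) :
    ∃ v ∈ zl (S : Subgroup G) P, ∃ a ∈ c l, a * v ∈ N l ∧ a ≠ 1 ∧
      ∃ v' ∈ zl (S : Subgroup G) P, ∃ a' ∈ c l, a' * v' ∈ N l ∧ a' ≠ 1 ∧ a ≠ a' := by
  by_contra hcon
  push Not at hcon
  obtain ⟨l₁, hl₁⟩ := hZ
  refine h.two (h.zc_all hl₁ l) fun v hv v' hv' hn hn' => ?_
  obtain ⟨a, ha, h1⟩ := h.yk.yb.fix l v (h.qv.VX hv)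
  obtain ⟨a', ha', h1'⟩ := h.yk.yb.fix l v' (h.qv.VX hv')
  have ha1 : a ≠ 1 := fun e => hn (by rwa [e, one_mul] at h1)
  have ha1' : a' ≠ 1 := fun e => hn' (by rwa [e, one_mul] at h1')
  have h2 := hcon v hv a ha h1 ha1 v' hv' a' ha' h1' ha1'
  subst h2
  have h3 := mul_mem (inv_mem h1) h1'
  have e : (a * v)⁻¹ * (a * v') = v⁻¹ * v' := by group
  rw [e, h.yk.yb.inv_eq (h.qv.VX hv)] at h3
  exact h3

end Inp

end Cfsg.Agent.Omega.OM.Lev.Low
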