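import Cfsg.Agent.Omega.OM.Lev.Low.LDTwo
import Cfsg.Agent.Omega.OM.Lev.Low.LowTwo

/-!
# The instance of `YK`, `q = 2`

* `yk_nat` : natural type, with the blocks `LD`, `PB` for every summand and the complements `Co`;
* `yk_sym` : symmetric type;
* `exists_nat_two` : **if `lev S n ≰ O₂(Y)` and `Y` moves `Ω₁Z(T)`, then `Y` is of natural type over `F`, `|F| > 2`, and
  for every block two elements of `V_P` have different nontrivial components.**
-/

set_option autoImplicit false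
set_option linter.unusedSectionVars false

namespace Cfsg.Agent.Omega.OM.Lev.Low

open Subgroup Cfsg Cfsg.Agent.ZN.ChoiceBase Cfsg.Agent.ZN.ChoiceSit
open Cfsg.Agent.ZN (jj zj bau zc zl o2)
open Cfsg.Agent.MinSimple.MinParabolic (IsMinPar)
open Cfsg.Agent.Omega.NO3S.OneLine (NatC natC_of)
open Cfsg.Agent.Omega.OM.Lev.Nat (Wn mem_Wn)
open Cfsg.Agent.Omega.OM.GLev
open Cfsg.Agent.Omega.FFThm (NatKM SymKM)
open Cfsg.Agent.Omega.FrameFF (cv)
open Cfsg.Agent.Omega.OM.SwapL (Ln ZL)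
open Cfsg.Agent.Omega.NO3S.Level (lev lev_mono lev_isLev Lev lev_le)
open scoped commutatorElement

universe u

variable {G : Type u} [Group G] [Finite G]

/-- `K i` is a block for the `i`-th summand. -/
structure NB' {F : Type} [Field F] {T H V D : Subgroup G} {k : ℕ} (M : NatC F T H V D k) (B ZJ : Subgroup G)
    (K c : Fin k → Subgroup G) : Prop where
  ld : ∀ i, LD M B ZJ (K i) i
  pb : ∀ i, PB B (K i) (Wn M i) (Wn M i ⊓ ZJ) D (Nat.card F)
  co : Co M c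
  act : ∀ i, ∀ l ∈ K i, ∃ A, M.Acts l A

/-- **Natural type.** -/
theorem yk_nat {F : Type} [Field F] [Finite F] [CharP F 2] {T H X B ZJ : Subgroup G} {AA : Set (Subgroup G)} {k : ℕ}
    (h : GE T H X AA) (b : BZ T X AA B ZJ) (N : NatKM F T H (zl T H) (cv T H) k) (hk : 0 < k)
    (hex : ∃ A ∈ AA, ¬ A ≤ o2 H) :
    ∃ K Nn c : Fin k → Subgroup G, YK T H ZJ B K (fun i => Wn (natC_of h.hm hk N.toNatK) i) Nn c ∧
      NB' (natC_of h.hm hk N.toNatK) B ZJ K c := by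
  classical
  set M := natC_of h.hm hk N.toNatK with hM
  have hTH := h.TH
  choose K hld hpb hsup hact using fun i => exists_ldb_all h b N hk hex i
  obtain ⟨c, hc, hcl⟩ := (hld ⟨0, hk⟩).exists_co'
  have hL := hld ⟨0, hk⟩
  have hy := hL.yb_aux hc fun i s hs t ht hsm htm => cyc_line h.hm N hk hs hsm ht htm
  set Nn := Ni M ZJ (K ⟨0, hk⟩) ⟨0, hk⟩ with hNn
  have hmv : ∀ t ∈ T, ∀ l m, MvI M t l m → Mv Nn c t l m := fun t ht l m hlm =>
    ⟨hL.Ni_cj ht hlm, hc.conj t ht l m hlm⟩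
  have hmv' : ∀ t ∈ T, ∀ l m, Mv Nn c t l m → MvI M t l m := fun t ht l m hlm => by
    obtain ⟨m', hm'⟩ := MvI.ex M (hTH ht) l
    rwa [hy.uniq hlm (hmv t ht l m' hm')]
  refine ⟨K, Nn, c, ?_, ⟨hld, hpb, hc, hact⟩⟩
  refine
    { yb := hy
      pb := fun l => ⟨_, _, _, hpb l⟩
      KY := fun l => (hld l).LH
      EY := fun l w hw => hw.1
      memN := fun l x hx => hL.mem_Ni_iff (hld l) hx
      mv := fun t ht l m hlm => ?_
      line := fun l => hcl l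
      cross := fun l m hlm x hx => ?_
      tr := fun l m => ?_
      sup := hsup }
  · have h1 := hmv' t ht l m hlm
    apply le_antisymm ((hld l).comm_cj (hact l) (hld m) ht h1)
    have h2 := cj_mono t ((hld m).comm_cj (hact m) (hld l) (inv_mem ht) (h1.inv (hTH ht)))
    rwa [cj_cj_inv] at h2
  · refine hL.comm_Ni hlm ?_
    have h1 : ⁅Wn M l, B⁆ ≤ Li M l := by
      rw [Subgroup.commutator_le]
      intro w hw b' hb'
      have h2 := (hpb l).quad b' hb' w⁻¹ (inv_mem hw)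
      obtain ⟨h3, h4⟩ := mem_inf.1 h2
      have h5 : ⁅w, b'⁆ ∈ Wn M l ⊓ ZJ := by
        have e : ⁅w, b'⁆ = w * (b' * w⁻¹ * b'⁻¹ * w⁻¹⁻¹) * w⁻¹ := by rw [commutatorElement_def]; group
        have e2 : w * (b' * w⁻¹ * b'⁻¹ * w⁻¹⁻¹) * w⁻¹ = b' * w⁻¹ * b'⁻¹ * w⁻¹⁻¹ := by
          rw [M.Vcomm hw.1 h3.1, mul_inv_cancel_right]
        rw [e, e2]
        exact h2
      obtain ⟨h6, h7⟩ := mem_inf.1 h5
      exact ⟨h6.1, h6.2, ((hld l).mem _ h6.1).1 h7 l⟩
    exact h1 hx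
  · obtain ⟨t, ht, htr⟩ := M.nat.trans l m
    exact ⟨t, ht, hmv t ht l m htr⟩

/-- **Symmetric type.** -/
theorem yk_sym {T H X B ZJ : Subgroup G} {AA : Set (Subgroup G)} {k m : ℕ}
    (h : GE T H X AA) (b : BZ T X AA B ZJ) (N : SymKM T H (zl T H) (cv T H) k m) (hk : 0 < k) (hm : 1 ≤ m)
    (hex : ∃ A ∈ AA, ¬ A ≤ o2 H) :
    ∃ (ι : Type) (_ : Finite ι) (_ : Nonempty ι) (W K : ι → Subgroup G) (d : ι → G),
      YK T H ZJ B K W (fun i => centralizer (K i : Set G)) (fun i => zpowers (d i)) ∧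
      (∀ i, PB B (K i) (W i) (zpowers (d i)) ⊥ 2) ∧ ∀ i, d i * d i = 1 := by
  obtain ⟨ι, hf, hne, W, K, d, hy, hperm, htr, hd1, hcard, hWV, hpb, hKH, hsup⟩ := YSym.exists_yb h b N hk hm hex
  have hd2 : ∀ i, d i * d i = 1 := fun i => by
    rw [← pow_two]
    exact hy.sq _ (hy.cX i (mem_zpowers _))
  have hmv : ∀ t ∈ T, ∀ l m, t * d l * t⁻¹ = d m → cj t (K l) = K m →
      Mv (fun i => centralizer (K i : Set G)) (fun i => zpowers (d i)) t l m := by
    intro t ht l m h1 h2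
    refine ⟨?_, ?_⟩
    · show cj t (centralizer (K l : Set G)) = _
      rw [cj_centralizer, h2]
    · show cj t (zpowers (d l)) = zpowers (d m)
      have h3 : cj t (zpowers (d l)) = zpowers (t * d l * t⁻¹) := by
        show Subgroup.map _ (zpowers (d l)) = _
        rw [MonoidHom.map_zpowers]
        rfl
      rw [h3, h1]
  refine ⟨ι, hf, hne, W, K, d, ?_, hpb, hd2⟩
  refine
    { yb := hy
      pb := fun l => ⟨_, _, _, hpb l⟩
      KY := hKH
      EY := hWV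
      memN := fun l x _ => ?_
      mv := fun t ht l m hlm => ?_
      line := fun l => ?_
      cross := fun l m hlm => ?_
      tr := fun l m => ?_
      sup := hsup }
  · show x ∈ centralizer (K l : Set G) ↔ _
    rw [mem_centralizer_iff]
    exact Iff.rfl
  · obtain ⟨m', h1, h2, h3⟩ := hperm t ht l
    have h4 := hy.uniq hlm (hmv t ht l m' h1 h2)
    subst h4
    rw [show cj t ⁅W l, K l⁆ = ⁅cj t (W l), cj t (K l)⁆ from Subgroup.map_commutator _ _ _, h2, h3]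
  · obtain ⟨v, hv, hv1⟩ := (hpb l).exists_v
    intro x hx
    obtain ⟨b', hb', n0, hn0, e⟩ := (hpb l).line hv hv1 hx
    rw [mem_bot.1 hn0, mul_one] at e
    rw [e]
    have h1 := inv_mem (commutator_mem_commutator hv hb')
    have e2 : ⁅v, b'⁆⁻¹ = b' * v * b'⁻¹ * v⁻¹ := by rw [commutatorElement_def]; group
    rwa [e2] at h1
  · refine le_trans ?_ (hy.comm l m hlm)
    rw [Subgroup.commutator_le]
    intro w hw b' hb'
    have h1 := (hpb l).quad b' hb' w hw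
    have h2 := inv_mem h1
    have e : (b' * w * b'⁻¹ * w⁻¹)⁻¹ = ⁅w, b'⁆ := by rw [commutatorElement_def]; group
    rwa [e] at h2
  · obtain ⟨t, ht, h1⟩ := htr l m
    obtain ⟨m', h2, h3, -⟩ := hperm t ht l
    refine ⟨t, ht, ?_⟩
    have h4 := hmv t ht l m' h2 h3
    have h5 : m' = m := by
      by_contra hne'
      have h6 := hy.comm m m' (Ne.symm hne')
      have h7 : zpowers (d m) = zpowers (d m') := by rw [← h1, h2]
      have h8 := hy.triv m'
      rw [inf_eq_left.2 (h7 ▸ h6)] at h8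
      exact hy.ne m' h8
    rwa [h5] at h4

/-- **The output of (4), (5), (W).** -/
structure OutN {ι : Type} (S : Sylow 2 G) (P : Subgroup G) (n : ℕ) (L W Z C A : ι → Subgroup G) (T Y : Subgroup G)
    (j : ℕ) {F : Type} [Field F] {k : ℕ} (M : NatC F T Y (zl T Y) (cv T Y) k) (K Nn c : Fin k → Subgroup G) :
    Prop where
  inp : Inp S P n L W Z C A T Y j K (fun i => Wn M i) Nn c
  nb : NB' M (LevB.BL (S : Subgroup G) j) (zc (lev (S : Subgroup G) j)) K c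
  zT : ∀ l, ¬ zc T ≤ Nn l
  wide : ∀ l, ∃ v ∈ zl (S : Subgroup G) P, ∃ a ∈ c l, a * v ∈ Nn l ∧ a ≠ 1 ∧
      ∃ v' ∈ zl (S : Subgroup G) P, ∃ a' ∈ c l, a' * v' ∈ Nn l ∧ a' ≠ 1 ∧ a ≠ a'

/-- **The output of (4), (5), (W), `q = 2`.** -/
theorem exists_out {ι : Type} [Finite ι] {S : Sylow 2 G} {P : Subgroup G} {n : ℕ} {L W Z C A : ι → Subgroup G}
    (h : Ln S P n L W Z C A 2) {T Y : Subgroup G} (hT : Syl T Y) (hB : SwapL.BL (S : Subgroup G) n ≤ T)
    (hP : IsMinPar T Y) (hc : Y ⊓ centralizer (o2 Y : Set G) ≤ o2 Y) (hZ : ¬ Y ≤ centralizer (zc T : Set G)) {j : ℕ}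
    (hj : j ≤ n) (hlow : ∀ i < j, lev (S : Subgroup G) i ≤ o2 Y) (hnj : ¬ lev (S : Subgroup G) j ≤ o2 Y) :
    ∃ (X : Subgroup G) (AA' : Set (Subgroup G)) (hge : GE T Y X AA')
      (_ : BZ T X AA' (LevB.BL (S : Subgroup G) j) (zc (lev (S : Subgroup G) j))) (_ : ∃ A ∈ AA', ¬ A ≤ o2 Y)
      (F : Type) (_ : Field F) (_ : Finite F) (_ : CharP F 2) (k : ℕ) (hk : 0 < k)
      (N : NatKM F T Y (zl T Y) (cv T Y) k) (K Nn c : Fin k → Subgroup G),
      OutN S P n L W Z C A T Y j (natC_of hge.hm hk N.toNatK) K Nn c := by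
  have hBj : LevB.BL (S : Subgroup G) j ≤ T := (BL_mono (S : Subgroup G) (by omega : j ≤ n + 1)).trans hB
  obtain ⟨X, AA', hge, hbz, hex, hcon⟩ := exists_ge S hT hBj hP hc hlow hnj hZ
  have hzT : ∀ {Λ : Type} {K E Nn c : Λ → Subgroup G},
      YK T Y (zc (lev (S : Subgroup G) j)) (LevB.BL (S : Subgroup G) j) K E Nn c → ∀ l, ¬ zc T ≤ Nn l := by
    intro Λ K E Nn c hyk l hle
    refine hZ ((hyk.sup l).trans (sup_le (NO3S.Level.le_centralizer_zc T) fun x hx => mem_centralizer_iff.2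
      fun z hz => ?_))
    have hzX : z ∈ zc (lev (S : Subgroup G) j) :=
      (isLev_le hT.2.1 hBj hz : z ∈ zc (lev (S : Subgroup G) j))
    exact ((hyk.memN l z hzX).1 (hle hz) x hx).symm
  rcases hcon with ⟨F, hF1, hF2, hF3, k, hk, ⟨N⟩⟩ | ⟨k, m, hk, hm, ⟨N⟩⟩
  · obtain ⟨K, Nn, c, hyk, hnb⟩ := yk_nat hge hbz N hk hex
    have hin : Inp S P n L W Z C A T Y j K (fun i => Wn (natC_of hge.hm hk N.toNatK) i) Nn c :=
      ⟨h, hT, hB, hj, hc, hlow, hyk⟩
    have hz := hzT hyk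
    exact ⟨X, AA', hge, hbz, hex, F, hF1, hF2, hF3, k, hk, N, K, Nn, c, hin, hnb, hz, hin.wide ⟨⟨0, hk⟩, hz _⟩⟩
  · exfalso
    obtain ⟨ι', hf, ⟨i⟩, W', K, d, hyk, hpb, hd2⟩ := yk_sym hge hbz N hk (by omega) hex
    have hin : Inp S P n L W Z C A T Y j K W' (fun i => centralizer (K i : Set G)) (fun i => zpowers (d i)) :=
      ⟨h, hT, hB, hj, hc, hlow, hyk⟩
    obtain ⟨v, -, a, ha, -, ha1, v', -, a', ha', -, ha1', hne⟩ := hin.wide ⟨i, hzT hyk i⟩ i
    have h1 : ∀ x ∈ zpowers (d i), x ≠ 1 → x = d i := by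
      intro x hx hx1
      obtain ⟨r, rfl⟩ := mem_zpowers_iff.1 hx
      rcases Int.even_or_odd r with ⟨s, rfl⟩ | ⟨s, rfl⟩
      · exfalso
        apply hx1
        rw [← two_mul, zpow_mul, zpow_ofNat, pow_two, hd2, one_zpow]
      · rw [zpow_add, zpow_mul, zpow_ofNat, pow_two, hd2, one_zpow, one_mul, zpow_one]
    exact hne ((h1 a ha ha1).trans (h1 a' ha' ha1').symm)
where
  isLev_le {S : Sylow 2 G} {T : Subgroup G} {j : ℕ} (hT : IsPGroup 2 T) (hB : LevB.BL (S : Subgroup G) j ≤ T) :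
      zc T ≤ zc (lev (S : Subgroup G) j) :=
    (LevB.isLev_T S hT ((LevB.lb S j).KB.trans hB)).zc_le

end Cfsg.Agent.Omega.OM.Lev.Low
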