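import Cfsg.Agent.Omega.OM.Lev.Low.OneAll
import Cfsg.Agent.Omega.OM.Lev.Low.OneBlk
import Cfsg.Agent.Omega.OM.Lev.Low.YKInst
import Cfsg.Agent.Omega.OM.Lev.Low.LinV

/-!
# TORUS, `T = B`, `q = 2`: the block of a parabolic `R` of lower stage over `B = C_S(Ω₁Z(lev S (n+1)))`

`R` is a minimal parabolic over `B` of characteristic 2 which moves `Ω₁Z(B)`, `lev S n ≰ O₂(R)`.

* `Blk S P n L W Z C A R j K N₁ c τ l` : `R` has one block `K`, of natural type over `𝔽₄`, and its torus line is `c = W l`;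
  `K` centralises all `W m`, `m ≠ l`;
* `exists_blk` : it exists.
-/

set_option autoImplicit false
set_option linter.unusedSectionVars false

namespace Cfsg.Agent.Omega.OM.Lev.Low.Core

open Subgroup Cfsg Cfsg.Agent.ZN.ChoiceBase Cfsg.Agent.ZN.ChoiceSit
open Cfsg.Agent.ZN (jj zj bau zc zl o2)
open Cfsg.Agent.MinSimple.MinParabolic (IsMinPar)
open Cfsg.Agent.Omega.NO3S.OneLine (NatC natC_of)
open Cfsg.Agent.Omega.OM.Lev.Nat (Wn mem_Wn)
open Cfsg.Agent.Omega.OM.GLev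
open Cfsg.Agent.Omega.FFThm (NatKM SymKM)
open Cfsg.Agent.Omega.FrameFF (cv)
open Cfsg.Agent.Omega.OM.SwapL (Ln ZL BL)
open Cfsg.Agent.Omega.NO3S.Level (lev lev_mono lev_isLev Lev lev_le)
open Cfsg.Agent.Omega.NO3S.EThree.Frame (Bg)
open Cfsg.Agent.Omega.OM.Lev.Low
open scoped commutatorElement

universe u

variable {G : Type u} [Group G] [Finite G]

/-- **The block of `R`.** -/
structure Blk {ι : Type} (S : Sylow 2 G) (P : Subgroup G) (n : ℕ) (L W Z C A : ι → Subgroup G) (R : Subgroup G)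
    (j : ℕ) (K N₁ c : Subgroup G) (τ : G) (l : ι) : Prop where
  ln : Ln S P n L W Z C A 2
  bg : Bg S P (BL (S : Subgroup G) n) (ZL (S : Subgroup G) n) L W Z C 2
  jn : j ≤ n
  syl : Syl (BL (S : Subgroup G) n) R
  min : IsMinPar (BL (S : Subgroup G) n) R
  char2 : R ⊓ centralizer (o2 R : Set G) ≤ o2 R
  low : ∀ i < j, lev (S : Subgroup G) i ≤ o2 R
  nlow : ¬ lev (S : Subgroup G) j ≤ o2 R
  mv : ¬ R ≤ centralizer (zc (BL (S : Subgroup G) n) : Set G)
  B0K : LevB.BL (S : Subgroup G) j ≤ K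
  KR : K ≤ R
  pb : PB (LevB.BL (S : Subgroup G) j) K (zl (BL (S : Subgroup G) n) R) N₁ (cv (BL (S : Subgroup G) n) R) 4
  RK : R ≤ BL (S : Subgroup G) n ⊔ K
  nK : BL (S : Subgroup G) n ≤ normalizer ((⁅zl (BL (S : Subgroup G) n) R, K⁆ : Subgroup G) : Set G)
  yb : YB (BL (S : Subgroup G) n) (zc (lev (S : Subgroup G) j))
    (fun _ : Fin 1 => zc (lev (S : Subgroup G) j) ⊓ centralizer (K : Set G)) (fun _ => c)
  cN1 : c ≤ N₁
  N1c : N₁ ≤ c ⊔ cv (BL (S : Subgroup G) n) R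
  cD : c ⊓ cv (BL (S : Subgroup G) n) R = ⊥
  c4 : Nat.card c = 4
  τK : τ ∈ K
  τB0 : τ ∈ normalizer (LevB.BL (S : Subgroup G) j : Set G)
  τc : cj τ c = c
  τ1 : ∀ x ∈ c, τ * x * τ⁻¹ = x → x = 1
  τD : ∀ v ∈ zl (BL (S : Subgroup G) n) R, τ * v * τ⁻¹ * v⁻¹ ∈ cv (BL (S : Subgroup G) n) R →
    v ∈ cv (BL (S : Subgroup G) n) R
  cc : c ≤ ⁅⁅zl (BL (S : Subgroup G) n) R, K⁆, LevB.BL (S : Subgroup G) j⁆
  line : ∀ y ∈ R, ∀ v ∈ N₁, v ∉ cv (BL (S : Subgroup G) n) R → y * v * y⁻¹ ∈ N₁ → cj y N₁ = N₁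
  act : ∀ t ∈ BL (S : Subgroup G) n, ∀ k ∈ K, ∃ k' ∈ K, ∀ v ∈ zl (BL (S : Subgroup G) n) R,
    t * k * t⁻¹ * v * (t * k * t⁻¹)⁻¹ = k' * v * k'⁻¹
  /-- `B` normalises `c` and `C_X(K)` -/
  fix : ∀ b ∈ BL (S : Subgroup G) n, cj b (zc (lev (S : Subgroup G) j) ⊓ centralizer (K : Set G)) =
    zc (lev (S : Subgroup G) j) ⊓ centralizer (K : Set G) ∧ cj b c = c
  /-- (L) -/
  cW : c = W l
  WK : ∀ m, m ≠ l → W m ≤ centralizer (K : Set G)

/-- **The block of `R` exists.** -/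
theorem exists_blk {ι : Type} [Finite ι] {S : Sylow 2 G} {P : Subgroup G} {n : ℕ}
    {L W Z C A : ι → Subgroup G} (hln : Ln S P n L W Z C A 2)
    (hbg : Bg S P (BL (S : Subgroup G) n) (ZL (S : Subgroup G) n) L W Z C 2) [Nonempty ι] {R : Subgroup G}
    (hP : IsMinPar (BL (S : Subgroup G) n) R) (hT : Syl (BL (S : Subgroup G) n) R)
    (hc : R ⊓ centralizer (o2 R : Set G) ≤ o2 R) (hn : ¬ lev (S : Subgroup G) n ≤ o2 R)
    (hZ : ¬ R ≤ centralizer (zc (BL (S : Subgroup G) n) : Set G)) :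
    ∃ (j : ℕ) (K N₁ c : Subgroup G) (τ : G) (l : ι), Blk S P n L W Z C A R j K N₁ c τ l := by
  obtain ⟨j, hj, hlow, hnj⟩ := exists_stg (S : Subgroup G) hn
  obtain ⟨X, AA', hge, hbz, hex, F, _, _, _, k, hk, N, K, Nn, c, hout⟩ :=
    exists_out hln hT le_rfl hP hc hZ hj hlow hnj
  have hyb := hout.inp.yk.yb
  -- `T = B` fixes all lines
  have hlin := fun l => lin_V hln hT.2.1 le_rfl hj hyb hout.inp.yk.tr
    (sub_of_co hge.hm N hk hout.nb.co hyb) ⟨⟨0, hk⟩, hout.zT _⟩ hout.wide l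
  have hfix := Line.fix_all hln.fr hyb (fun q hq l => (hlin l).1 q hq) (fun l => (hlin l).2.2)
    fun l => by rw [(hlin l).2.1]; norm_num
  have hk1 : k = 1 := by
    have key : ∀ i : Fin k, i = ⟨0, hk⟩ := by
      intro i
      obtain ⟨t, ht, hm⟩ := hout.inp.yk.tr ⟨0, hk⟩ i
      exact hyb.uniq hm (hfix t ht _)
    have h2 : Fintype.card (Fin k) = 1 := Fintype.card_eq_one_iff.2 ⟨_, key⟩
    rwa [Fintype.card_fin] at h2
  have hF : Nat.card F = 4 := by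
    rw [← hout.nb.co.card ⟨0, hk⟩]
    exact (hlin _).2.1
  subst hk1
  clear hfix hlin hyb hout K Nn c
  -- the block
  obtain ⟨K, N₁, c, τ, h1, h2, h3, h4, h5, h6, h7, h8, h9, h10, h11, h12, h13, h14, h15, h16, h17, h18, h19⟩ :=
    exists_all hge hbz N hex (by rw [hF]; norm_num)
  rw [hF] at h3 h10
  have hyk : YK (BL (S : Subgroup G) n) R (zc (lev (S : Subgroup G) j)) (LevB.BL (S : Subgroup G) j)
      (fun _ : Fin 1 => K) (fun _ => zl (BL (S : Subgroup G) n) R)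
      (fun _ => zc (lev (S : Subgroup G) j) ⊓ centralizer (K : Set G)) (fun _ => c) :=
    { yb := h6
      pb := fun _ => ⟨_, _, _, h3⟩
      KY := fun _ => h2
      EY := fun _ => le_rfl
      memN := fun _ x hx => by
        rw [mem_inf, mem_centralizer_iff]
        exact ⟨fun h => h.2, fun h => ⟨hx, h⟩⟩
      mv := fun t ht _ _ _ => cj_eq_of_mem_normalizer (h5 ht)
      line := fun _ => h16.trans (commutator_mono (by
        rw [Subgroup.commutator_le]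
        intro v hv k hk
        have hkV := (mem_normalizer_iff.1 (h3.LN hk) v⁻¹).1 (inv_mem hv)
        have e : ⁅v, k⁆ = v * (k * v⁻¹ * k⁻¹) := by rw [commutatorElement_def]; group
        rw [e]
        exact mul_mem hv hkV) le_rfl)
      cross := fun l m hlm => absurd (Subsingleton.elim l m) hlm
      tr := fun l m => ⟨1, one_mem _, by rw [Subsingleton.elim l m]; exact Mv.one _⟩
      sup := fun _ => h4 }
  have hin : Inp S P n L W Z C A (BL (S : Subgroup G) n) R j (fun _ : Fin 1 => K)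
      (fun _ => zl (BL (S : Subgroup G) n) R) (fun _ => zc (lev (S : Subgroup G) j) ⊓ centralizer (K : Set G))
      (fun _ => c) := ⟨hln, hT, le_rfl, hj, hc, hlow, hyk⟩
  have hzT : ¬ zc (BL (S : Subgroup G) n) ≤ zc (lev (S : Subgroup G) j) ⊓ centralizer (K : Set G) := by
    intro hle
    refine hZ (h4.trans (sup_le (NO3S.Level.le_centralizer_zc _) ?_))
    exact le_centralizer_iff.1 (hle.trans inf_le_right)
  have hlin := fun l => lin_V hln hT.2.1 le_rfl hj h6 hyk.tr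
    (sub_of_co hge.hm N one_pos h19 h6) ⟨0, hzT⟩ (fun l => hin.wide ⟨0, hzT⟩ l) l
  have hfix := Line.fix_all hln.fr h6 (fun q hq l => (hlin l).1 q hq) (fun l => (hlin l).2.2)
    fun l => by rw [(hlin l).2.1]; norm_num
  have hτX : ∀ x ∈ c, τ * x * τ⁻¹ ∈ c := fun x hx => by
    have h20 : τ * x * τ⁻¹ ∈ cj τ c := ⟨x, hx, rfl⟩
    rwa [h13] at h20
  have hZJ : ¬ ZL (S : Subgroup G) n ≤ zc (lev (S : Subgroup G) j) ⊓ centralizer (K : Set G) := fun h =>
    hzT ((zc_T_le S hT.2.1 le_rfl).trans h)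
  obtain ⟨l, hcl, hW, -⟩ := Line.line_yb hln hbg hj h6 (l := 0) (fun b hb => hfix b hb 0) (hlin 0).2.2 h10 hZJ hτX h14
    (fun x hx => by
      have h20 := mem_centralizer_iff.1 (mem_inf.1 hx).2 τ h11
      rw [h20]; group)
  exact ⟨j, K, N₁, c, τ, l, ⟨hln, hbg, hj, hT, hP, hc, hlow, hnj, hZ, h1, h2, h3, h4, h5, h6, h7, h8, h9, h10, h11,
    h12, h13, h14, h15, h16, h17, h18, fun b hb => hfix b hb 0, hcl, fun m hm => (hW m hm).trans inf_le_right⟩⟩

end Cfsg.Agent.Omega.OM.Lev.Low.Core
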