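import Cfsg.Agent.Omega.SQ1.Bau
import Cfsg.Agent.ZN.ChoiceSit

/-!
# (LL), `k = 2`: the end of the case of a torus (helper109 #23071, (F) and (G))

`S` is a Sylow 2-subgroup of `⟨K, S⟩`, `B` has index 2 in `S`, `s ∈ S ∖ B`, `X ⊴ S` is elementary abelian,
`B₀ = C_S(X)`, `(K, F)` is a block over `B₀` (`F` the natural module, `c = [F, B₀] = C_F(B₀)` its line), `B` normalises
`K`, `X = c × C_X(K)`, `|X| ≤ |c|²`, `c^s ≤ C(K)`; `U ⊴ ⟨K, S⟩` is elementary abelian and `A ≤ B₀` exact: `U = F C_U(A)`,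
`B₀ = A C_{B₀}(F)`.

* `Dat.K_norm` : **(F)**: `K` normalises `F^s` (so `⟨K, S⟩` permutes `F`, `F^s`, and `F ∩ F^s = 1`);
* `Dat.cz_le` : **(G)**: the elements of `⟨K, S⟩` which centralise some `1 ≠ z ∈ X ∩ Z(S)` normalise `X`;
* `Dat.not_le` : `K` does not normalise `X`.
-/

set_option autoImplicit false

namespace Cfsg.Agent.Omega.OM.Lev.Low.End

open Subgroup Cfsg Cfsg.Agent.ZN.ChoiceBase Cfsg.Agent.ZN.ChoiceSit
open Cfsg.Agent.Omega.SQ1.Bau (mem_sup_comm card_sup_comm mem_sup_norm)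

universe u

variable {G : Type u} [Group G]

/-! ### General lemmas -/

theorem mem_norm_of [Finite G] {K : Subgroup G} {g : G} (h : ∀ k ∈ K, g * k * g⁻¹ ∈ K) :
    g ∈ normalizer (K : Set G) := mem_normalizer_of_cj_le (by
  rintro _ ⟨k, hk, rfl⟩
  exact h k hk)

theorem conj_mem_of_norm {K : Subgroup G} {g k : G} (h : g ∈ normalizer (K : Set G)) (hk : k ∈ K) :
    g * k * g⁻¹ ∈ K := (mem_normalizer_iff.1 h k).1 hk

theorem conj_mem_of_norm' {K : Subgroup G} {g k : G} (h : g ∈ normalizer (K : Set G)) (hk : k ∈ K) :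
    g⁻¹ * k * g ∈ K := by
  have := conj_mem_of_norm (inv_mem h) hk
  rwa [inv_inv] at this

theorem mem_cj_of {K : Subgroup G} {g k : G} (hk : k ∈ K) : g * k * g⁻¹ ∈ cj g K := ⟨k, hk, rfl⟩

theorem exists_of_mem_cj {K : Subgroup G} {g k : G} (hk : k ∈ cj g K) : ∃ x ∈ K, k = g * x * g⁻¹ := by
  obtain ⟨x, hx, rfl⟩ := hk
  exact ⟨x, hx, rfl⟩

theorem cj_sup (g : G) (H K : Subgroup G) : cj g (H ⊔ K) = cj g H ⊔ cj g K := Subgroup.map_sup H K _

/-- A Sylow 2-subgroup meets a normal subgroup in a Sylow 2-subgroup. -/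
theorem syl_inf [Finite G] {T H N : Subgroup G} (hT : Syl T H) (hN : N ≤ H)
    (hn : ∀ h ∈ H, ∀ n ∈ N, h * n * h⁻¹ ∈ N) : Syl (T ⊓ N) N := by
  refine ⟨inf_le_right, hT.2.1.to_le inf_le_left, ?_⟩
  intro R hR h2 hTR
  obtain ⟨S, hS, hRS⟩ := exists_syl h2 (hR.trans hN)
  obtain ⟨x, hx, e⟩ := syl_conj hS hT
  have h1 : cj x R ≤ T ⊓ N := by
    rintro _ ⟨r, hr, rfl⟩
    refine ⟨?_, hn x hx r (hR hr)⟩
    rw [← e]
    exact ⟨r, hRS hr, rfl⟩
  have h3 := Subgroup.card_le_of_le h1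
  rw [card_cj] at h3
  exact (Subgroup.eq_of_le_of_card_ge hTR h3).symm

/-- If all squares of `Y` lie in the normal subgroup `C`, then `Y = T C` for a Sylow 2-subgroup `T`. -/
theorem dec_of_sq [Finite G] {T Y C : Subgroup G} (hT : Syl T Y) (_hC : C ≤ Y)
    (hn : ∀ y ∈ Y, ∀ c ∈ C, y * c * y⁻¹ ∈ C) (hsq : ∀ y ∈ Y, y * y ∈ C) {y : G} (hy : y ∈ Y) :
    ∃ t ∈ T, ∃ c ∈ C, y = t * c := by
  have h2 : Fact (Nat.Prime 2) := ⟨Nat.prime_two⟩
  obtain ⟨P, hP⟩ := syl_iff.1 hT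
  have hN : (C.subgroupOf Y).Normal := ⟨fun c hc g => by
    rw [mem_subgroupOf] at hc ⊢
    exact hn g g.2 c hc⟩
  have hp : IsPGroup 2 (Y ⧸ C.subgroupOf Y) := by
    intro q
    obtain ⟨g, rfl⟩ := QuotientGroup.mk'_surjective (C.subgroupOf Y) q
    refine ⟨1, ?_⟩
    rw [← map_pow, pow_one, pow_two, QuotientGroup.mk'_apply, QuotientGroup.eq_one_iff, mem_subgroupOf]
    exact hsq g g.2
  have hs := QuotientGroup.mk'_surjective (C.subgroupOf Y)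
  have h3 : ((P.mapSurjective hs : Sylow 2 (Y ⧸ C.subgroupOf Y)) : Subgroup (Y ⧸ C.subgroupOf Y)) = ⊤ :=
    (hp.to_subgroup ⊤ |> (P.mapSurjective hs).is_maximal' <| le_top).symm
  have h4 : QuotientGroup.mk' (C.subgroupOf Y) ⟨y, hy⟩ ∈
      ((P.mapSurjective hs : Sylow 2 (Y ⧸ C.subgroupOf Y)) : Subgroup (Y ⧸ C.subgroupOf Y)) := by
    rw [h3]; exact mem_top _
  rw [Sylow.coe_mapSurjective] at h4
  obtain ⟨t, ht, e⟩ := h4
  rw [QuotientGroup.mk'_apply, QuotientGroup.mk'_apply, QuotientGroup.eq, mem_subgroupOf] at e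
  refine ⟨t, ?_, _, e, ?_⟩
  · rw [← hP]
    exact ⟨t, ht, rfl⟩
  · change y = (t : G) * ((t : G)⁻¹ * y)
    group

/-- The elements of `L` which act trivially on `X` and on `W / X`. -/
def YY (L X W : Subgroup G) : Subgroup G where
  carrier := {g | g ∈ L ∧ g ∈ normalizer (W : Set G) ∧ (∀ x ∈ X, g * x = x * g) ∧
    ∀ w ∈ W, g * w * g⁻¹ * w⁻¹ ∈ X}
  one_mem' := ⟨one_mem _, one_mem _, fun x _ => by simp, fun w _ => by simp⟩
  mul_mem' := by
    rintro g h ⟨g1, g2, g3, g4⟩ ⟨h1, h2, h3, h4⟩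
    refine ⟨mul_mem g1 h1, mul_mem g2 h2, fun x hx => ?_, fun w hw => ?_⟩
    · rw [mul_assoc, h3 x hx, ← mul_assoc, g3 x hx, mul_assoc]
    · have e1 := g3 _ (h4 w hw)
      have e2 : g * h * w * (g * h)⁻¹ * w⁻¹ = g * (h * w * h⁻¹ * w⁻¹) * w * g⁻¹ * w⁻¹ := by group
      have e3 : g * (h * w * h⁻¹ * w⁻¹) * w * g⁻¹ * w⁻¹ = (h * w * h⁻¹ * w⁻¹) * (g * w * g⁻¹ * w⁻¹) := by
        rw [e1]; group
      rw [e2, e3]
      exact mul_mem (h4 w hw) (g4 w hw)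
  inv_mem' := by
    rintro g ⟨g1, g2, g3, g4⟩
    refine ⟨inv_mem g1, inv_mem g2, fun x hx => ?_, fun w hw => ?_⟩
    · have := g3 x hx
      calc g⁻¹ * x = g⁻¹ * (x * g) * g⁻¹ := by group
        _ = g⁻¹ * (g * x) * g⁻¹ := by rw [this]
        _ = x * g⁻¹ := by group
    · have h1 := g4 _ (conj_mem_of_norm' g2 hw)
      have h2 := inv_mem h1
      have e : (g * (g⁻¹ * w * g) * g⁻¹ * (g⁻¹ * w * g)⁻¹)⁻¹ = g⁻¹ * w * g⁻¹⁻¹ * w⁻¹ := by group
      rwa [e] at h2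

/-- **The Sylow argument**: the elements of `YY` act on `W` like elements of `S ∩ YY`. -/
theorem act [Finite G] {S L X W : Subgroup G} (hS : Syl S L) (SX : S ≤ normalizer (X : Set G))
    (SW : S ≤ normalizer (W : Set G)) (X2 : ∀ x ∈ X, x * x = 1) {g : G} (hg : g ∈ YY L X W) :
    ∃ t ∈ S, (∀ x ∈ X, t * x = x * t) ∧ ∀ w ∈ W, g * w * g⁻¹ = t * w * t⁻¹ := by
  set H : Subgroup G := L ⊓ normalizer (X : Set G) ⊓ normalizer (W : Set G) with hH
  have hSH : Syl S H := by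
    refine ⟨le_inf (le_inf hS.1 SX) SW, hS.2.1, fun Q hQ h2 h => hS.2.2 Q (hQ.trans (inf_le_left.trans inf_le_left)) h2 h⟩
  have hYH : YY L X W ≤ H := by
    rintro g ⟨g1, g2, g3, -⟩
    refine ⟨⟨g1, mem_norm_of fun x hx => ?_⟩, g2⟩
    rw [g3 x hx, mul_inv_cancel_right]
    exact hx
  have hYn : ∀ h ∈ H, ∀ n ∈ YY L X W, h * n * h⁻¹ ∈ YY L X W := by
    rintro h ⟨⟨h1, h2⟩, h3⟩ n ⟨n1, n2, n3, n4⟩
    refine ⟨mul_mem (mul_mem h1 n1) (inv_mem h1), mul_mem (mul_mem h3 n2) (inv_mem h3), fun x hx => ?_,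
      fun w hw => ?_⟩
    · have e1 := n3 _ (conj_mem_of_norm' h2 hx)
      calc h * n * h⁻¹ * x = h * (n * (h⁻¹ * x * h)) * h⁻¹ := by group
        _ = h * ((h⁻¹ * x * h) * n) * h⁻¹ := by rw [e1]
        _ = x * (h * n * h⁻¹) := by group
    · have e1 := conj_mem_of_norm h2 (n4 _ (conj_mem_of_norm' h3 hw))
      have e : h * (n * (h⁻¹ * w * h) * n⁻¹ * (h⁻¹ * w * h)⁻¹) * h⁻¹ =
          h * n * h⁻¹ * w * (h * n * h⁻¹)⁻¹ * w⁻¹ := by group
      rwa [e] at e1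
  have h1 := syl_inf hSH hYH hYn
  obtain ⟨t, ht, c, hc, rfl⟩ := dec_of_sq (C := YY L X W ⊓ centralizer (W : Set G)) h1 inf_le_left
    (fun y hy c hc => mem_inf.2 ⟨mul_mem (mul_mem hy (mem_inf.1 hc).1) (inv_mem hy), by
      have h2 := hy.2.1
      have h3 : centralizer (W : Set G) = centralizer ((cj y W : Subgroup G) : Set G) := by
        rw [cj_eq_of_mem_normalizer h2]
      rw [h3, ← cj_centralizer]
      exact mem_cj_of (mem_inf.1 hc).2⟩)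
    (fun y hy => mem_inf.2 ⟨mul_mem hy hy, by
      rw [mem_centralizer_iff]
      intro w hw
      have h2 := hy.2.2.2 w hw
      have h3 := hy.2.2.1 _ h2
      have h4 := X2 _ h2
      set x := y * w * y⁻¹ * w⁻¹ with hx
      have h5 : y * w = x * w * y := by rw [hx]; group
      calc w * (y * y) = (x * x) * w * (y * y) := by rw [h4, one_mul]
        _ = x * (x * w * y) * y := by group
        _ = x * (y * w) * y := by rw [h5]
        _ = (x * y) * w * y := by group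
        _ = (y * x) * w * y := by rw [h3]
        _ = y * (x * w * y) := by group
        _ = y * (y * w) := by rw [h5]
        _ = y * y * w := by group⟩) hg
  refine ⟨t, ht.1, ht.2.2.2.1, fun w hw => ?_⟩
  have h2 := mem_centralizer_iff.1 hc.2 w hw
  calc t * c * w * (t * c)⁻¹ = t * (c * w) * c⁻¹ * t⁻¹ := by group
    _ = t * (w * c) * c⁻¹ * t⁻¹ := by rw [h2]
    _ = t * w * t⁻¹ := by group

/-! ### The situation -/

/-- The situation of (F), (G). -/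
structure Dat (S B B0 X K F c U A : Subgroup G) (s : G) : Prop where
  /-- `S` is a Sylow 2-subgroup of `⟨K, S⟩` -/
  syl : Syl S (K ⊔ S)
  BS : B ≤ S
  nB : S ≤ normalizer (B : Set G)
  sS : s ∈ S
  /-- `|S : B| = 2` -/
  sB : ∀ g ∈ S, g ∈ B ∨ s * g ∈ B
  SX : S ≤ normalizer (X : Set G)
  Xc : ∀ x ∈ X, ∀ y ∈ X, x * y = y * x
  X2 : ∀ x ∈ X, x * x = 1
  eB : B0 = S ⊓ centralizer (X : Set G)
  cardX : Nat.card X ≤ Nat.card c * Nat.card c
  /-- `B` permutes the lines `c^k`, `k ∈ K` -/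
  BL : ∀ b ∈ B, ∀ k ∈ K, ∃ k' ∈ K, cj (b * k) c = cj k' c
  B0K : B0 ≤ K
  KF : K ≤ normalizer (F : Set G)
  BF : B ≤ normalizer (F : Set G)
  KP : K ≤ normalizer ((B0 ⊓ centralizer (F : Set G) : Subgroup G) : Set G)
  cF : c ≤ F
  cX : c ≤ X
  /-- `[F, B₀] ≤ c` -/
  com : ∀ f ∈ F, ∀ b ∈ B0, b * f * b⁻¹ * f⁻¹ ∈ c
  /-- `X = c C_X(K)` -/
  split : ∀ x ∈ X, ∃ a ∈ c, ∃ y ∈ X, (∀ k ∈ K, k * y = y * k) ∧ x = a * y
  gen : ∀ x ∈ K, cj x c ≠ c → ∀ Y : Subgroup G, B0 ≤ Y → cj x B0 ≤ Y → K ≤ Y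
  ex : ∃ x ∈ K, cj x c ≠ c ∧ ∀ f ∈ F, ∃ a ∈ c, ∃ b ∈ c, f = a * (x * b * x⁻¹)
  Uc : ∀ x ∈ U, ∀ y ∈ U, x * y = y * x
  FU : F ≤ U
  KU : K ≤ normalizer (U : Set G)
  SU : S ≤ normalizer (U : Set G)
  AB : A ≤ B0
  /-- `B₀ = A C_{B₀}(F)` -/
  dec : ∀ b ∈ B0, ∃ a ∈ A, ∃ p ∈ B0, (∀ f ∈ F, p * f = f * p) ∧ b = a * p
  /-- `U = F C_U(A)` -/
  full : ∀ u ∈ U, ∃ f ∈ F, ∃ y ∈ U, (∀ a ∈ A, a * y = y * a) ∧ u = f * y
  /-- `c^s ≤ C(K)` (from (5)) -/
  cs : ∀ y ∈ c, ∀ k ∈ K, k * (s * y * s⁻¹) = s * y * s⁻¹ * k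
  /-- a torus element -/
  tor : ∃ h ∈ K, cj h c = c ∧ ∀ f ∈ F, h * f = f * h → f = 1

namespace Dat

variable {S B B0 X K F c U A : Subgroup G} {s : G} (d : Dat S B B0 X K F c U A s)

include d

theorem SB0 {g : G} (hg : g ∈ S) : cj g B0 = B0 := by
  rw [d.eB, cj_inf, cj_centralizer, cj_eq_of_mem_normalizer (le_normalizer hg), cj_eq_of_mem_normalizer (d.SX hg)]

theorem B0S : B0 ≤ S := by rw [d.eB]; exact inf_le_left

theorem B0X {b x : G} (hb : b ∈ B0) (hx : x ∈ X) : b * x = x * b := by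
  rw [d.eB] at hb
  exact (mem_centralizer_iff.1 hb.2 x hx).symm

theorem sB0 {g b : G} (hg : g ∈ S) (hb : b ∈ B0) : g⁻¹ * b * g ∈ B0 := by
  have h := d.SB0 (inv_mem hg)
  rw [← h]
  have := mem_cj_of (g := g⁻¹) hb
  rwa [inv_inv] at this

theorem ss : s * s ∈ B := by
  rcases d.sB s d.sS with h | h
  · exact mul_mem h h
  · exact h

theorem F_cen {y : G} (hy : y ∈ F) (h : ∀ k ∈ K, k * y = y * k) : y = 1 := by
  obtain ⟨t, ht, -, h1⟩ := d.tor
  exact h1 y hy (h t ht)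

theorem cFX : X ⊓ F = c := by
  apply le_antisymm _ (le_inf d.cX d.cF)
  rintro x ⟨hx, hxF⟩
  obtain ⟨a, ha, y, -, hk, rfl⟩ := d.split x hx
  have h1 : y ∈ F := by
    have := mul_mem (inv_mem (d.cF ha)) hxF
    rwa [inv_mul_cancel_left] at this
  rw [d.F_cen h1 hk, mul_one]
  exact ha

theorem Bc {g : G} (hg : g ∈ B) : cj g c = c := by
  have h := d.cFX
  rw [← h, cj_inf, cj_eq_of_mem_normalizer (d.SX (d.BS hg)), cj_eq_of_mem_normalizer (d.BF hg)]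

/-- `c^{s⁻¹} = c^s` -/
theorem c_inv : cj s⁻¹ c = cj s c := by
  have h := d.Bc d.ss
  rw [← cj_cj] at h
  calc cj s⁻¹ c = cj s⁻¹ (cj s (cj s c)) := by rw [h]
    _ = cj s c := cj_inv_cj _ _

/-- `F^{s⁻¹} = F^s` -/
theorem F_inv : cj s⁻¹ F = cj s F := by
  have h := cj_eq_of_mem_normalizer (d.BF d.ss)
  rw [← cj_cj] at h
  calc cj s⁻¹ F = cj s⁻¹ (cj s (cj s F)) := by rw [h]
    _ = cj s F := cj_inv_cj _ _

theorem ssF : cj s (cj s F) = F := by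
  rw [cj_cj]
  exact cj_eq_of_mem_normalizer (d.BF d.ss)

theorem ssc : cj s (cj s c) = c := by
  rw [cj_cj]
  exact d.Bc d.ss

/-- `g ∈ B` normalises `F^s`, `c^s` -/
theorem B_conj {g : G} (hg : g ∈ B) : s⁻¹ * g * s ∈ B := conj_mem_of_norm' (d.nB d.sS) hg

theorem BF2 {g : G} (hg : g ∈ B) : cj g (cj s F) = cj s F := by
  have h := cj_eq_of_mem_normalizer (d.BF (d.B_conj hg))
  rw [cj_cj]
  have e : g * s = s * (s⁻¹ * g * s) := by group
  rw [e, ← cj_cj, h]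

theorem Bc2 {g : G} (hg : g ∈ B) : cj g (cj s c) = cj s c := by
  have h := d.Bc (d.B_conj hg)
  rw [cj_cj]
  have e : g * s = s * (s⁻¹ * g * s) := by group
  rw [e, ← cj_cj, h]

theorem c2X : cj s c ≤ X := by
  have h := cj_eq_of_mem_normalizer (d.SX d.sS)
  rw [← h]
  exact cj_mono s d.cX

theorem c2F2 : cj s c ≤ cj s F := cj_mono s d.cF

theorem c2K {y k : G} (hy : y ∈ cj s c) (hk : k ∈ K) : k * y = y * k := by
  obtain ⟨x, hx, rfl⟩ := exists_of_mem_cj hy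
  exact d.cs x hx k hk

theorem F_inf {y : G} (hy : y ∈ F) (hy' : y ∈ cj s c) : y = 1 := d.F_cen hy fun _ hk => d.c2K hy' hk

theorem F2U : cj s F ≤ U := by
  have h := cj_eq_of_mem_normalizer (d.SU d.sS)
  rw [← h]
  exact cj_mono s d.FU

/-- `X = c × c^s`. -/
theorem Xdec [Finite G] {x : G} (hx : x ∈ X) : ∃ a ∈ c, ∃ b ∈ cj s c, x = a * b := by
  set C : Subgroup G := X ⊓ centralizer (K : Set G) with hC
  have h1 : cj s c ≤ C := le_inf d.c2X fun y hy => mem_centralizer_iff.2 fun k hk => d.c2K hy hk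
  have h2 : X = c ⊔ C := by
    apply le_antisymm _ (sup_le d.cX inf_le_left)
    intro y hy
    obtain ⟨a, ha, z, hz, hk, rfl⟩ := d.split y hy
    exact mul_mem (mem_sup_left ha) (mem_sup_right ⟨hz, mem_centralizer_iff.2 fun k hk' => hk k hk'⟩)
  have h3 := card_sup_comm (A := c) (B := C) fun a ha b hb => d.Xc a (d.cX ha) b hb.1
  have h4 : c ⊓ C = ⊥ := by
    rw [eq_bot_iff]
    rintro y ⟨hy, hy'⟩
    rw [mem_bot]
    exact d.F_cen (d.cF hy) fun k hk => mem_centralizer_iff.1 hy'.2 k hk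
  rw [← h2, h4, Subgroup.card_bot, mul_one] at h3
  have h5 : Nat.card C ≤ Nat.card c := by
    have h6 := d.cardX
    rw [h3] at h6
    exact Nat.le_of_mul_le_mul_left h6 Nat.card_pos
  have h6 : cj s c = C := Subgroup.eq_of_le_of_card_ge h1 (by rw [card_cj]; exact h5)
  have h7 : x ∈ c ⊔ C := by rw [← h2]; exact hx
  obtain ⟨a, ha, b, hb, rfl⟩ := mem_sup_comm (A := c) (B := C)
    (fun a ha b hb => d.Xc a (d.cX ha) b (mem_inf.1 hb).1) h7
  exact ⟨a, ha, b, by rw [h6]; exact hb, rfl⟩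

/-- `[U, A] ≤ c` -/
theorem UA {u a : G} (hu : u ∈ U) (ha : a ∈ A) : a * u * a⁻¹ * u⁻¹ ∈ c := by
  obtain ⟨f, hf, y, -, hy, rfl⟩ := d.full u hu
  have h1 := d.com f hf a (d.AB ha)
  have h2 := hy a ha
  have e : a * (f * y) * a⁻¹ * (f * y)⁻¹ = a * f * a⁻¹ * f⁻¹ := by
    have h3 : y * a⁻¹ = a⁻¹ * y := by
      calc y * a⁻¹ = a⁻¹ * (a * y) * a⁻¹ := by group
        _ = a⁻¹ * (y * a) * a⁻¹ := by rw [h2]
        _ = a⁻¹ * y := by group
    calc a * (f * y) * a⁻¹ * (f * y)⁻¹ = a * f * (y * a⁻¹) * y⁻¹ * f⁻¹ := by group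
      _ = a * f * (a⁻¹ * y) * y⁻¹ * f⁻¹ := by rw [h3]
      _ = _ := by group
  rw [e]
  exact h1

/-- `A` centralises `F^s` -/
theorem AF2 {a y : G} (ha : a ∈ A) (hy : y ∈ cj s F) : a * y = y * a := by
  have h1 := d.UA (d.F2U hy) ha
  obtain ⟨f, hf, rfl⟩ := exists_of_mem_cj hy
  have h2 : s⁻¹ * (a * (s * f * s⁻¹) * a⁻¹ * (s * f * s⁻¹)⁻¹) * s ∈ cj s c := by
    rw [← d.c_inv]
    have := mem_cj_of (g := s⁻¹) h1
    rwa [inv_inv] at this
  have h3 : s⁻¹ * (a * (s * f * s⁻¹) * a⁻¹ * (s * f * s⁻¹)⁻¹) * s ∈ F := by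
    have h4 := d.sB0 d.sS (d.AB ha)
    have h5 := conj_mem_of_norm (d.KF (d.B0K h4)) hf
    have h6 := mul_mem h5 (inv_mem hf)
    have e : s⁻¹ * a * s * f * (s⁻¹ * a * s)⁻¹ * f⁻¹ =
        s⁻¹ * (a * (s * f * s⁻¹) * a⁻¹ * (s * f * s⁻¹)⁻¹) * s := by group
    rwa [e] at h6
  have h4 := d.F_inf h3 h2
  have h5 : a * (s * f * s⁻¹) * a⁻¹ * (s * f * s⁻¹)⁻¹ = 1 := by
    have e : a * (s * f * s⁻¹) * a⁻¹ * (s * f * s⁻¹)⁻¹ =
        s * (s⁻¹ * (a * (s * f * s⁻¹) * a⁻¹ * (s * f * s⁻¹)⁻¹) * s) * s⁻¹ := by group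
    rw [e, h4]; group
  have h6 := mul_inv_eq_one.1 h5
  exact mul_inv_eq_iff_eq_mul.1 h6

/-- `[F^s, B₀] ≤ c^s` -/
theorem comF2 {b y : G} (hb : b ∈ B0) (hy : y ∈ cj s F) : b * y * b⁻¹ * y⁻¹ ∈ cj s c := by
  obtain ⟨f, hf, rfl⟩ := exists_of_mem_cj hy
  have h1 := mem_cj_of (g := s) (d.com f hf _ (d.sB0 d.sS hb))
  have e : s * (s⁻¹ * b * s * f * (s⁻¹ * b * s)⁻¹ * f⁻¹) * s⁻¹ =
      b * (s * f * s⁻¹) * b⁻¹ * (s * f * s⁻¹)⁻¹ := by group
  rwa [e] at h1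

section E

variable {x : G} (hx : x ∈ K) (hxc : cj x c ≠ c) (hsp : ∀ f ∈ F, ∃ a ∈ c, ∃ b ∈ c, f = a * (x * b * x⁻¹))

include hx

theorem E_le : A ⊔ cj x A ≤ K := by
  refine sup_le (d.AB.trans d.B0K) ?_
  rintro _ ⟨a, ha, rfl⟩
  exact mul_mem (mul_mem hx (d.B0K (d.AB ha))) (inv_mem hx)

include hxc

/-- `K = E π` -/
theorem K_dec {k : G} (hk : k ∈ K) : ∃ e ∈ A ⊔ cj x A, ∃ p ∈ B0, (∀ f ∈ F, p * f = f * p) ∧ k = e * p := by
  set P : Subgroup G := B0 ⊓ centralizer (F : Set G) with hP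
  have h0 : ∀ b ∈ B0, ∃ a ∈ A, ∃ p ∈ P, b = a * p := by
    intro b hb
    obtain ⟨a, ha, p, hp, hf, rfl⟩ := d.dec b hb
    exact ⟨a, ha, p, ⟨hp, mem_centralizer_iff.2 fun f hf' => (hf f hf').symm⟩, rfl⟩
  have h1 : K ≤ (A ⊔ cj x A) ⊔ P := by
    refine d.gen x hx hxc _ (fun b hb => ?_) ?_
    · obtain ⟨a, ha, p, hp, rfl⟩ := h0 b hb
      exact mul_mem (mem_sup_left (mem_sup_left ha)) (mem_sup_right hp)
    · rintro _ ⟨b, hb, rfl⟩
      obtain ⟨a, ha, p, hp, rfl⟩ := h0 b hb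
      have h2 : x * p * x⁻¹ ∈ P := conj_mem_of_norm (d.KP hx) hp
      have e : x * (a * p) * x⁻¹ = (x * a * x⁻¹) * (x * p * x⁻¹) := by group
      change x * (a * p) * x⁻¹ ∈ _
      rw [e]
      exact mul_mem (mem_sup_left (mem_sup_right (mem_cj_of ha))) (mem_sup_right h2)
  obtain ⟨e, he, p, hp, rfl⟩ := mem_sup_norm ((d.E_le hx).trans d.KP) (h1 hk)
  exact ⟨e, he, p, hp.1, fun f hf => (mem_centralizer_iff.1 hp.2 f hf).symm, rfl⟩

/-- The torus element in `E`. -/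
theorem tor_E : ∃ e ∈ A ⊔ cj x A, e ∈ K ∧ cj e c = c ∧ ∀ f ∈ F, e * f = f * e → f = 1 := by
  obtain ⟨t, ht, htc, htf⟩ := d.tor
  obtain ⟨e, he, p, -, hpf, rfl⟩ := d.K_dec hx hxc ht
  refine ⟨e, he, d.E_le hx he, ?_, fun f hf h => htf f hf ?_⟩
  · have h1 : cj p c = c := by
      apply mem_normalizer_iff_cj.1
      rw [mem_normalizer_iff]
      intro y
      constructor
      · intro hy
        rw [hpf y (d.cF hy), mul_inv_cancel_right]
        exact hy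
      · intro hy
        have h2 := hpf _ (d.cF hy)
        have h3 : y = p * y * p⁻¹ := by
          have h4 : p * (p * y * p⁻¹) = p * y := by rw [h2]; group
          exact (mul_left_cancel h4).symm
        rw [h3]
        exact hy
    rw [← cj_cj, h1] at htc
    exact htc
  · calc e * p * f = e * (p * f) := by group
      _ = e * (f * p) := by rw [hpf f hf]
      _ = (e * f) * p := by group
      _ = f * (e * p) := by rw [h]; group

include hsp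
omit hxc

/-- `F^s ≤ c C_U(E)` -/
theorem dec2 {y : G} (hy : y ∈ cj s F) :
    ∃ a ∈ c, ∃ w ∈ U, (∀ e ∈ A ⊔ cj x A, e * w = w * e) ∧ y = a * w := by
  have hyU := d.F2U hy
  obtain ⟨f', hf', u, hu, hua, e0⟩ := d.full _ (conj_mem_of_norm' (d.KU hx) hyU)
  obtain ⟨a, ha, b, hb, e1⟩ := hsp _ (conj_mem_of_norm (d.KF hx) hf')
  have e2 : y = a * ((x * b * x⁻¹) * (x * u * x⁻¹)) := by
    calc y = x * (x⁻¹ * y * x) * x⁻¹ := by group
      _ = (x * f' * x⁻¹) * (x * u * x⁻¹) := by rw [e0]; group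
      _ = _ := by rw [e1]; group
  have hxb : x * b * x⁻¹ ∈ U := conj_mem_of_norm (d.KU hx) (d.FU (d.cF hb))
  have hxu : x * u * x⁻¹ ∈ U := conj_mem_of_norm (d.KU hx) hu
  refine ⟨a, ha, _, mul_mem hxb hxu, ?_, e2⟩
  set w := (x * b * x⁻¹) * (x * u * x⁻¹) with hw
  have h1 : A ⊔ cj x A ≤ centralizer ({w} : Set G) := by
    refine sup_le (fun g hg => ?_) ?_
    · rw [mem_centralizer_iff]
      rintro _ rfl
      have h2 := d.AF2 hg hy
      have h3 := d.B0X (d.AB hg) (d.cX ha)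
      rw [e2] at h2
      have h4 : g * (a * w) = a * (g * w) := by rw [← mul_assoc, h3, mul_assoc]
      rw [h4, mul_assoc] at h2
      exact (mul_left_cancel h2).symm
    · rintro _ ⟨g, hg, rfl⟩
      rw [mem_centralizer_iff]
      rintro _ rfl
      change w * (x * g * x⁻¹) = (x * g * x⁻¹) * w
      have h3 := d.B0X (d.AB hg) (d.cX hb)
      have h4 := hua g hg
      calc w * (x * g * x⁻¹) = x * (b * (u * g)) * x⁻¹ := by rw [hw]; group
        _ = x * ((b * g) * u) * x⁻¹ := by rw [← h4]; group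
        _ = x * ((g * b) * u) * x⁻¹ := by rw [h3]
        _ = (x * g * x⁻¹) * w := by rw [hw]; group
  intro e he
  exact (mem_centralizer_iff.1 (h1 he) w rfl).symm

/-- `[F^s, e] ≤ c` for `e ∈ N_E(c)`. -/
theorem phi {y e : G} (hy : y ∈ cj s F) (he : e ∈ A ⊔ cj x A) (hec : cj e c = c) : e * y * e⁻¹ * y⁻¹ ∈ c := by
  obtain ⟨a, ha, w, hw, hwe, rfl⟩ := d.dec2 hx hsp hy
  have h1 : e * a * e⁻¹ ∈ c := by
    rw [← hec]; exact mem_cj_of ha
  have h2 := hwe e he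
  have e1 : e * (a * w) * e⁻¹ * (a * w)⁻¹ = e * a * e⁻¹ * a⁻¹ := by
    have h3 : w * e⁻¹ = e⁻¹ * w := by
      calc w * e⁻¹ = e⁻¹ * (e * w) * e⁻¹ := by group
        _ = e⁻¹ * (w * e) * e⁻¹ := by rw [h2]
        _ = e⁻¹ * w := by group
    calc e * (a * w) * e⁻¹ * (a * w)⁻¹ = e * a * (w * e⁻¹) * w⁻¹ * a⁻¹ := by group
      _ = e * a * (e⁻¹ * w) * w⁻¹ * a⁻¹ := by rw [h3]
      _ = _ := by group
  rw [e1]
  exact mul_mem h1 (inv_mem ha)

end E

/-! ### The commutator of the two tori -/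

omit d in
theorem comm_inv {g y : G} (h : g * y = y * g) : g⁻¹ * y = y * g⁻¹ := by
  calc g⁻¹ * y = g⁻¹ * (y * g) * g⁻¹ := by group
    _ = g⁻¹ * (g * y) * g⁻¹ := by rw [h]
    _ = y * g⁻¹ := by group

omit d in
theorem conj_eq {g y : G} (h : g * y = y * g) : g * y * g⁻¹ = y := by rw [h, mul_inv_cancel_right]

section T

variable [Finite G] {e : G}

omit [Finite G] in
/-- `F`, `F^s` generate `W`. -/
theorem W_dec {w : G} (hw : w ∈ F ⊔ cj s F) : ∃ f ∈ F, ∃ y ∈ cj s F, w = f * y :=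
  mem_sup_comm (fun a ha b hb => d.Uc a (d.FU ha) b (d.F2U hb)) hw

omit [Finite G] in
theorem W_le : F ⊔ cj s F ≤ U := sup_le d.FU d.F2U

omit [Finite G] in
theorem SW : S ≤ normalizer ((F ⊔ cj s F : Subgroup G) : Set G) := by
  have hB : ∀ g ∈ B, cj g (F ⊔ cj s F) = F ⊔ cj s F := by
    intro g hg
    rw [cj_sup, cj_eq_of_mem_normalizer (d.BF hg), d.BF2 hg]
  have hs : cj s (F ⊔ cj s F) = F ⊔ cj s F := by
    rw [cj_sup, d.ssF, sup_comm]
  intro g hg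
  rw [mem_normalizer_iff_cj]
  rcases d.sB g hg with h | h
  · exact hB g h
  · have h1 := hB _ h
    rw [← cj_cj] at h1
    have h2 := congrArg (cj s⁻¹) h1
    rw [cj_inv_cj] at h2
    rw [h2]
    have h3 := congrArg (cj s⁻¹) hs
    rw [cj_inv_cj] at h3
    exact h3.symm

/-- **`E` centralises `F^s`.** -/
theorem E_cen {x : G} (hx : x ∈ K) (hxc : cj x c ≠ c) (hsp : ∀ f ∈ F, ∃ a ∈ c, ∃ b ∈ c, f = a * (x * b * x⁻¹)) :
    ∀ g ∈ A ⊔ cj x A, ∀ y ∈ cj s F, g * y = y * g := by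
  obtain ⟨e, he, heK, hec, hef⟩ := d.tor_E hx hxc
  have hec' : cj e⁻¹ c = c := by
    have := congrArg (cj e⁻¹) hec
    rwa [cj_inv_cj, eq_comm] at this
  set e2 := s * e * s⁻¹ with he2
  -- `c`, `c^s` and `e`, `e2`
  have c1e : ∀ a ∈ c, e * a * e⁻¹ ∈ c := fun a ha => by
    have := mem_cj_of (g := e) ha
    rwa [hec] at this
  have c1e' : ∀ a ∈ c, e⁻¹ * a * e ∈ c := fun a ha => by
    have := mem_cj_of (g := e⁻¹) ha
    rwa [hec', inv_inv] at this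
  have c2e : ∀ b ∈ cj s c, e * b = b * e := fun b hb => d.c2K hb heK
  have c1e2 : ∀ a ∈ c, e2 * a = a * e2 := by
    intro a ha
    have h1 : s⁻¹ * a * s ∈ cj s c := by
      rw [← d.c_inv]
      have := mem_cj_of (g := s⁻¹) ha
      rwa [inv_inv] at this
    have h2 := c2e _ h1
    calc e2 * a = s * (e * (s⁻¹ * a * s)) * s⁻¹ := by rw [he2]; group
      _ = s * ((s⁻¹ * a * s) * e) * s⁻¹ := by rw [h2]
      _ = a * e2 := by rw [he2]; group
  have c2e2 : ∀ b ∈ cj s c, e2 * b * e2⁻¹ ∈ cj s c := by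
    rintro b hb
    obtain ⟨a, ha, rfl⟩ := exists_of_mem_cj hb
    have := mem_cj_of (g := s) (c1e a ha)
    have e1 : s * (e * a * e⁻¹) * s⁻¹ = e2 * (s * a * s⁻¹) * e2⁻¹ := by rw [he2]; group
    rwa [e1] at this
  have c2e2' : ∀ b ∈ cj s c, e2⁻¹ * b * e2 ∈ cj s c := by
    rintro b hb
    obtain ⟨a, ha, rfl⟩ := exists_of_mem_cj hb
    have := mem_cj_of (g := s) (c1e' a ha)
    have e1 : s * (e⁻¹ * a * e) * s⁻¹ = e2⁻¹ * (s * a * s⁻¹) * e2 := by rw [he2]; group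
    rwa [e1] at this
  -- `F`, `F^s`
  have f1e : ∀ f ∈ F, e * f * e⁻¹ ∈ F := fun f hf => conj_mem_of_norm (d.KF heK) hf
  have f1e' : ∀ f ∈ F, e⁻¹ * f * e ∈ F := fun f hf => conj_mem_of_norm' (d.KF heK) hf
  have f2e2 : ∀ y ∈ cj s F, e2 * y * e2⁻¹ ∈ cj s F := by
    rintro y hy
    obtain ⟨a, ha, rfl⟩ := exists_of_mem_cj hy
    have := mem_cj_of (g := s) (f1e a ha)
    have e1 : s * (e * a * e⁻¹) * s⁻¹ = e2 * (s * a * s⁻¹) * e2⁻¹ := by rw [he2]; group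
    rwa [e1] at this
  have f2e2' : ∀ y ∈ cj s F, e2⁻¹ * y * e2 ∈ cj s F := by
    rintro y hy
    obtain ⟨a, ha, rfl⟩ := exists_of_mem_cj hy
    have := mem_cj_of (g := s) (f1e' a ha)
    have e1 : s * (e⁻¹ * a * e) * s⁻¹ = e2⁻¹ * (s * a * s⁻¹) * e2 := by rw [he2]; group
    rwa [e1] at this
  have ph : ∀ y ∈ cj s F, e * y * e⁻¹ * y⁻¹ ∈ c := fun y hy => d.phi hx hsp hy he hec
  have ph' : ∀ y ∈ cj s F, e⁻¹ * y * e * y⁻¹ ∈ c := fun y hy => by
    have := d.phi hx hsp hy (inv_mem he) hec'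
    rwa [inv_inv] at this
  have hFs : ∀ f ∈ F, s⁻¹ * f * s ∈ cj s F := fun f hf => by
    rw [← d.F_inv]
    have := mem_cj_of (g := s⁻¹) hf
    rwa [inv_inv] at this
  have ps : ∀ f ∈ F, e2 * f * e2⁻¹ * f⁻¹ ∈ cj s c := by
    intro f hf
    have := mem_cj_of (g := s) (ph _ (hFs f hf))
    have e1 : s * (e * (s⁻¹ * f * s) * e⁻¹ * (s⁻¹ * f * s)⁻¹) * s⁻¹ = e2 * f * e2⁻¹ * f⁻¹ := by
      rw [he2]; group
    rwa [e1] at this
  have ps' : ∀ f ∈ F, e2⁻¹ * f * e2 * f⁻¹ ∈ cj s c := by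
    intro f hf
    have := mem_cj_of (g := s) (ph' _ (hFs f hf))
    have e1 : s * (e⁻¹ * (s⁻¹ * f * s) * e * (s⁻¹ * f * s)⁻¹) * s⁻¹ = e2⁻¹ * f * e2 * f⁻¹ := by
      rw [he2]; group
    rwa [e1] at this
  -- normalisers
  have eX : e ∈ normalizer (X : Set G) := mem_norm_of fun y hy => by
    obtain ⟨a, ha, b, hb, rfl⟩ := d.Xdec hy
    have h1 : e * (a * b) * e⁻¹ = (e * a * e⁻¹) * (e * b * e⁻¹) := by group
    rw [h1, conj_eq (c2e b hb)]
    exact mul_mem (d.cX (c1e a ha)) (d.c2X hb)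
  have eW : e ∈ normalizer ((F ⊔ cj s F : Subgroup G) : Set G) := mem_norm_of fun w hw => by
    obtain ⟨f, hf, y, hy, rfl⟩ := d.W_dec hw
    have h1 : e * (f * y) * e⁻¹ = (e * f * e⁻¹) * ((e * y * e⁻¹ * y⁻¹) * y) := by group
    rw [h1]
    exact mul_mem (mem_sup_left (f1e f hf)) (mul_mem (mem_sup_left (d.cF (ph y hy))) (mem_sup_right hy))
  have sX := d.SX d.sS
  have sW := d.SW d.sS
  have e2X : e2 ∈ normalizer (X : Set G) := mul_mem (mul_mem sX eX) (inv_mem sX)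
  have e2W : e2 ∈ normalizer ((F ⊔ cj s F : Subgroup G) : Set G) := mul_mem (mul_mem sW eW) (inv_mem sW)
  have eL : e ∈ K ⊔ S := mem_sup_left heK
  have e2L : e2 ∈ K ⊔ S := mul_mem (mul_mem (mem_sup_right d.sS) eL) (inv_mem (mem_sup_right d.sS))
  -- the commutator
  set n := e * e2 * e⁻¹ * e2⁻¹ with hn
  -- `n` on `F^s`
  have n2 : ∀ y ∈ cj s F, n * y * n⁻¹ * y⁻¹ =
      (e * y * e⁻¹ * y⁻¹) * (e * (e2⁻¹ * y * e2) * e⁻¹ * (e2⁻¹ * y * e2)⁻¹)⁻¹ := by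
    intro y hy
    set y' := e2⁻¹ * y * e2 with hy'
    have hy'F : y' ∈ cj s F := f2e2' y hy
    set q := e⁻¹ * y' * e * y'⁻¹ with hq
    have hqc : q ∈ c := ph' y' hy'F
    have h1 : n * y * n⁻¹ = e * (e2 * (e⁻¹ * y' * e) * e2⁻¹) * e⁻¹ := by rw [hn, hy']; group
    have h2 : e⁻¹ * y' * e = q * y' := by rw [hq]; group
    have h3 : e2 * (q * y') * e2⁻¹ = q * y := by
      calc e2 * (q * y') * e2⁻¹ = (e2 * q * e2⁻¹) * (e2 * y' * e2⁻¹) := by group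
        _ = q * (e2 * y' * e2⁻¹) := by rw [conj_eq (c1e2 q hqc)]
        _ = q * y := by rw [hy']; group
    have h4 : e * q * e⁻¹ = (e * y' * e⁻¹ * y'⁻¹)⁻¹ := by rw [hq]; group
    have h5 : e * (q * y) * e⁻¹ * y⁻¹ = (e * q * e⁻¹) * (e * y * e⁻¹ * y⁻¹) := by group
    rw [h1, h2, h3, h5, h4]
    exact d.Xc _ (inv_mem (d.cX (ph y' hy'F))) _ (d.cX (ph y hy))
  have n2c : ∀ y ∈ cj s F, n * y * n⁻¹ * y⁻¹ ∈ c := fun y hy => by
    rw [n2 y hy]
    exact mul_mem (ph y hy) (inv_mem (ph _ (f2e2' y hy)))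
  -- `n` on `F`
  have n1c : ∀ f ∈ F, n * f * n⁻¹ * f⁻¹ ∈ cj s c := by
    intro f hf
    set r := e2⁻¹ * f * e2 * f⁻¹ with hr
    have hrc : r ∈ cj s c := ps' f hf
    set f' := e⁻¹ * f * e with hf'
    have hf'F : f' ∈ F := f1e' f hf
    set p := e2 * f' * e2⁻¹ * f'⁻¹ with hp
    have hpc : p ∈ cj s c := ps f' hf'F
    set r' := e2 * r * e2⁻¹ with hr'
    have hr'c : r' ∈ cj s c := c2e2 r hrc
    have h1 : n * f * n⁻¹ = e * (e2 * (e⁻¹ * (r * f) * e) * e2⁻¹) * e⁻¹ := by rw [hn, hr]; group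
    have h2 : e⁻¹ * (r * f) * e = r * f' := by
      have h3 : e⁻¹ * r = r * e⁻¹ := comm_inv (c2e r hrc)
      calc e⁻¹ * (r * f) * e = (e⁻¹ * r) * f * e := by group
        _ = r * f' := by rw [h3, hf']; group
    have h3 : e2 * (r * f') * e2⁻¹ = r' * p * f' := by rw [hr', hp]; group
    have h4 : e * (r' * p * f') * e⁻¹ = (r' * p) * f := by
      calc e * (r' * p * f') * e⁻¹ = (e * (r' * p) * e⁻¹) * (e * f' * e⁻¹) := by group
        _ = (r' * p) * (e * f' * e⁻¹) := by rw [conj_eq (c2e _ (mul_mem hr'c hpc))]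
        _ = _ := by rw [hf']; group
    rw [h1, h2, h3, h4, mul_inv_cancel_right]
    exact mul_mem hr'c hpc
  have nY : n ∈ YY (K ⊔ S) X (F ⊔ cj s F) := by
    refine ⟨mul_mem (mul_mem (mul_mem eL e2L) (inv_mem eL)) (inv_mem e2L),
      mul_mem (mul_mem (mul_mem eW e2W) (inv_mem eW)) (inv_mem e2W), fun y hy => ?_, fun w hw => ?_⟩
    · obtain ⟨a, ha, b, hb, rfl⟩ := d.Xdec hy
      have h1 : n * a * n⁻¹ = a := by
        have k1 : e2⁻¹ * a = a * e2⁻¹ := comm_inv (c1e2 a ha)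
        have k2 := conj_eq (c1e2 _ (c1e' a ha))
        calc n * a * n⁻¹ = e * e2 * e⁻¹ * (e2⁻¹ * a) * e2 * e * e2⁻¹ * e⁻¹ := by rw [hn]; group
          _ = e * (e2 * (e⁻¹ * a * e) * e2⁻¹) * e⁻¹ := by rw [k1]; group
          _ = e * (e⁻¹ * a * e) * e⁻¹ := by rw [k2]
          _ = a := by group
      have h2 : n * b * n⁻¹ = b := by
        have k1 := c2e2' b hb
        have k2 : e⁻¹ * (e2⁻¹ * b * e2) = (e2⁻¹ * b * e2) * e⁻¹ := comm_inv (c2e _ k1)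
        calc n * b * n⁻¹ = e * e2 * (e⁻¹ * (e2⁻¹ * b * e2)) * e * e2⁻¹ * e⁻¹ := by rw [hn]; group
          _ = e * b * e⁻¹ := by rw [k2]; group
          _ = b := conj_eq (c2e b hb)
      have h3 : n * (a * b) * n⁻¹ = a * b := by
        calc n * (a * b) * n⁻¹ = (n * a * n⁻¹) * (n * b * n⁻¹) := by group
          _ = a * b := by rw [h1, h2]
      exact mul_inv_eq_iff_eq_mul.1 h3
    · obtain ⟨f, hf, y, hy, rfl⟩ := d.W_dec hw
      have h1 := n1c f hf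
      have h2 := n2c y hy
      have h3 : n * (f * y) * n⁻¹ * (f * y)⁻¹ = (n * f * n⁻¹ * f⁻¹) * (n * y * n⁻¹ * y⁻¹) := by
        have k1 := d.Uc f (d.FU hf) (n * y * n⁻¹ * y⁻¹) (d.FU (d.cF h2))
        calc n * (f * y) * n⁻¹ * (f * y)⁻¹ = (n * f * n⁻¹) * (n * y * n⁻¹ * y⁻¹) * f⁻¹ := by group
          _ = (n * f * n⁻¹ * f⁻¹) * (f * (n * y * n⁻¹ * y⁻¹)) * f⁻¹ := by group
          _ = (n * f * n⁻¹ * f⁻¹) * (n * y * n⁻¹ * y⁻¹) := by rw [k1]; group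
      rw [h3]
      exact mul_mem (d.c2X h1) (d.cX h2)
  obtain ⟨t, htS, htX, htW⟩ := act d.syl d.SX d.SW d.X2 nY
  have htB : t ∈ B0 := by
    rw [d.eB]
    exact ⟨htS, mem_centralizer_iff.2 fun y hy => (htX y hy).symm⟩
  -- `φ(y) = φ(y')`
  have key : ∀ y ∈ cj s F, e * y * e⁻¹ * y⁻¹ = e * (e2⁻¹ * y * e2) * e⁻¹ * (e2⁻¹ * y * e2)⁻¹ := by
    intro y hy
    have h1 : n * y * n⁻¹ * y⁻¹ ∈ cj s c := by
      rw [htW y (mem_sup_right hy)]
      exact d.comF2 htB hy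
    have h2 := d.F_inf (d.cF (n2c y hy)) h1
    rw [n2 y hy] at h2
    exact mul_inv_eq_one.1 h2
  -- `e` centralises `F^s`
  have hcen : ∀ u ∈ cj s F, e * u = u * e := by
    let ψ : cj s F → cj s F := fun y => y * ⟨e2⁻¹ * y * e2, f2e2' y y.2⟩⁻¹
    have hinj : Function.Injective ψ := by
      intro y z h
      have h0 : (y : G) * (e2⁻¹ * y * e2)⁻¹ = z * (e2⁻¹ * z * e2)⁻¹ := congrArg Subtype.val h
      set v : G := (z : G)⁻¹ * y with hv
      have hvF : v ∈ cj s F := mul_mem (inv_mem z.2) y.2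
      have h1 : e2⁻¹ * v * e2 = v := by
        have h2 : (z : G)⁻¹ * y = (e2⁻¹ * z * e2)⁻¹ * (e2⁻¹ * y * e2) := by
          calc (z : G)⁻¹ * y = (z : G)⁻¹ * (y * (e2⁻¹ * y * e2)⁻¹) * (e2⁻¹ * y * e2) := by group
            _ = (z : G)⁻¹ * (z * (e2⁻¹ * z * e2)⁻¹) * (e2⁻¹ * y * e2) := by rw [h0]
            _ = _ := by group
        rw [hv]
        calc e2⁻¹ * ((z : G)⁻¹ * y) * e2 = (e2⁻¹ * z * e2)⁻¹ * (e2⁻¹ * y * e2) := by group
          _ = _ := h2.symm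
      obtain ⟨f, hf, hvf⟩ := exists_of_mem_cj hvF
      have h3 : e * f = f * e := by
        have h4 : v * e2 = e2 * v := by
          calc v * e2 = e2 * (e2⁻¹ * v * e2) := by group
            _ = e2 * v := by rw [h1]
        rw [hvf, he2] at h4
        calc e * f = s⁻¹ * ((s * e * s⁻¹) * (s * f * s⁻¹)) * s := by group
          _ = s⁻¹ * ((s * f * s⁻¹) * (s * e * s⁻¹)) * s := by rw [h4]
          _ = f * e := by group
      have h5 := hef f hf h3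
      rw [h5] at hvf
      have h6 : (z : G)⁻¹ * y = 1 := by rw [← hv, hvf]; group
      exact Subtype.ext (inv_mul_eq_one.1 h6).symm
    have hsur : Function.Surjective ψ := Finite.surjective_of_injective hinj
    intro u hu
    obtain ⟨y, hy⟩ := hsur ⟨u, hu⟩
    have hyu : (y : G) * (e2⁻¹ * y * e2)⁻¹ = u := congrArg Subtype.val hy
    have h1 := key y y.2
    set y' := e2⁻¹ * (y : G) * e2 with hy'
    have hy'F : y' ∈ cj s F := f2e2' _ y.2
    have hc1 := d.Uc (e * y' * e⁻¹ * y'⁻¹) (d.FU (d.cF (ph y' hy'F))) _ (d.F2U y.2)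
    have h2 : e * u * e⁻¹ = u := by
      rw [← hyu]
      have h3 : e * (y : G) * e⁻¹ = (e * y * e⁻¹ * (y : G)⁻¹) * y := by group
      calc e * ((y : G) * y'⁻¹) * e⁻¹ = (e * (y : G) * e⁻¹) * (e * y' * e⁻¹)⁻¹ := by group
        _ = ((e * y' * e⁻¹ * y'⁻¹) * y) * (e * y' * e⁻¹)⁻¹ := by rw [h3, h1]
        _ = ((y : G) * (e * y' * e⁻¹ * y'⁻¹)) * (e * y' * e⁻¹)⁻¹ := by rw [hc1]
        _ = (y : G) * ((e * y' * e⁻¹ * y'⁻¹) * (e * y' * e⁻¹)⁻¹) := by group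
        _ = (y : G) * y'⁻¹ := by
          have hc2 := d.Uc (e * y' * e⁻¹) ((d.SU.trans le_rfl |> fun _ =>
            conj_mem_of_norm (d.KU heK) (d.F2U hy'F))) y'⁻¹ (inv_mem (d.F2U hy'F))
          rw [hc2]; group
    exact mul_inv_eq_iff_eq_mul.1 h2
  -- `E` centralises `F^s`
  intro g hg y hy
  obtain ⟨a, ha, w, hw, hwe, rfl⟩ := d.dec2 hx hsp hy
  have h1 := hcen _ hy
  have h2 := hwe e he
  have h3 : e * a = a * e := by
    have h4 : (e * a) * w = (a * e) * w := by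
      calc (e * a) * w = e * (a * w) := by group
        _ = a * w * e := h1
        _ = a * (w * e) := by group
        _ = a * (e * w) := by rw [h2]
        _ = (a * e) * w := by group
    exact mul_right_cancel h4
  rw [hef a (d.cF ha) h3, one_mul]
  exact hwe g hg

end T

/-! ### (F) -/

/-- **(F)**: `K` normalises `F^s`. -/
theorem K_norm [Finite G] : K ≤ normalizer ((cj s F : Subgroup G) : Set G) := by
  obtain ⟨x, hx, hxc, hsp⟩ := d.ex
  intro k hk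
  obtain ⟨e, he, p, hp, -, rfl⟩ := d.K_dec hx hxc hk
  have h1 : e ∈ normalizer ((cj s F : Subgroup G) : Set G) := mem_norm_of fun y hy => by
    rw [conj_eq (d.E_cen hx hxc hsp e he y hy)]
    exact hy
  refine mul_mem h1 (mem_norm_of fun y hy => ?_)
  have h2 := mul_mem (d.c2F2 (d.comF2 hp hy)) hy
  rwa [inv_mul_cancel_right] at h2

/-- `F ∩ F^s = 1` -/
theorem inf_eq [Finite G] {y : G} (hy : y ∈ F) (hy' : y ∈ cj s F) : y = 1 := by
  obtain ⟨x, hx, hxc, hsp⟩ := d.ex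
  obtain ⟨e, he, -, -, hef⟩ := d.tor_E hx hxc
  exact hef y hy (d.E_cen hx hxc hsp e he y hy')

/-- `⟨K, S⟩` permutes `F`, `F^s`. -/
theorem perm [Finite G] {g : G} (hg : g ∈ K ⊔ S) :
    (cj g F = F ∧ cj g (cj s F) = cj s F) ∨ (cj g F = cj s F ∧ cj g (cj s F) = F) := by
  have hK : ∀ k ∈ K, cj k F = F ∧ cj k (cj s F) = cj s F := fun k hk =>
    ⟨cj_eq_of_mem_normalizer (d.KF hk), cj_eq_of_mem_normalizer (d.K_norm hk)⟩
  have hB : ∀ k ∈ B, cj k F = F ∧ cj k (cj s F) = cj s F := fun k hk =>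
    ⟨cj_eq_of_mem_normalizer (d.BF hk), d.BF2 hk⟩
  have hs : cj s⁻¹ F = cj s F ∧ cj s⁻¹ (cj s F) = F := ⟨d.F_inv, cj_inv_cj _ _⟩
  let H : Subgroup G :=
    { carrier := {g | (cj g F = F ∧ cj g (cj s F) = cj s F) ∨ (cj g F = cj s F ∧ cj g (cj s F) = F)}
      one_mem' := Or.inl ⟨cj_one _, cj_one _⟩
      mul_mem' := by
        rintro a b (⟨a1, a2⟩ | ⟨a1, a2⟩) (⟨b1, b2⟩ | ⟨b1, b2⟩)
        · exact Or.inl ⟨by rw [← cj_cj, b1, a1], by rw [← cj_cj, b2, a2]⟩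
        · exact Or.inr ⟨by rw [← cj_cj, b1, a2], by rw [← cj_cj, b2, a1]⟩
        · exact Or.inr ⟨by rw [← cj_cj, b1, a1], by rw [← cj_cj, b2, a2]⟩
        · exact Or.inl ⟨by rw [← cj_cj, b1, a2], by rw [← cj_cj, b2, a1]⟩
      inv_mem' := by
        rintro a (⟨a1, a2⟩ | ⟨a1, a2⟩)
        · refine Or.inl ⟨?_, ?_⟩
          · have := congrArg (cj a⁻¹) a1
            rw [cj_inv_cj] at this; exact this.symm
          · have := congrArg (cj a⁻¹) a2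
            rw [cj_inv_cj] at this; exact this.symm
        · refine Or.inr ⟨?_, ?_⟩
          · have := congrArg (cj a⁻¹) a2
            rw [cj_inv_cj] at this; exact this.symm
          · have := congrArg (cj a⁻¹) a1
            rw [cj_inv_cj] at this; exact this.symm }
  have hKH : K ≤ H := fun k hk => Or.inl (hK k hk)
  have hSH : S ≤ H := by
    intro g hg
    have h1 : s⁻¹ ∈ H := Or.inr hs
    rcases d.sB g hg with h | h
    · exact Or.inl (hB g h)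
    · have h2 : s * g ∈ H := Or.inl (hB _ h)
      have h3 := mul_mem h1 h2
      rwa [inv_mul_cancel_left] at h3
  exact sup_le hKH hSH hg

/-- The lines. -/
def Ln (K c : Subgroup G) (s : G) (D : Subgroup G) : Prop :=
  (∃ k ∈ K, D = cj k c) ∨ ∃ k ∈ K, D = cj (s * k) c

theorem ln [Finite G] {g : G} (hg : g ∈ K ⊔ S) {D : Subgroup G} (hD : Ln K c s D) : Ln K c s (cj g D) := by
  obtain ⟨x, hx, hxc, hsp⟩ := d.ex
  have hK : ∀ g ∈ K, ∀ D, Ln K c s D → Ln K c s (cj g D) := by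
    rintro g hg D (⟨k, hk, rfl⟩ | ⟨k, hk, rfl⟩)
    · exact Or.inl ⟨g * k, mul_mem hg hk, cj_cj _ _ _⟩
    · obtain ⟨e, he, p, hp, -, rfl⟩ := d.K_dec hx hxc hg
      have h1 : cj (s * k) c ≤ cj s F := by
        rw [← cj_cj]
        refine cj_mono s ?_
        rw [← cj_eq_of_mem_normalizer (d.KF hk)]
        exact cj_mono k d.cF
      have h2 : cj p (cj (s * k) c) ≤ cj s F := by
        have := cj_mono p h1
        have h3 : cj p (cj s F) = cj s F := by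
          have h4 := cj_eq_of_mem_normalizer (d.K_norm (d.B0K hp))
          exact h4
        rwa [h3] at this
      have h3 : cj e (cj p (cj (s * k) c)) = cj p (cj (s * k) c) := by
        apply mem_normalizer_iff_cj.1
        exact mem_norm_of fun y hy => by
          rw [conj_eq (d.E_cen hx hxc hsp e he y (h2 hy))]
          exact hy
      rw [← cj_cj, h3, cj_cj]
      refine Or.inr ⟨s⁻¹ * p * s * k, mul_mem (d.B0K (d.sB0 d.sS hp)) hk, ?_⟩
      congr 1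
      group
  have hB : ∀ g ∈ B, ∀ D, Ln K c s D → Ln K c s (cj g D) := by
    rintro g hg D (⟨k, hk, rfl⟩ | ⟨k, hk, rfl⟩)
    · obtain ⟨k', hk', e⟩ := d.BL g hg k hk
      exact Or.inl ⟨k', hk', by rw [cj_cj, e]⟩
    · have hg' := d.B_conj hg
      obtain ⟨k', hk', e⟩ := d.BL _ hg' k hk
      refine Or.inr ⟨k', hk', ?_⟩
      rw [cj_cj]
      have e1 : g * (s * k) = s * ((s⁻¹ * g * s) * k) := by group
      rw [e1, ← cj_cj, e, cj_cj]
  have hs : ∀ D, Ln K c s D → Ln K c s (cj s D) := by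
    rintro D (⟨k, hk, rfl⟩ | ⟨k, hk, rfl⟩)
    · exact Or.inr ⟨k, hk, cj_cj _ _ _⟩
    · obtain ⟨k', hk', e⟩ := d.BL _ d.ss k hk
      refine Or.inl ⟨k', hk', ?_⟩
      rw [cj_cj, ← mul_assoc, e]
  have hs' : ∀ D, Ln K c s D → Ln K c s (cj s⁻¹ D) := by
    intro D hD
    have h1 := hs _ (hB _ (inv_mem d.ss) _ hD)
    have e : s * (s * s)⁻¹ = s⁻¹ := by group
    rwa [cj_cj, e] at h1
  let H : Subgroup G :=
    { carrier := {g | (∀ D, Ln K c s D → Ln K c s (cj g D)) ∧ ∀ D, Ln K c s D → Ln K c s (cj g⁻¹ D)}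
      one_mem' := ⟨fun D hD => by rwa [cj_one], fun D hD => by rwa [inv_one, cj_one]⟩
      mul_mem' := by
        rintro a b ⟨a1, a2⟩ ⟨b1, b2⟩
        refine ⟨fun D hD => ?_, fun D hD => ?_⟩
        · rw [← cj_cj]
          exact a1 _ (b1 _ hD)
        · rw [mul_inv_rev, ← cj_cj]
          exact b2 _ (a2 _ hD)
      inv_mem' := by
        rintro a ⟨a1, a2⟩
        exact ⟨a2, fun D hD => by rw [inv_inv]; exact a1 D hD⟩ }
  have hKH : K ≤ H := fun k hk => ⟨hK k hk, hK _ (inv_mem hk)⟩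
  have hBH : B ≤ H := fun k hk => ⟨hB k hk, hB _ (inv_mem hk)⟩
  have hSH : S ≤ H := by
    intro g hg
    have h1 : s⁻¹ ∈ H := ⟨hs', fun D hD => by rw [inv_inv]; exact hs D hD⟩
    rcases d.sB g hg with h | h
    · exact hBH h
    · have h3 := mul_mem h1 (hBH h)
      rwa [inv_mul_cancel_left] at h3
  exact (sup_le hKH hSH hg).1 D hD

/-- A line which contains an element `≠ 1` of `c` is `c`. -/
theorem line_eq [Finite G] {D : Subgroup G} (hD : Ln K c s D) {a : G} (ha : a ∈ c) (ha1 : a ≠ 1) (haD : a ∈ D) :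
    D = c := by
  rcases hD with ⟨k, hk, rfl⟩ | ⟨k, hk, rfl⟩
  · by_contra hne
    apply ha1
    refine d.F_cen (d.cF ha) fun y hy => ?_
    have h1 : K ≤ centralizer ({a} : Set G) := by
      refine d.gen k hk hne _ (fun b hb => ?_) ?_
      · rw [mem_centralizer_iff]
        intro y hy
        rw [show y = a from hy]
        exact (d.B0X hb (d.cX ha)).symm
      · rintro _ ⟨b, hb, rfl⟩
        obtain ⟨a', ha', e⟩ := exists_of_mem_cj haD
        rw [mem_centralizer_iff]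
        intro y hy
        rw [show y = a from hy]
        change a * (k * b * k⁻¹) = k * b * k⁻¹ * a
        have h2 := d.B0X hb (d.cX ha')
        rw [e]
        calc k * a' * k⁻¹ * (k * b * k⁻¹) = k * (a' * b) * k⁻¹ := by group
          _ = k * (b * a') * k⁻¹ := by rw [h2]
          _ = k * b * k⁻¹ * (k * a' * k⁻¹) := by group
    exact (mem_centralizer_iff.1 (h1 hy) a rfl).symm
  · exfalso
    apply ha1
    refine d.inf_eq (d.cF ha) ?_
    have h1 : cj (s * k) c ≤ cj s F := by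
      rw [← cj_cj]
      refine cj_mono s ?_
      rw [← cj_eq_of_mem_normalizer (d.KF hk)]
      exact cj_mono k d.cF
    exact h1 haD

/-- The same for `c^s`. -/
theorem line_eq' [Finite G] {D : Subgroup G} (hD : Ln K c s D) {a : G} (ha : a ∈ cj s c) (ha1 : a ≠ 1)
    (haD : a ∈ D) : D = cj s c := by
  have hs : s⁻¹ ∈ K ⊔ S := mem_sup_right (inv_mem d.sS)
  have h1 := d.ln hs hD
  obtain ⟨y, hy, rfl⟩ := exists_of_mem_cj ha
  have hy1 : y ≠ 1 := by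
    rintro rfl
    exact ha1 (by group)
  have h2 : y ∈ cj s⁻¹ D := by
    have := mem_cj_of (g := s⁻¹) haD
    have e : s⁻¹ * (s * y * s⁻¹) * s⁻¹⁻¹ = y := by group
    rwa [e] at this
  have h3 := d.line_eq h1 hy hy1 h2
  rw [← h3, cj_cj_inv]

/-- **(G)**: the elements of `⟨K, S⟩` which centralise `z ∈ X`, `z ≠ 1` fixed by `S`, normalise `X`. -/
theorem cz_le [Finite G] {z g : G} (hz : z ∈ X) (hz1 : z ≠ 1) (hS : ∀ t ∈ S, t * z = z * t) (hg : g ∈ K ⊔ S)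
    (hgz : g * z = z * g) : g ∈ normalizer (X : Set G) := by
  obtain ⟨a, ha, b, hb, e0⟩ := d.Xdec hz
  have haF : a ∈ F := d.cF ha
  have hbF : b ∈ cj s F := d.c2F2 hb
  -- the decomposition is unique
  have huniq : ∀ x ∈ F, ∀ y ∈ cj s F, x * y = a * b → x = a ∧ y = b := by
    intro x hx y hy h
    have h1 : a⁻¹ * x = b * y⁻¹ := by
      calc a⁻¹ * x = a⁻¹ * (x * y) * y⁻¹ := by group
        _ = a⁻¹ * (a * b) * y⁻¹ := by rw [h]
        _ = b * y⁻¹ := by group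
    have h2 := d.inf_eq (mul_mem (inv_mem haF) hx) (by rw [h1]; exact mul_mem hbF (inv_mem hy))
    have h3 : a = x := inv_mul_eq_one.1 h2
    refine ⟨h3.symm, ?_⟩
    rw [← h3] at h
    exact mul_left_cancel h
  have hab : a * b = b * a := d.Xc a (d.cX ha) b (d.c2X hb)
  -- `a, b ≠ 1`
  have hs1 : s * z * s⁻¹ = z := by rw [hS s d.sS, mul_inv_cancel_right]
  have hsa : s * a * s⁻¹ ∈ cj s F := mem_cj_of haF
  have hsb : s * b * s⁻¹ ∈ F := by
    have := mem_cj_of (g := s) hbF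
    rwa [d.ssF] at this
  have h4 : (s * b * s⁻¹) * (s * a * s⁻¹) = a * b := by
    calc (s * b * s⁻¹) * (s * a * s⁻¹) = s * (b * a) * s⁻¹ := by group
      _ = s * (a * b) * s⁻¹ := by rw [hab]
      _ = a * b := by rw [← e0, hs1]
  obtain ⟨h5, h6⟩ := huniq _ hsb _ hsa h4
  have ha1 : a ≠ 1 := by
    rintro rfl
    apply hz1
    rw [e0, ← h6]; group
  have hb1 : b ≠ 1 := by
    rintro rfl
    apply hz1
    rw [e0, ← h5]; group
  have hgz' : (g * a * g⁻¹) * (g * b * g⁻¹) = a * b := by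
    calc (g * a * g⁻¹) * (g * b * g⁻¹) = g * (a * b) * g⁻¹ := by group
      _ = a * b := by rw [← e0, hgz, mul_inv_cancel_right]
  have hc : Ln K c s c := Or.inl ⟨1, one_mem _, (cj_one _).symm⟩
  have hc2 : Ln K c s (cj s c) := Or.inr ⟨1, one_mem _, by rw [mul_one]⟩
  have l1 := d.ln hg hc
  have l2 := d.ln hg hc2
  have hfin : (cj g c = c ∧ cj g (cj s c) = cj s c) ∨ (cj g c = cj s c ∧ cj g (cj s c) = c) := by
    rcases d.perm hg with ⟨p1, p2⟩ | ⟨p1, p2⟩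
    · have k1 : g * a * g⁻¹ ∈ F := by rw [← p1]; exact mem_cj_of haF
      have k2 : g * b * g⁻¹ ∈ cj s F := by rw [← p2]; exact mem_cj_of hbF
      obtain ⟨k3, k4⟩ := huniq _ k1 _ k2 hgz'
      refine Or.inl ⟨d.line_eq l1 ha ha1 ?_, d.line_eq' l2 hb hb1 ?_⟩
      · have := mem_cj_of (g := g) ha
        rwa [k3] at this
      · have := mem_cj_of (g := g) hb
        rwa [k4] at this
    · have k1 : g * a * g⁻¹ ∈ cj s F := by rw [← p1]; exact mem_cj_of haF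
      have k2 : g * b * g⁻¹ ∈ F := by rw [← p2]; exact mem_cj_of hbF
      have k0 : (g * b * g⁻¹) * (g * a * g⁻¹) = a * b := by
        calc (g * b * g⁻¹) * (g * a * g⁻¹) = g * (b * a) * g⁻¹ := by group
          _ = g * (a * b) * g⁻¹ := by rw [hab]
          _ = (g * a * g⁻¹) * (g * b * g⁻¹) := by group
          _ = a * b := hgz'
      obtain ⟨k3, k4⟩ := huniq _ k2 _ k1 k0
      refine Or.inr ⟨d.line_eq' l1 hb hb1 ?_, d.line_eq l2 ha ha1 ?_⟩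
      · have := mem_cj_of (g := g) ha
        rwa [k4] at this
      · have := mem_cj_of (g := g) hb
        rwa [k3] at this
  refine mem_norm_of fun y hy => ?_
  obtain ⟨u, hu, v, hv, rfl⟩ := d.Xdec hy
  have e1 : g * (u * v) * g⁻¹ = (g * u * g⁻¹) * (g * v * g⁻¹) := by group
  rw [e1]
  have m1 := mem_cj_of (g := g) hu
  have m2 := mem_cj_of (g := g) hv
  rcases hfin with ⟨f1, f2⟩ | ⟨f1, f2⟩
  · rw [f1] at m1
    rw [f2] at m2
    exact mul_mem (d.cX m1) (d.c2X m2)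
  · rw [f1] at m1
    rw [f2] at m2
    exact mul_mem (d.c2X m1) (d.cX m2)

/-- `K` does not normalise `X`. -/
theorem not_le : ¬ K ≤ normalizer (X : Set G) := by
  obtain ⟨x, hx, hxc, -⟩ := d.ex
  intro h
  apply hxc
  have h1 := d.cFX
  rw [← h1, cj_inf, cj_eq_of_mem_normalizer (h hx), cj_eq_of_mem_normalizer (d.KF hx)]

end Dat

end Cfsg.Agent.Omega.OM.Lev.Low.End
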