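import Cfsg.Agent.Omega.NO3S.Level.Claim
import Cfsg.Agent.Omega.NO3S.ThmB.NatA

/-!
# TEXT LL (helper584 #20357, #20624), (5)

Blocks `(K l, V l)`, `l ∈ ι`, over a pair `(B, ZJ)`, in an elementary abelian group `U` which is generated by the
conjugates of the `V l`; a group `P ≥ B` which normalises the family `AA` of best offenders and is transitive on the
`V l`.  With `c l = [V l, B]`: a `P`-conjugate of `c m` is `c l` or is centralised by `K l`.

* `exists_move` : some smallest member of `AA` (`DM U AA`) moves `V l`;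
* `full` : `U = V l C_U(A)` for it; `comm_eq` : `[U, A] = [V l, B]`;
* `five` : **(5)**.
-/

set_option autoImplicit false
set_option linter.unusedSectionVars false

namespace Cfsg.Agent.Omega.OM.Lev.Low.Five

open Subgroup Cfsg Cfsg.Agent.ZN Cfsg.Agent.ZN.ChoiceBase
open Cfsg.Agent.Omega.SQ1.Bau (mem_sup_comm Mv)
open Cfsg.Agent.Omega.NO3b.FPB.Base (cW mem_cW cW_le)
open Cfsg.Agent.Omega.NO3S.Level.Claim (Fm Bl cB mem_cB cB_le BB)
open Cfsg.Agent.Omega.NO3S.ThmB (Fam Fr DM K1 KK card_inf_relIndex relIndex_cj le_normalizer_centralizer norm_sSup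
  cj_le_cj_iff mem_cj_of exists_of_mem_cj comm_le mem_comm)

universe u

variable {G : Type u} [Group G]

/-- The situation of (5). -/
structure Set5 {ι : Type*} (S U H B ZJ P : Subgroup G) (AA : Set (Subgroup G)) (K V : ι → Subgroup G) : Prop where
  fm : Fm S U H B ZJ AA
  bl : ∀ l, Bl S U H B ZJ AA (K l) (V l)
  U2 : IsElementaryAbelian 2 U
  BP : B ≤ P
  PU : P ≤ normalizer (U : Set G)
  PZ : P ≤ normalizer (ZJ : Set G)
  PA : ∀ A ∈ AA, ∀ g ∈ P, cj g A ∈ AA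
  tr : ∀ l m, ∃ g ∈ P, cj g (V l) = V m
  gen : ∀ C : Subgroup G, (∀ m, V m ≤ C) → P ≤ normalizer (C : Set G) →
    (∀ m, K m ≤ normalizer (C : Set G)) → U ≤ C

namespace Set5

variable {ι : Type*} {S U H B ZJ P : Subgroup G} {AA : Set (Subgroup G)} {K V : ι → Subgroup G}
  (X : Set5 S U H B ZJ P AA K V)

include X

theorem DM_conj {A : Subgroup G} (hA : A ∈ DM U AA) {g : G} (hg : g ∈ normalizer (U : Set G))
    (hA' : cj g A ∈ AA) : cj g A ∈ DM U AA := by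
  have e : cj g (centralizer (U : Set G)) = centralizer (U : Set G) := by
    rw [cj_centralizer, cj_eq_of_mem_normalizer hg]
  refine ⟨hA', fun h => hA.2.1 ?_, fun B hB hB' => ?_⟩
  · rw [← e] at h
    exact cj_le_cj_iff.1 h
  · have h1 := hA.2.2 B hB hB'
    have h2 := relIndex_cj (A := A) (C := centralizer (U : Set G)) g
    rw [e] at h2
    rwa [h2]

theorem DM_P {A : Subgroup G} (hA : A ∈ DM U AA) {g : G} (hg : g ∈ P) : cj g A ∈ DM U AA :=
  X.DM_conj hA (X.PU hg) (X.PA A hA.1 g hg)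

theorem DM_K {A : Subgroup G} (hA : A ∈ DM U AA) {l : ι} (hc : A ≤ centralizer (V l : Set G)) {h : G}
    (hh : h ∈ K l) : cj h A ∈ DM U AA :=
  X.DM_conj hA ((X.bl l).LY hh) ((X.bl l).conj_mem X.fm hA.1 (le_inf (X.fm.le A hA.1) hc) hh)

theorem exists_some [Finite G] [Nonempty ι] : ∃ A ∈ DM U AA, ∃ m, ¬ A ≤ centralizer (V m : Set G) := by
  by_contra h0
  push Not at h0
  obtain ⟨A, hA⟩ : ∃ A, A ∈ DM U AA := by
    obtain ⟨A1, hA1, hA1'⟩ := (X.bl (Classical.arbitrary ι)).off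
    have hn : ¬ A1 ≤ centralizer (U : Set G) := fun h => hA1' (le_inf (X.fm.le A1 hA1)
      (h.trans (centralizer_le (X.bl _).VY)))
    have h1 : ∃ n, ∃ A ∈ AA, ¬ A ≤ centralizer (U : Set G) ∧ (centralizer (U : Set G)).relIndex A = n :=
      ⟨_, A1, hA1, hn, rfl⟩
    classical
    obtain ⟨A, hA, hA', hn⟩ := Nat.find_spec h1
    refine ⟨A, hA, hA', fun B hB hB' => ?_⟩
    rw [hn]
    exact Nat.find_min' h1 ⟨B, hB, hB', rfl⟩
  refine hA.2.1 ?_
  have h1 : U ≤ centralizer ((sSup (DM U AA) : Subgroup G) : Set G) := by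
    refine X.gen _ (fun m => ?_) ?_ fun m => ?_
    · rw [le_centralizer_iff]
      exact sSup_le fun B hB => h0 B hB m
    · exact le_normalizer_centralizer (norm_sSup fun B hB g hg => X.DM_P hB hg)
    · exact le_normalizer_centralizer (norm_sSup fun B hB g hg => X.DM_K hB (h0 B hB m) hg)
  exact (le_sSup hA).trans (le_centralizer_iff.1 h1)

/-- Some smallest member of `AA` moves `V l`. -/
theorem exists_move [Finite G] (l : ι) : ∃ A, Fr (V l) (DM U AA) A := by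
  have : Nonempty ι := ⟨l⟩
  obtain ⟨A, hA, m, hm⟩ := X.exists_some
  obtain ⟨g, hg, e⟩ := X.tr m l
  refine ⟨cj g A, X.DM_P hA hg, fun h => hm ?_⟩
  rw [← e, ← cj_centralizer] at h
  exact cj_le_cj_iff.1 h

/-- A smallest member of `AA` which moves `V l`. -/
theorem inf_le [Finite G] {l : ι} {A : Subgroup G} (hA : Fr (V l) (DM U AA) A) :
    A ⊓ cB B (V l) ≤ centralizer (U : Set G) := by
  have hn : ¬ A ≤ cB B (V l) := fun h => hA.2 (h.trans inf_le_right)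
  obtain ⟨-, -, -, h4⟩ := (X.bl l).order X.fm (X.bl l).VY le_rfl hA.1.1 hn
  have hE := X.fm.cutW le_rfl hA.1.1 h4
  by_contra hc
  have h5 := hA.1.2.2 _ hE hc
  have e1 := card_inf_relIndex (A := A) (C := centralizer (U : Set G))
  have e2 := card_inf_relIndex (A := A ⊓ cB B (V l)) (C := centralizer (U : Set G))
  have e3 : A ⊓ cB B (V l) ⊓ centralizer (U : Set G) = A ⊓ centralizer (U : Set G) :=
    le_antisymm (inf_le_inf_right _ inf_le_left) (le_inf h4.2.1 inf_le_right)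
  rw [e3] at e2
  have h6 : Nat.card A ≤ Nat.card ↥(A ⊓ cB B (V l)) := by
    rw [← e1, ← e2]
    exact Nat.mul_le_mul_right _ h5
  exact hn (inf_eq_left.1 (eq_of_le_of_card_ge inf_le_left h6))

theorem full [Finite G] {l : ι} {A : Subgroup G} (hA : Fr (V l) (DM U AA) A) {u : G} (hu : u ∈ U) :
    ∃ v ∈ V l, ∃ c ∈ U, (∀ a ∈ A, a * c = c * a) ∧ u = v * c := by
  have hn : ¬ A ≤ cB B (V l) := fun h => hA.2 (h.trans inf_le_right)
  obtain ⟨-, -, h3, -⟩ := (X.bl l).order X.fm (X.bl l).VY le_rfl hA.1.1 hn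
  have h1 : u ∈ V l ⊔ cW U A := by
    rw [← h3]
    refine mem_cW.2 ⟨hu, fun e he => ?_⟩
    exact (mem_centralizer_iff.1 (X.inf_le hA he) u hu).symm
  obtain ⟨v, hv, c, hc, rfl⟩ := mem_sup_comm
    (fun a ha b hb => X.fm.Yc a ((X.bl l).VY ha) b (cW_le U A hb)) h1
  exact ⟨v, hv, c, cW_le U A hc, (mem_cW.1 hc).2, rfl⟩

/-- `B = A C_B(V l)`. -/
theorem dec [Finite G] {l : ι} {A : Subgroup G} (hA : Fr (V l) (DM U AA) A) {b : G} (hb : b ∈ B) :
    ∃ a ∈ A, ∃ p ∈ cB B (V l), b = a * p :=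
  ((X.bl l).order X.fm (X.bl l).VY le_rfl hA.1.1 fun h => hA.2 (h.trans inf_le_right)).2.1 b hb

theorem fam [Finite G] (l : ι) : Fam B P (K l) U (V l) (sSup AA) (DM U AA) where
  SP := X.BP
  SP' := (X.bl l).BL
  JS := sSup_le fun A hA => X.fm.le A hA
  JP := norm_sSup fun A hA g hg => X.PA A hA g hg
  DJ A hA := le_sSup hA.1
  DP A hA g hg := X.DM_P hA hg
  DP' A hA hc h hh := X.DM_K hA hc hh
  U2 := X.U2
  UP := X.PU
  UP' := (X.bl l).LY
  VU := (X.bl l).VY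
  VP' := (X.bl l).LV
  ex := X.exists_move l
  full A hA u hu := X.full hA hu
  uq A hA e he _ := by
    obtain ⟨a, ha, p, hp, rfl⟩ := X.dec hA (sSup_le (fun A hA => X.fm.le A hA) he : e ∈ B)
    refine ⟨a, ha, fun v hv => ?_⟩
    have h1 := (mem_cB.1 hp).2 v hv
    calc a * p * v * (a * p)⁻¹ = a * (p * v) * p⁻¹ * a⁻¹ := by group
      _ = a * v * a⁻¹ := by rw [h1]; group
  cJ A hA x hx e he := by
    have hx' : x ∈ ZJ := by
      have h1 : ⁅V l, A⁆ ≤ ZJ := comm_le fun v hv a ha => by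
        have h2 := (X.bl l).quad a (X.fm.le A hA.1.1 ha) v hv
        have e1 : v * a * v⁻¹ * a⁻¹ = (a * v * a⁻¹ * v⁻¹)⁻¹ := by group
        rw [e1]
        exact inv_mem h2
      exact h1 hx
    exact X.fm.BZ e (sSup_le (fun A hA => X.fm.le A hA) he : e ∈ B) x hx'

/-- `[V l, A] = [V l, B]` -/
theorem comm_eq [Finite G] {l : ι} {A : Subgroup G} (hA : Fr (V l) (DM U AA) A) : ⁅V l, A⁆ = ⁅V l, B⁆ := by
  apply le_antisymm (commutator_mono le_rfl (X.fm.le A hA.1.1))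
  refine comm_le fun v hv b hb => ?_
  obtain ⟨a, ha, p, hp, rfl⟩ := X.dec hA hb
  have h1 := (mem_cB.1 hp).2 _ (inv_mem hv)
  have e : v * (a * p) * v⁻¹ * (a * p)⁻¹ = v * a * v⁻¹ * a⁻¹ := by
    calc v * (a * p) * v⁻¹ * (a * p)⁻¹ = v * a * (p * v⁻¹) * p⁻¹ * a⁻¹ := by group
      _ = v * a * v⁻¹ * a⁻¹ := by rw [h1]; group
  rw [e]
  exact mem_comm hv ha

theorem c_le (l : ι) : ⁅V l, B⁆ ≤ ZJ := comm_le fun v hv b hb => by
  have h2 := (X.bl l).quad b hb v hv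
  have e1 : v * b * v⁻¹ * b⁻¹ = (b * v * b⁻¹ * v⁻¹)⁻¹ := by group
  rw [e1]
  exact inv_mem h2

/-- An element of `KK` which moves the line of `V l`. -/
theorem exists_KK [Finite G] (l : ι) : ∃ x ∈ KK (K l) (V l) (DM U AA), x ∈ K l ∧ Mv (V l ⊓ ZJ) x := by
  obtain ⟨A, hA⟩ := X.exists_move l
  obtain ⟨a, ha, han⟩ := SetLike.not_le_iff_exists.1 hA.2
  have haB : a ∈ B := X.fm.le A hA.1.1 ha
  have hac : a ∉ cB B (V l) := fun h => han h.2
  obtain ⟨x, hx, hm⟩ := (X.bl l).ne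
  have h1 := (X.bl l).mv x hx hm a haB hac
  have hy : x * a * x⁻¹ ∈ K l := mul_mem (mul_mem hx ((X.bl l).BL haB)) (inv_mem hx)
  have hy1 : x * a * x⁻¹ ∈ K1 (K l) (V l) (DM U AA) := subset_closure ⟨A, hA, x, hx, mem_cj_of ha⟩
  have h2 := (X.bl l).mv _ hy h1 a haB hac
  exact ⟨_, subset_closure ⟨A, hA, _, hy1, mem_cj_of ha⟩,
    mul_mem (mul_mem hy ((X.bl l).BL haB)) (inv_mem hy), h2⟩

/-- An element of `ZJ` which is centralised by `KK` is centralised by `K l`. -/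
theorem cen_of_KK [Finite G] {l : ι} {y : G} (hy : y ∈ ZJ) (hc : ∀ x ∈ KK (K l) (V l) (DM U AA), x * y = y * x) :
    ∀ x ∈ K l, x * y = y * x := by
  obtain ⟨x, hx, hxK, hm⟩ := X.exists_KK l
  have h1 := (X.bl l).inter X.fm hxK hm hy (by
    have h2 := hc x hx
    have e : x⁻¹ * y * x = y := by rw [mul_assoc, ← h2]; group
    rwa [e])
  exact fun g hg => mem_centralizer_iff.1 h1 g hg

/-- **(5)** -/
theorem five [Finite G] {g : G} (hg : g ∈ P) (l m : ι) :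
    cj g ⁅V m, B⁆ = ⁅V l, B⁆ ∨ cj g ⁅V m, B⁆ ≤ centralizer (K l : Set G) := by
  obtain ⟨g0, hg0, e0⟩ := X.tr l m
  obtain ⟨A', hA'⟩ := X.exists_move l
  have hA : Fr (V m) (DM U AA) (cj g0 A') := by
    refine ⟨X.DM_P hA'.1 hg0, fun h => hA'.2 ?_⟩
    rw [← e0, ← cj_centralizer] at h
    exact cj_le_cj_iff.1 h
  have hgg : g * g0 ∈ P := mul_mem hg hg0
  have e1 : cj g ⁅V m, B⁆ = ⁅U, cj (g * g0) A'⁆ := by
    rw [← X.comm_eq hA, (X.fam m).conj_commutator hA hg, cj_cj]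
  by_cases hV : cj (g * g0) A' ≤ centralizer (V l : Set G)
  · right
    intro x hx
    rw [mem_centralizer_iff]
    have hxZ : x ∈ ZJ := by
      obtain ⟨y, hy, rfl⟩ := exists_of_mem_cj hx
      exact (mem_normalizer_iff.1 (X.PZ hg) y).1 (X.c_le m hy)
    refine X.cen_of_KK hxZ fun k hk => ?_
    rw [e1] at hx
    exact (X.fam l).four hA' hgg hV hx hk
  · left
    have hF : Fr (V l) (DM U AA) (cj (g * g0) A') := ⟨X.DM_P hA'.1 hgg, hV⟩
    rw [e1, (X.fam l).commutator_eq hF, X.comm_eq hF]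

end Set5

end Cfsg.Agent.Omega.OM.Lev.Low.Five
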