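import Cfsg.Agent.Omega.OM.Lev.Low.YInst

/-!
# Two blocks for the same summand

* `LD.conj` : conjugation with `T`; `LD.eq2` : two blocks for the `i`-th summand centralise the same elements of `Z_J`;
* `comm_cj` : `[Wn l, K l]^t ≤ [Wn m, K m]`, `t : l → m`;
* `exists_co'` : the complements `c i ≤ [Wn i, B]`.
-/

set_option autoImplicit false
set_option linter.unusedSectionVars false

namespace Cfsg.Agent.Omega.OM.Lev.Low

open Subgroup Cfsg Cfsg.Agent.ZN Cfsg.Agent.ZN.ChoiceBase Cfsg.Agent.ZN.ChoiceSit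
open Cfsg.Agent.Omega.NatPair (ap ap_zero' ap_one' ap_one ap_mul ext2 ap_inv_ap ap_inj)
open Cfsg.Agent.Lib.SL2Mat
open Cfsg.Agent.Omega.NO3S.OneLine (NatC)
open Cfsg.Agent.Omega.NO3S.OneLine.NatC (acts_mul acts_inv acts_one acts_unique)
open Cfsg.Agent.Omega.OM.Lev.Nat (Wn mem_Wn)
open Cfsg.Agent.Omega.OM.GNat (cent_N)
open Cfsg.Agent.Omega.SQ1.Bau (elem_comm elem_sq)
open scoped commutatorElement

universe u

variable {G : Type u} [Group G] [Finite G] {F : Type} [Field F] {T H V D : Subgroup G} {k : ℕ}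
  {M : NatC F T H V D k} {B ZJ L L' : Subgroup G} {j i : Fin k}

namespace LD

/-- an element acting in the same way as `g`, `Ons M i g A` -/
theorem _root_.Cfsg.Agent.Omega.OM.Lev.Low.Ons.of_same {i : Fin k} {g g' : G}
    {A : Matrix.SpecialLinearGroup (Fin 2) F} (hg : Ons M i g A) (hg' : g' ∈ H)
    (hs : ∀ v ∈ V, g' * v * g'⁻¹ = g * v * g⁻¹) : Ons M i g' A := by
  refine Ons.of hg' (fun v hv => by rw [hs v hv, hg.e_i hv]) (fun v hv m hm => by rw [hs v hv, hg.e_m hv hm])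
    fun d hd => ?_
  have h1 := hs d (M.DV hd)
  rw [hg.2.2 d hd, mul_inv_cancel_right] at h1
  exact mul_inv_eq_iff_eq_mul.1 h1

theorem conj [CharP F 2] (h : LD M B ZJ L j) {t : G} (ht : t ∈ T) (mt : MvI M t j i) : LD M B ZJ (cj t L) i := by
  classical
  have hTH := h.TH
  have htH := hTH ht
  refine ⟨h.hm, h.BT, h.TB, h.TZ, h.el, h.cB, h.mem, fun c => h.root_i i c, ?_, ?_, ?_, ?_, ?_, ?_⟩
  · have h1 := cj_mono t h.BL
    rwa [cj_eq_of_mem_normalizer (h.TB ht)] at h1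
  · rintro _ ⟨l, hl, rfl⟩
    exact mul_mem (mul_mem htH (h.LH hl)) (inv_mem htH)
  · rintro _ ⟨l, hl, rfl⟩ d hd
    have h1 := M.Dn t⁻¹ (inv_mem htH) d hd
    rw [inv_inv] at h1
    have h2 := congrArg (fun x => t * x * t⁻¹) (h.cD l hl _ h1)
    show t * l * t⁻¹ * d = d * (t * l * t⁻¹)
    simpa [mul_assoc] using h2
  · intro A
    obtain ⟨g, hg, hg1⟩ := M.nat.lift (Pi.mulSingle i A)
    have hgO : Ons M i g A := ⟨hg, hg1⟩
    obtain ⟨A', hA'⟩ := hgO.conj (inv_mem htH) (mt.inv htH)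
    obtain ⟨l, hl, hlA⟩ := h.cov A'
    refine ⟨t * l * t⁻¹, ⟨l, hl, rfl⟩, hgO.of_same (mul_mem (mul_mem htH (h.LH hl)) (inv_mem htH)) fun v hv => ?_⟩
    have h3 := hlA.same h.hm hA' (M.Vn t⁻¹ (inv_mem htH) v hv)
    calc t * l * t⁻¹ * v * (t * l * t⁻¹)⁻¹ = t * (l * (t⁻¹ * v * t⁻¹⁻¹) * l⁻¹) * t⁻¹ := by group
      _ = t * (t⁻¹ * g * t⁻¹⁻¹ * (t⁻¹ * v * t⁻¹⁻¹) * (t⁻¹ * g * t⁻¹⁻¹)⁻¹) * t⁻¹ := by rw [h3]
      _ = _ := by group
  · rintro _ ⟨l, hl, rfl⟩ m hm v hv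
    obtain ⟨m', hm'⟩ := MvI.ex M (inv_mem htH) m
    have h1 := hm'.Li hTH (inv_mem ht) hv
    have h2 := h.LW l hl m' (fun e => by
      subst e
      have h3 := hm'.inv (inv_mem htH)
      rw [inv_inv] at h3
      exact hm (MvI.uniq h3 mt htH)) _ h1
    have h3 := congrArg (fun x => t * x * t⁻¹) h2
    show t * l * t⁻¹ * v = v * (t * l * t⁻¹)
    simpa [mul_assoc] using h3
  · intro z hz
    obtain ⟨c, hc, hcL, n, hn, e⟩ := h.split _ (h.conjZ' ht hz)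
    refine ⟨t * c * t⁻¹, h.conjZ ht hc, ?_, t * n * t⁻¹, mt.Li hTH ht hn, ?_⟩
    · rintro _ ⟨l, hl, rfl⟩
      have h2 := congrArg (fun x => t * x * t⁻¹) (hcL l hl)
      show t * l * t⁻¹ * (t * c * t⁻¹) = t * c * t⁻¹ * (t * l * t⁻¹)
      simpa [mul_assoc] using h2
    · have h2 := congrArg (fun x => t * x * t⁻¹) e
      simpa [mul_assoc] using h2

/-- **LEMMA EQ for two blocks of the `i`-th summand** -/
theorem eq2 [CharP F 2] (h : LD M B ZJ L i) (h' : LD M B ZJ L' i) {x : G} (hx : x ∈ ZJ)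
    (hc : ∀ l ∈ L, l * x = x * l) : ∀ l ∈ L', l * x = x * l := by
  obtain ⟨c, hcZ, hcL, n, hn, e0⟩ := h'.split x hx
  have hnD : n ∈ D := by
    refine Li_D hn ?_
    by_contra hne
    obtain ⟨g', hg', hgA'⟩ := h'.cov (lo 1)
    obtain ⟨g, hg, hgA⟩ := h.cov (lo 1)
    have hgg : ∀ v ∈ V, g' * v * g'⁻¹ = g * v * g⁻¹ := fun v hv => hgA'.same h.hm hgA hv
    have hgx : g * x * g⁻¹ = x := by rw [hc g hg]; group
    have hgH := h.LH hg
    have hg'H := h'.LH hg'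
    set y := g' * g⁻¹ with hy
    have hyH : y ∈ H := mul_mem hg'H (inv_mem hgH)
    have hyV : ∀ v ∈ V, y * v = v * y := by
      intro v hv
      have h3 := hgg _ (M.Vn g⁻¹ (inv_mem hgH) v hv)
      have h4 : y * v * y⁻¹ = v := by
        calc y * v * y⁻¹ = g' * (g⁻¹ * v * g⁻¹⁻¹) * g'⁻¹ := by rw [hy]; group
          _ = g * (g⁻¹ * v * g⁻¹⁻¹) * g⁻¹ := h3
          _ = v := by group
      exact mul_inv_eq_iff_eq_mul.1 h4
    set w := n⁻¹ * (g' * n * g'⁻¹) with hw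
    have hgn : g' * n * g'⁻¹ ∈ V := M.Vn g' hg'H n hn.1
    have hwV : w ∈ V := mul_mem (inv_mem hn.1) hgn
    have hyx : y * x * y⁻¹ = x * w := by
      have h3 : g' * x * g'⁻¹ = x * w := by
        rw [e0, hw]
        calc g' * (c * n) * g'⁻¹ = (g' * c) * n * g'⁻¹ := by group
          _ = (c * g') * n * g'⁻¹ := by rw [hcL g' hg']
          _ = _ := by group
      calc y * x * y⁻¹ = g' * (g⁻¹ * x * g) * g'⁻¹ := by rw [hy]; group
        _ = g' * x * g'⁻¹ := by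
          have h4 : g⁻¹ * x * g = x := by
            calc g⁻¹ * x * g = g⁻¹ * (g * x * g⁻¹) * g := by rw [hgx]
              _ = x := by group
          rw [h4]
        _ = _ := h3
    have hww : w * w = 1 := by
      have := M.Vsq w hwV
      rwa [pow_two] at this
    have hpow : ∀ m : ℕ, y ^ m * x * (y ^ m)⁻¹ = x * w ^ m := by
      intro m
      induction m with
      | zero => simp
      | succ m ih =>
        have h3 := hyV _ (pow_mem hwV m)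
        calc y ^ (m + 1) * x * (y ^ (m + 1))⁻¹ = y * (y ^ m * x * (y ^ m)⁻¹) * y⁻¹ := by rw [pow_succ']; group
          _ = y * (x * w ^ m) * y⁻¹ := by rw [ih]
          _ = (y * x * y⁻¹) * (y * w ^ m) * y⁻¹ := by group
          _ = (y * x * y⁻¹) * w ^ m := by rw [h3]; group
          _ = x * w ^ (m + 1) := by rw [hyx, pow_succ', mul_assoc]
    obtain ⟨a, m, hm1, hm2⟩ := Nat.exists_eq_two_pow_mul_odd (isOfFinOrder_of_finite y).orderOf_pos.ne'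
    have hyT : y ^ m ∈ T := by
      refine h.two_norm (pow_mem hyH m) (fun v hv => ?_) (n := a) ?_
      · have c1 : Commute y v := hyV v hv
        exact (c1.pow_left m).eq
      · rw [← pow_mul, mul_comm, ← hm2, pow_orderOf_eq_one]
    have hwm : w ^ m = w := by
      obtain ⟨r, rfl⟩ := hm1
      rw [pow_succ, pow_mul, pow_two, hww, one_pow, one_mul]
    have hwZ : w ∈ ZJ := by
      have h3 := h.conjZ hyT hx
      rw [hpow, hwm] at h3
      have h4 := mul_mem (inv_mem hx) h3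
      rwa [inv_mul_cancel_left] at h4
    have h5 := (h.mem w hwV).1 hwZ i
    rw [hw, M.nat.mul _ (inv_mem hn.1) _ hgn, Pi.add_apply, Pi.add_apply, M.map_inv hn.1, Pi.neg_apply, Pi.neg_apply,
      hgA'.e_i hn.1, ap_one', hn.2.2] at h5
    apply hne
    simpa using h5
  intro l hl
  rw [e0]
  have c1 : Commute l c := hcL l hl
  have c2 : Commute l n := h'.cD l hl n hnD
  exact (c1.mul_right c2).eq

/-- the elements of `Ni` are those centralised by any block of the `i`-th summand -/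
theorem mem_Ni_iff [CharP F 2] (h : LD M B ZJ L j) (h' : LD M B ZJ L' i) {x : G} (hx : x ∈ ZJ) :
    x ∈ Ni M ZJ L j i ↔ ∀ l ∈ L', l * x = x * l := by
  obtain ⟨t, ht, htr⟩ := M.nat.trans j i
  have mt : MvI M t j i := htr
  have hcj : (∀ l ∈ L, l * (t⁻¹ * x * t) = t⁻¹ * x * t * l) ↔ ∀ l ∈ cj t L, l * x = x * l := by
    constructor
    · rintro h1 _ ⟨l, hl, rfl⟩
      have h2 := congrArg (fun y => t * y * t⁻¹) (h1 l hl)
      show t * l * t⁻¹ * x = x * (t * l * t⁻¹)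
      simpa [mul_assoc] using h2
    · intro h1 l hl
      have h2 := congrArg (fun y => t⁻¹ * y * t) (h1 (t * l * t⁻¹) ⟨l, hl, rfl⟩)
      simpa [mul_assoc] using h2
  constructor
  · intro h1
    exact (h.conj ht mt).eq2 h' hx (hcj.1 ((mem_Ni.1 h1).2 t ht mt))
  · intro h1
    exact h.mem_Ni_of ht mt hx (hcj.2 (h'.eq2 (h.conj ht mt) hx h1))

/-- an element of a block acts on `Wn i` as an element of the block which acts only there -/
theorem exists_ons [Finite F] [CharP F 2] (h : LD M B ZJ L i) {l : G} (hl : l ∈ L) (hA : ∃ A, M.Acts l A) :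
    ∃ l' ∈ L, ∃ A, Ons M i l' A ∧ ∀ w ∈ Wn M i, l * w * l⁻¹ = l' * w * l'⁻¹ := by
  obtain ⟨A, hA⟩ := hA
  obtain ⟨l', hl', hl'A⟩ := h.cov (A i)
  refine ⟨l', hl', A i, hl'A, fun w hw => ?_⟩
  have hlH := h.LH hl
  have h1 := acts_mul (M := M) hlH (acts_inv (M := M) hl'A.1 hl'A.2.1) hA
  have h2 := cent_N M h.hm (mul_mem (inv_mem hl'A.1) hlH) h1 (fun d hd => by
    have c1 : Commute l' d := hl'A.2.2 d hd
    have c2 : Commute l d := h.cD l hl d hd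
    exact (c1.inv_left.mul_left c2).eq) (i := i) (by
      rw [Pi.mul_apply, Pi.inv_apply, Pi.mulSingle_eq_same, inv_mul_cancel]) hw.1 hw.2
  calc l * w * l⁻¹ = l' * ((l'⁻¹ * l) * w) * l⁻¹ := by group
    _ = l' * (w * (l'⁻¹ * l)) * l⁻¹ := by rw [h2]
    _ = _ := by group

/-- **the modules are permuted by `T`** -/
theorem comm_cj [Finite F] [CharP F 2] (h : LD M B ZJ L j) (hA : ∀ l ∈ L, ∃ A, M.Acts l A) (h' : LD M B ZJ L' i)
    {t : G} (ht : t ∈ T) (mt : MvI M t j i) : cj t ⁅Wn M j, L⁆ ≤ ⁅Wn M i, L'⁆ := by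
  have htH := h.TH ht
  rw [Subgroup.map_le_iff_le_comap, Subgroup.commutator_le]
  intro w hw l hl
  obtain ⟨l1, hl1, A1, hl1A, hs⟩ := h.exists_ons hl (hA l hl)
  obtain ⟨A2, hA2⟩ := hl1A.conj htH mt
  obtain ⟨l2, hl2, hl2A⟩ := h'.cov A2
  have hw' : t * w * t⁻¹ ∈ Wn M i := mt.Wn htH hw
  have hwi : w⁻¹ ∈ Wn M j := inv_mem hw
  show t * ⁅w, l⁆ * t⁻¹ ∈ ⁅Wn M i, L'⁆
  have e1 : t * ⁅w, l⁆ * t⁻¹ = ⁅t * w * t⁻¹, l2⁆ := by
    rw [commutatorElement_def, commutatorElement_def]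
    have h3 := hl2A.same h.hm hA2 (inv_mem hw').1
    have h4 := hs _ hwi
    calc t * (w * l * w⁻¹ * l⁻¹) * t⁻¹ = t * w * (l * w⁻¹ * l⁻¹) * t⁻¹ := by group
      _ = t * w * (l1 * w⁻¹ * l1⁻¹) * t⁻¹ := by rw [h4]
      _ = (t * w * t⁻¹) * (t * l1 * t⁻¹ * (t * w * t⁻¹)⁻¹ * (t * l1 * t⁻¹)⁻¹) := by group
      _ = (t * w * t⁻¹) * (l2 * (t * w * t⁻¹)⁻¹ * l2⁻¹) := by rw [h3]
      _ = _ := by group
  rw [e1]
  exact commutator_mem_commutator hw' hl2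

/-- every element of the preimage of the line is in `[Wn, B] D` -/
theorem Li_split [CharP F 2] (h : LD M B ZJ L j) {v : G} (hv : v ∈ Li M i) :
    ∃ b ∈ B, ∃ a, Ons M i b (up a) ∧ ∃ w ∈ Wn M i, ∃ d ∈ D, v = ⁅w, b⁆ * d := by
  obtain ⟨b, hb, hbA⟩ := h.root_i i (M.nat.e v i 0)
  obtain ⟨w, hw, e0⟩ := exists_vec M i ![0, 1]
  refine ⟨b, hb, _, hbA, w, hw, ⁅w, b⁆⁻¹ * v, ?_, by group⟩
  have hbw := M.Vn b hbA.1 w⁻¹ (inv_mem hw.1)
  have e1 : ⁅w, b⁆ = w * (b * w⁻¹ * b⁻¹) := by rw [commutatorElement_def]; group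
  have hcV : ⁅w, b⁆ ∈ V := by rw [e1]; exact mul_mem hw.1 hbw
  have hci : ∀ m, M.nat.e ⁅w, b⁆ m = M.nat.e w m + M.nat.e (b * w⁻¹ * b⁻¹) m := fun m => by
    rw [e1, M.nat.mul _ hw.1 _ hbw, Pi.add_apply]
  have hwi := inv_mem hw.1
  have hL : ⁅w, b⁆ ∈ Li M i := by
    refine ⟨hcV, fun m hm => ?_, ?_⟩
    · rw [hci, hbA.e_m hwi hm, M.map_inv hw.1, Pi.neg_apply, add_neg_cancel]
    · rw [hci, Pi.add_apply, hbA.e_i hwi, ap_one', M.map_inv hw.1, Pi.neg_apply, e0]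
      simp
  refine Li_D (mul_mem (inv_mem hL) hv) ?_
  rw [M.nat.mul _ (inv_mem hcV) _ hv.1, Pi.add_apply, Pi.add_apply, M.map_inv hcV, Pi.neg_apply, Pi.neg_apply, hci,
    Pi.add_apply, hbA.e_i hwi, ap_zero', M.map_inv hw.1, Pi.neg_apply, e0]
  simp [CharTwo.add_self_eq_zero]

/-- `[Li, l] ≤ [Wn, B]` for a torus element `l` -/
theorem Cl_le_comm [CharP F 2] (h : LD M B ZJ L j) {l : G} (hl : Tor M i l) : Cl M i l hl.memH ≤ ⁅Wn M i, B⁆ := by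
  rintro _ ⟨v, hv, rfl⟩
  obtain ⟨b, hb, a, hbA, w, hw, d, hd, rfl⟩ := h.Li_split (i := i) hv
  obtain ⟨A, hA, h0, h1⟩ := hl
  have hlH := hA.1
  have hwi := inv_mem hw.1
  have hlw : l * w * l⁻¹ ∈ Wn M i := ⟨M.Vn l hlH w hw.1, fun m hm => by rw [hA.e_m hw.1 hm, hw.2 m hm]⟩
  -- `l b l⁻¹`
  have hlb := (hA.mul hbA).mul hA.inv
  have hup : A * up a * A⁻¹ = up (ent (A * up a * A⁻¹) 0 1) := by
    have t1 : ent (A * up a * A⁻¹) 1 0 = 0 := by
      obtain ⟨s1, s2⟩ := mul_tri h0 (up_10 a)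
      exact (mul_tri s1 (inv_tri h0)).1
    have t2 : ent (A * up a * A⁻¹) 0 0 = 1 := by
      obtain ⟨s1, s2⟩ := mul_tri h0 (up_10 a)
      rw [(mul_tri s1 (inv_tri h0)).2, s2, up_00, mul_one, inv_00]
      exact tri_det h0
    have h11 := det_eq (A * up a * A⁻¹)
    rw [t1, t2, mul_zero, sub_zero, one_mul] at h11
    exact ext_ent (by rw [up_00, t2]) (by rw [up_01]) (by rw [up_10, t1]) (by rw [up_11, h11])
  obtain ⟨b', hb', hb'A⟩ := h.root_i i (ent (A * up a * A⁻¹) 0 1)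
  rw [← hup] at hb'A
  have h3 := hlb.same h.hm hb'A (M.Vn l hlH w⁻¹ hwi)
  have hu : l * ⁅w, b⁆ * l⁻¹ = ⁅l * w * l⁻¹, b'⁆ := by
    rw [commutatorElement_def, commutatorElement_def]
    calc l * (w * b * w⁻¹ * b⁻¹) * l⁻¹ =
        (l * w * l⁻¹) * (l * b * l⁻¹ * (l * w⁻¹ * l⁻¹) * (l * b * l⁻¹)⁻¹) := by group
      _ = (l * w * l⁻¹) * (b' * (l * w⁻¹ * l⁻¹) * b'⁻¹) := by rw [h3]
      _ = _ := by group
  have hld : l * d * l⁻¹ = d := by rw [hA.2.2 d hd]; group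
  have e : l * (⁅w, b⁆ * d) * l⁻¹ * (⁅w, b⁆ * d)⁻¹ = ⁅l * w * l⁻¹, b'⁆ * ⁅w, b⁆⁻¹ := by
    calc l * (⁅w, b⁆ * d) * l⁻¹ * (⁅w, b⁆ * d)⁻¹ = l * ⁅w, b⁆ * l⁻¹ * (l * d * l⁻¹) * d⁻¹ * ⁅w, b⁆⁻¹ := by group
      _ = _ := by rw [hld, hu]; group
  rw [e]
  exact mul_mem (commutator_mem_commutator hlw hb') (inv_mem (commutator_mem_commutator hw hb))

/-- **complements inside `[Wn, B]`** -/
theorem exists_co' [Finite F] [CharP F 2] (h : LD M B ZJ L j) : ∃ c, Co M c ∧ ∀ i, c i ≤ ⁅Wn M i, B⁆ := by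
  by_cases hF : ∀ x : F, x = 0 ∨ x = 1
  · refine ⟨_, h.co_two hF, fun i => ?_⟩
    rw [closure_le]
    rintro _ ⟨b, hb, w, hw, rfl⟩
    have h1 := inv_mem (commutator_mem_commutator (inv_mem (inv_mem hw)) hb)
    have e : ⁅w⁻¹⁻¹, b⁆⁻¹ = b * w * b⁻¹ * w⁻¹ := by rw [commutatorElement_def]; group
    rw [e] at h1
    exact h1
  · push Not at hF
    obtain ⟨a, ha0, ha1⟩ := hF
    exact ⟨_, h.co_tor ha0 ha1, fun i => iSup_le fun l => iSup_le fun hl => h.Cl_le_comm hl⟩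

/-- `[Wn l, B]` is in `Ni m`, `l ≠ m` -/
theorem comm_Ni [Finite F] [CharP F 2] (h : LD M B ZJ L j) {l m : Fin k} (hlm : l ≠ m) {v : G} (hv : v ∈ Li M l) :
    v ∈ Ni M ZJ L j m := by
  obtain ⟨t, ht, htr⟩ := M.nat.trans j m
  have mt : MvI M t j m := htr
  refine h.mem_Ni_of ht mt (h.LiZ l hv) fun l' hl' => ?_
  obtain ⟨i', hi'⟩ := MvI.ex M (inv_mem (h.TH ht)) l
  have h2 : t⁻¹ * v * t ∈ Li M i' := by
    have := hi'.Li h.TH (inv_mem ht) hv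
    rwa [inv_inv] at this
  refine h.LW l' hl' i' (fun e => hlm ?_) _ h2
  subst e
  have h3 := hi'.inv (inv_mem (h.TH ht))
  rw [inv_inv] at h3
  exact MvI.uniq h3 mt (h.TH ht)

end LD

end Cfsg.Agent.Omega.OM.Lev.Low
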