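import Cfsg.Agent.Omega.OM.Lev.Low.LowMain
import Cfsg.Agent.Omega.OM.Lev.Low.BlOf

/-!
# TORUS, `k = 2 = q` (helper109 #23071): the block of the parabolic `R` of lower stage

`(T, H)` with `GE T H X AA`, `BZ T X AA B ZJ` and **one** natural factor (`NatKM F T H (zl T H) (cv T H) 1`).

* `exists_ldp` : `exists_ld` with the block `PB` (any number of factors);
* `exists_one` : one factor: a block `K` over `B`: `PB B K (zl T H) N₁ (cv T H) |F|`, `K ≤ H ≤ ⟨T, K⟩`, `T` normalises the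
  module `⁅zl T H, K⁆`, and `YB T Z_J (Z_J ∩ C(K)) c` with `N₁ = c × cv T H`, `c ≤ ⁅zl T H, K⁆`.
-/

set_option autoImplicit false
set_option linter.unusedSectionVars false

namespace Cfsg.Agent.Omega.OM.Lev.Low.TwoBlk

open Subgroup Cfsg Cfsg.Agent.ZN Cfsg.Agent.ZN.ChoiceBase Cfsg.Agent.ZN.ChoiceSit
open Cfsg.Agent.Omega.NatPair (ap ap_zero' ap_one' ap_one ap_mul ext2 ap_inv_ap ap_inj)
open Cfsg.Agent.Lib.SL2Mat
open Cfsg.Agent.Omega.SQ1.FFOne (MinH)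
open Cfsg.Agent.Omega.NO3S.OneLine (NatC single_acts natC_of zc_elem)
open Cfsg.Agent.Omega.NO3S.OneLine.NatC (acts_mul acts_inv acts_one acts_unique)
open Cfsg.Agent.Omega.OM.Lev.Nat (Wn mem_Wn Xn mem_Xn ap_z exists_up)
open Cfsg.Agent.Omega.OM.GNat (sl2_all line_le exists_root exists_nxi)
open Cfsg.Agent.Omega.OM.GLev
open Cfsg.Agent.Omega.FFThm (NatK NatKM ActsSL)
open Cfsg.Agent.Omega.SQ1.Bau (elem_comm elem_sq)
open Cfsg.Agent.Omega.FrameFF (cv)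
open Cfsg.Agent.Omega.OM.Lev.Low

universe u

variable {G : Type u} [Group G] [Finite G]

/-- a subgroup whose conjugates act on `V` as itself: the module is normalised -/
theorem norm_comm {V K : Subgroup G} {t : G} (htV : t ∈ normalizer (V : Set G))
    (h : ∀ l ∈ K, ∃ l' ∈ K, ∀ v ∈ V, t * l * t⁻¹ * v * (t * l * t⁻¹)⁻¹ = l' * v * l'⁻¹) :
    cj t ⁅V, K⁆ ≤ ⁅V, K⁆ := by
  rw [NO3S.ThmB.cj_comm, cj_eq_of_mem_normalizer htV, commutator_le]
  rintro v hv _ ⟨l, hl, rfl⟩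
  obtain ⟨l', hl', e⟩ := h l hl
  have h1 := e v⁻¹ (inv_mem hv)
  show v * (t * l * t⁻¹) * v⁻¹ * (t * l * t⁻¹)⁻¹ ∈ _
  have e1 : v * (t * l * t⁻¹) * v⁻¹ * (t * l * t⁻¹)⁻¹ = v * (l' * v⁻¹ * l'⁻¹) := by
    rw [← h1]; group
  rw [e1]
  have h2 := commutator_mem_commutator hv hl'
  rw [commutatorElement_def] at h2
  have e2 : v * (l' * v⁻¹ * l'⁻¹) = v * l' * v⁻¹ * l'⁻¹ := by group
  rw [e2]
  exact h2

section ldp

variable {F : Type} [Field F] [Finite F] [CharP F 2] {T H X B ZJ : Subgroup G} {AA : Set (Subgroup G)} {k : ℕ}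
  (h : GE T H X AA) (b : BZ T X AA B ZJ) (N : NatKM F T H (zl T H) (cv T H) k) (hk : 0 < k)
include h b N hk

/-- **`LD` and the block `PB`** (`exists_ld` with the block) -/
theorem exists_ldp (hex : ∃ A ∈ AA, ¬ A ≤ o2 H) : ∃ L j N₁, LD (natC_of h.hm hk N.toNatK) B ZJ L j ∧
    PB B L (Wn (natC_of h.hm hk N.toNatK) j) N₁ (cv T H) (Nat.card F) ∧ H ≤ T ⊔ L ∧
    (∀ l ∈ L, ∃ A, (natC_of h.hm hk N.toNatK).Acts l A ∧ ∀ m, m ≠ j → ∃ c, A m = up c) ∧
    ∀ A : Matrix.SpecialLinearGroup (Fin 2) F, ∃ l ∈ L, ∀ v ∈ Wn (natC_of h.hm hk N.toNatK) j,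
      N.e (l * v * l⁻¹) j = ap A (N.e v j) := by
  classical
  obtain ⟨A, hA, hAQ⟩ := hex
  obtain ⟨j, hroot⟩ := exists_root h N hk hA hAQ
  obtain ⟨g, M', hM'⟩ := exists_nxi h b N hk hA hroot
  obtain ⟨L, hBL, hLX, hPB, hcov⟩ := M'.exists_pb
  set M := natC_of h.hm hk N.toNatK with hM
  have hTH := h.TH
  have hTB : T ≤ normalizer (B : Set G) := b.wn T h.hm.syl.2.1 b.BT
  have hTZ : T ≤ normalizer (ZJ : Set G) := by
    rw [← b.zcB]
    exact hTB.trans (normalizer_le_of_cj (F := zc) LemmaK.Main.zc_cj B)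
  have hAB : A ≤ B := b.A_le hA (h.fam.le A hA)
  have hLH : L ≤ H := hLX.trans fun l hl => (mem_inf.1 hl).1.1
  have hLD : ∀ l ∈ L, ∀ d ∈ cv T H, l * d = d * l := fun l hl d hd =>
    (mem_centralizer_iff.1 (mem_inf.1 (hLX hl)).2 d hd).symm
  have hmem : ∀ v ∈ zl T H, v ∈ ZJ ↔ ∀ i, M.nat.e v i 1 = 0 := fun v hv =>
    ⟨fun hvZ i => mem_line h b N hk hA hroot hTZ hv hvZ i, fun h0 => line_le h b N hk hv h0⟩
  have hrootB : ∀ c : F, ∃ b ∈ B, Ons M j b (up c) := fun c => by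
    obtain ⟨a, ha, ha1⟩ := hroot c
    exact ⟨a, hAB ha, hTH (h.fam.le A hA ha), ha1⟩
  have hupM : ∀ l ∈ L, ∃ A, M.Acts l A ∧ ∀ m, m ≠ j → ∃ c, A m = up c := fun l hl =>
    (mem_Xn M).1 (mem_inf.1 (hLX hl)).1 |>.2
  refine ⟨L, j, _, ⟨h.hm, b.BT, hTB, hTZ, ?_, fun x hx z hz => b.cB hx hz, hmem, hrootB, hBL, hLH, hLD, ?_, ?_, ?_⟩,
    hPB, GNat.le_sup h N hk hLX fun A₀ => by
      obtain ⟨l, hl, hlA⟩ := hcov A₀
      refine ⟨l, hl, fun v hv => ?_⟩
      rw [← hM', ← hM']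
      exact hlA v hv, hupM, fun A₀ => by
      obtain ⟨l, hl, hlA⟩ := hcov A₀
      refine ⟨l, hl, fun v hv => ?_⟩
      rw [← hM', ← hM']
      exact hlA v hv⟩
  · rw [← b.zcB]; exact zc_elem B
  · -- `cov`
    obtain ⟨l, hl, hl1⟩ := hcov (lo 1)
    obtain ⟨A0, hA0, hA0'⟩ := hupM l hl
    have hA0j : A0 j = lo 1 := by
      apply ap_inj
      intro x
      obtain ⟨v, hv, e⟩ := exists_vec M j x
      have h1 := hl1 v hv
      rw [hM', hM'] at h1
      have h2 : N.e (l * v * l⁻¹) j = ap (A0 j) (N.e v j) := hA0 v hv.1 j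
      have h3 : N.e v j = x := e
      rw [h2, h3] at h1
      exact h1
    have hmv : MvI M l j j := by
      intro v hv
      rw [hA0 v hv j]
      constructor
      · intro h1
        have h2 := congrArg (ap (A0 j)⁻¹) h1
        rwa [ap_inv_ap, ap_z] at h2
      · intro h1
        rw [h1, ap_z]
    obtain ⟨b1, hb1, hb1A⟩ := hrootB 1
    obtain ⟨A', hA'⟩ := hb1A.conj (hLH hl) hmv
    refine sl2_all (fun A => ∃ l ∈ L, Ons M j l A) ?_ ?_ (fun c => ?_) (A₀ := A') ?_ ?_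
    · rintro A1 A2 ⟨l1, hl1, h1⟩ ⟨l2, hl2, h2⟩
      exact ⟨l1 * l2, mul_mem hl1 hl2, h1.mul h2⟩
    · rintro A1 ⟨l1, hl1, h1⟩
      exact ⟨l1⁻¹, inv_mem hl1, h1.inv⟩
    · obtain ⟨b2, hb2, h2⟩ := hrootB c
      exact ⟨b2, hBL hb2, h2⟩
    · exact ⟨_, mul_mem (mul_mem hl (hBL hb1)) (inv_mem hl), hA'⟩
    · have h1 := acts_mul (M := M) (inv_mem (hLH hl)) (acts_mul (M := M) hb1A.1 hA0 hb1A.2.1)
        (acts_inv (M := M) (hLH hl) hA0)
      have h2 := congrFun (acts_unique (M := M) hA'.2.1 h1) j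
      rw [Pi.mulSingle_eq_same, Pi.mul_apply, Pi.mul_apply, Pi.inv_apply, Pi.mulSingle_eq_same, hA0j] at h2
      rw [h2, ent_mul, ent_mul, ent_mul, ent_inv]
      simp
  · -- `LW`
    intro l hl m hmj v hv
    have hvZ : v ∈ ZJ := (hmem v hv.1).2 fun i => by
      by_cases hi : i = m
      · subst hi; exact hv.2.2
      · rw [hv.2.1 i hi]; rfl
    have hD : ∀ l ∈ L, l * v * l⁻¹ * v⁻¹ ∈ cv T H := by
      intro l hl
      obtain ⟨A0, hA0, hA0'⟩ := hupM l hl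
      have h1 := M.Vn l (hLH hl) v hv.1
      refine (M.nat.ker _ (mul_mem h1 (inv_mem hv.1))).1 ?_
      rw [M.map_div h1 hv.1, sub_eq_zero]
      funext i
      rw [hA0 v hv.1 i]
      by_cases hi : i = j
      · subst hi
        rw [hv.2.1 i (Ne.symm hmj), ap_z]
      · obtain ⟨c, hc⟩ := hA0' i hi
        rw [hc]
        by_cases him : i = m
        · subst him
          apply ext2
          · rw [ap_zero', hv.2.2]; simp
          · rw [ap_one', hv.2.2]; simp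
        · rw [hv.2.1 i him, ap_z]
    obtain ⟨l0, hl0, hl0m⟩ := hPB.mv
    have h1 := hPB.gen l0 hl0 hl0m (centralizer {v}) (fun x hx => by
      rw [mem_centralizer_singleton_iff]
      exact b.cB hx hvZ) fun x hx => by
        rw [mem_centralizer_singleton_iff]
        have hd := hD l0⁻¹ (inv_mem hl0)
        rw [inv_inv] at hd
        have hdZ : l0⁻¹ * v * l0 * v⁻¹ ∈ ZJ := (hmem _ (M.DV hd)).2 fun i => by
          rw [D_e (M := M) hd]; rfl
        have hvd : l0⁻¹ * v * l0 ∈ ZJ := by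
          have := mul_mem hdZ hvZ
          rwa [inv_mul_cancel_right] at this
        have h2 := b.cB hx hvd
        have h3 := congrArg (fun y => l0 * y * l0⁻¹) h2
        simpa [mul_assoc] using h3
    exact mem_centralizer_singleton_iff.1 (h1 hl)
  · -- `split`
    intro z hz
    rw [← b.zcB] at hz
    obtain ⟨c, hc, hcL, n, hn, e⟩ := hPB.Z_split hz
    rw [b.zcB] at hc
    refine ⟨c, hc, hcL, n, ?_, e⟩
    have h1 := (mem_inf.1 hn).1
    exact ⟨h1.1, h1.2, (hmem n h1.1).1 (mem_inf.1 hn).2 j⟩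

end ldp

section co

variable {F : Type} [Field F] {T H V D : Subgroup G} {k : ℕ} {M : NatC F T H V D k} {B ZJ L : Subgroup G} {j : Fin k}

/-- complements with `c j ≤ [V, L]` -/
theorem exists_co_le (h : LD M B ZJ L j) [Finite F] [CharP F 2] : ∃ c, Co M c ∧ c j ≤ ⁅V, L⁆ := by
  have hmem : ∀ l ∈ L, ∀ v ∈ V, l * v * l⁻¹ * v⁻¹ ∈ ⁅V, L⁆ := by
    intro l hl v hv
    have h1 := inv_mem (commutator_mem_commutator hv hl)
    rw [commutatorElement_def] at h1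
    have e : (v * l * v⁻¹ * l⁻¹)⁻¹ = l * v * l⁻¹ * v⁻¹ := by group
    rwa [e] at h1
  by_cases hF : ∀ x : F, x = 0 ∨ x = 1
  · refine ⟨_, h.co_two hF, ?_⟩
    rw [closure_le]
    rintro _ ⟨b, hb, w, hw, rfl⟩
    exact hmem b (h.BL hb) w hw.1
  · push Not at hF
    obtain ⟨a, ha0, ha1⟩ := hF
    refine ⟨_, h.co_tor ha0 ha1, iSup_le fun l => iSup_le fun hl => ?_⟩
    obtain ⟨l', hl', hA⟩ := h.cov (dg a ha0)
    have ht : Tor M j l' := ⟨_, hA, by simp, by simpa using ha1⟩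
    refine (hl.Cl_le_Cl h ht).trans ?_
    rintro _ ⟨v, hv, rfl⟩
    exact hmem l' hl' v hv.1

end co

section main

variable {F : Type} [Field F] [Finite F] [CharP F 2] {T H X B ZJ : Subgroup G} {AA : Set (Subgroup G)}

/-- **One natural factor**, with the action of the `T`-conjugates of `K` and a torus element. -/
theorem exists_one' (h : GE T H X AA) (b : BZ T X AA B ZJ) (N : NatKM F T H (zl T H) (cv T H) 1)
    (hex : ∃ A ∈ AA, ¬ A ≤ o2 H) :
    ∃ K N₁ c, B ≤ K ∧ K ≤ H ∧ PB B K (zl T H) N₁ (cv T H) (Nat.card F) ∧ H ≤ T ⊔ K ∧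
      T ≤ normalizer ((⁅zl T H, K⁆ : Subgroup G) : Set G) ∧
      YB T ZJ (fun _ : Fin 1 => ZJ ⊓ centralizer (K : Set G)) (fun _ => c) ∧ c ≤ N₁ ∧ N₁ ≤ c ⊔ cv T H ∧
      c ⊓ cv T H = ⊥ ∧ Nat.card c = Nat.card F ∧ c ≤ ⁅zl T H, K⁆ ∧
      (∀ t ∈ T, ∀ l ∈ K, ∃ l' ∈ K, ∀ v ∈ zl T H, t * l * t⁻¹ * v * (t * l * t⁻¹)⁻¹ = l' * v * l'⁻¹) ∧
      (2 < Nat.card F → ∃ l ∈ K, (∀ v ∈ N₁, l * v * l⁻¹ ∈ N₁) ∧
        ∀ v ∈ zl T H, l * v * l⁻¹ * v⁻¹ ∈ cv T H → v ∈ cv T H) := by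
  obtain ⟨L, j, N₁, hLD, hPB, hHT, hup, hcov⟩ := exists_ldp h b N one_pos hex
  set M := natC_of h.hm one_pos N.toNatK with hM
  have hW : Wn M j = zl T H := by
    ext v
    rw [mem_Wn]
    exact ⟨fun hv => hv.1, fun hv => ⟨hv, fun i hi => absurd (Subsingleton.elim i j) hi⟩⟩
  rw [hW] at hPB hcov
  have hTH := h.TH
  obtain ⟨c, hc, hcV⟩ := exists_co_le hLD
  have hy := hLD.yb_aux hc fun i s hs t ht hsm htm => cyc_line h.hm N one_pos hs hsm ht htm
  have hZB : zc B = ZJ := b.zcB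
  have hN1 : ∀ v, v ∈ N₁ ↔ v ∈ Li M j := by
    intro v
    constructor
    · intro hv
      have hvV := hPB.N1N hv
      have h1 := (BlOf.line_iff hPB hvV).1 hv
      rw [hZB] at h1
      exact ⟨hvV, fun i hi => absurd (Subsingleton.elim i j) hi, (hLD.mem v hvV).1 h1 j⟩
    · intro hv
      have h1 := hLD.LiZ j hv
      rw [← hZB] at h1
      exact (BlOf.line_iff hPB hv.1).2 h1
  have hNi : ∀ i, Ni M ZJ L j i = ZJ ⊓ centralizer (L : Set G) := by
    intro i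
    rw [Subsingleton.elim i j]
    ext x
    constructor
    · intro hx
      obtain ⟨hxZ, hx'⟩ := mem_Ni.1 hx
      refine mem_inf.2 ⟨hxZ, mem_centralizer_iff.2 fun l hl => ?_⟩
      have h1 := hx' 1 (one_mem _) (MvI.one j) l hl
      simpa using h1
    · intro hx
      obtain ⟨hxZ, hx'⟩ := mem_inf.1 hx
      refine hLD.mem_Ni_of (one_mem _) (MvI.one j) hxZ fun l hl => ?_
      simpa using mem_centralizer_iff.1 hx' l hl
  have hci : ∀ i, c i = c j := fun i => by rw [Subsingleton.elim i j]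
  have hy' : YB T ZJ (fun _ : Fin 1 => ZJ ⊓ centralizer (L : Set G)) (fun _ => c j) := by
    have e1 : (fun _ : Fin 1 => ZJ ⊓ centralizer (L : Set G)) = Ni M ZJ L j := funext fun i => (hNi i).symm
    have e2 : (fun _ : Fin 1 => c j) = c := funext fun i => (hci i).symm
    rw [e1, e2]
    exact hy
  have hle : c j ≤ N₁ := fun v hv => (hN1 v).2 (hc.le j hv)
  have hdis : c j ⊓ cv T H = ⊥ := by
    rw [eq_bot_iff]
    rintro v ⟨hv, hv'⟩
    exact mem_bot.2 (hc.dis j v hv hv')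
  have hsup : N₁ ≤ c j ⊔ cv T H := by
    intro v hv
    obtain ⟨a, ha, d, hd, rfl⟩ := hc.cov j v ((hN1 v).1 hv)
    exact mul_mem (mem_sup_left ha) (mem_sup_right hd)
  have hact : ∀ t ∈ T, ∀ l ∈ L, ∃ l' ∈ L, ∀ v ∈ zl T H, t * l * t⁻¹ * v * (t * l * t⁻¹)⁻¹ = l' * v * l'⁻¹ := by
    -- `t l t⁻¹` acts as some `l' ∈ L`
    intro t ht l hl
    obtain ⟨A₁, hA₁, -⟩ := hup l hl
    obtain ⟨A₂, hA₂⟩ := N.norm t (hTH ht) l (hLD.LH hl) A₁ hA₁
    obtain ⟨l', hl', hl'A⟩ := hcov (A₂ j)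
    refine ⟨l', hl', fun v hv => ?_⟩
    have hl'' : M.Acts l' A₂ := by
      intro w hw i
      rw [Subsingleton.elim i j]
      exact hl'A w hw
    have htl : t * l * t⁻¹ ∈ H := mul_mem (mul_mem (hTH ht) (hLD.LH hl)) (inv_mem (hTH ht))
    have hs : l'⁻¹ * (t * l * t⁻¹) ∈ M.stab := by
      refine ⟨mul_mem (inv_mem (hLD.LH hl')) htl, ?_, fun d hd => ?_⟩
      · have h1 := acts_mul (M := M) htl (acts_inv (M := M) (hLD.LH hl') hl'') hA₂
        rwa [inv_mul_cancel] at h1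
      · have h1 : Commute l' d := hLD.cD l' hl' d hd
        have h2 : Commute (t * l * t⁻¹) d := by
          have hd' : t⁻¹ * d * t ∈ cv T H := by
            have := M.Dn t⁻¹ (inv_mem (hTH ht)) d hd
            rwa [inv_inv] at this
          have h3 := hLD.cD l hl _ hd'
          show t * l * t⁻¹ * d = d * (t * l * t⁻¹)
          calc t * l * t⁻¹ * d = t * (l * (t⁻¹ * d * t)) * t⁻¹ := by group
            _ = t * (t⁻¹ * d * t * l) * t⁻¹ := by rw [h3]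
            _ = _ := by group
        exact (h1.inv_left.mul_left h2).eq
    have h3 := M.cent_of_stab h.hm hs hv
    have e : t * l * t⁻¹ = l' * (l'⁻¹ * (t * l * t⁻¹)) := by group
    rw [e]
    set s := l'⁻¹ * (t * l * t⁻¹)
    calc l' * s * v * (l' * s)⁻¹ = l' * (s * v * s⁻¹) * l'⁻¹ := by group
      _ = l' * v * l'⁻¹ := by rw [h3]; group
  refine ⟨L, N₁, c j, hLD.BL, hLD.LH, hPB, hHT, fun t ht => mem_normalizer_of_cj_le (norm_comm ?_ (hact t ht)), hy',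
    hle, hsup, hdis, ?_, hcV, hact, fun hF => ?_⟩
  · exact MinSimple.VModule.le_normalizer_zl T H (hTH ht)
  · -- `|c| = |F|`
    have hc1 : ∀ a ∈ c j, ∀ d ∈ cv T H, a * d = d * a := fun a ha d hd =>
      M.Vcomm (hc.le j ha).1 (M.DV hd)
    have h1 := Cfsg.Agent.Omega.SQ1.Bau.card_sup_comm hc1
    have e : c j ⊔ cv T H = N₁ := le_antisymm (sup_le hle hPB.N01) hsup
    rw [e, hdis, Subgroup.card_bot, mul_one, hPB.card1, mul_comm (Nat.card (c j))] at h1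
    exact (Nat.eq_of_mul_eq_mul_left Nat.card_pos h1).symm
  · -- the torus element
    obtain ⟨a, ha0, ha1⟩ : ∃ a : F, a ≠ 0 ∧ a ≠ 1 := by
      by_contra hcon
      push Not at hcon
      have h1 : (Set.univ : Set F) ⊆ {0, 1} := fun x _ => by
        by_cases hx : x = 0
        · exact Or.inl hx
        · exact Or.inr (hcon x hx)
      have h2 := Set.ncard_le_ncard h1 (Set.toFinite _)
      rw [Set.ncard_univ] at h2
      have h3 : ({0, 1} : Set F).ncard ≤ 2 := Set.ncard_insert_le _ _ |>.trans (by simp)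
      omega
    obtain ⟨l, hl, hA⟩ := hLD.cov (dg a ha0)
    refine ⟨l, hl, fun v hv => ?_, fun v hv hd => ?_⟩
    · rw [hN1] at hv ⊢
      exact (hA.Li (by simp) hv).1
    · have h1 := D_e (M := M) hd
      have hlv : l * v * l⁻¹ ∈ zl T H := M.Vn l (hLD.LH hl) v hv
      rw [M.map_div hlv hv, sub_eq_zero] at h1
      have h2 : M.nat.e (l * v * l⁻¹) j = ap (dg a ha0) (M.nat.e v j) := hA.e_i hv
      rw [h1] at h2
      have h3 := congrFun h2 0
      have h4 := congrFun h2 1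
      rw [ap_zero'] at h3
      rw [ap_one'] at h4
      simp only [dg_00, dg_01, dg_10, dg_11, zero_mul, add_zero, zero_add] at h3 h4
      refine (M.nat.ker v hv).1 ?_
      funext i
      rw [Subsingleton.elim i j]
      apply ext2
      · show M.nat.e v j 0 = 0
        have h5 : (a - 1) * M.nat.e v j 0 = 0 := by rw [sub_mul, one_mul, ← h3, sub_self]
        exact (mul_eq_zero.1 h5).resolve_left (sub_ne_zero.2 ha1)
      · show M.nat.e v j 1 = 0
        have h5 : (a⁻¹ - 1) * M.nat.e v j 1 = 0 := by rw [sub_mul, one_mul, ← h4, sub_self]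
        exact (mul_eq_zero.1 h5).resolve_left (sub_ne_zero.2 fun e => ha1 (inv_eq_one.1 e))

/-- **One natural factor.** -/
theorem exists_one (h : GE T H X AA) (b : BZ T X AA B ZJ) (N : NatKM F T H (zl T H) (cv T H) 1)
    (hex : ∃ A ∈ AA, ¬ A ≤ o2 H) :
    ∃ K N₁ c, B ≤ K ∧ K ≤ H ∧ PB B K (zl T H) N₁ (cv T H) (Nat.card F) ∧ H ≤ T ⊔ K ∧
      T ≤ normalizer ((⁅zl T H, K⁆ : Subgroup G) : Set G) ∧
      YB T ZJ (fun _ : Fin 1 => ZJ ⊓ centralizer (K : Set G)) (fun _ => c) ∧ c ≤ N₁ ∧ N₁ ≤ c ⊔ cv T H ∧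
      c ⊓ cv T H = ⊥ ∧ Nat.card c = Nat.card F ∧ c ≤ ⁅zl T H, K⁆ := by
  obtain ⟨K, N₁, c, h1, h2, h3, h4, h5, h6, h7, h8, h9, h10, h11, -, -⟩ := exists_one' h b N hex
  exact ⟨K, N₁, c, h1, h2, h3, h4, h5, h6, h7, h8, h9, h10, h11⟩

end main

end Cfsg.Agent.Omega.OM.Lev.Low.TwoBlk
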