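import Cfsg.Agent.Omega.OM.Lev.Low.Sub
import Cfsg.Agent.Omega.OM.Lev.Low.YKInst
import Cfsg.Agent.Omega.OM.Lev.Low.TwoBlk

/-!
# TORUS, `q = 2`: (B) over `Inp` and `OutN`

* `Inp.lin` : (B) over `Inp`;
* `OutN.lin`, `OutN.cardF` : over `OutN`: `Q` fixes all `l`, `|c l| = 4`, `c l ≤ V_P`, `|F| = 4`;
* `sub_one` : `YB.Sub` for one natural factor and a complement `c` as in `TwoBlk.exists_one`.
-/

set_option autoImplicit false
set_option linter.unusedSectionVars false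

namespace Cfsg.Agent.Omega.OM.Lev.Low

open Subgroup Cfsg Cfsg.Agent.ZN.ChoiceBase Cfsg.Agent.ZN.ChoiceSit
open Cfsg.Agent.ZN (jj zj bau zc zl o2)
open Cfsg.Agent.Omega.SQ1.FFOne (MinH)
open Cfsg.Agent.Omega.NO3S.OneLine (NatC natC_of)
open Cfsg.Agent.Omega.OM.Lev.Nat (Wn mem_Wn)
open Cfsg.Agent.Omega.OM.GLev
open Cfsg.Agent.Omega.FFThm (NatKM)
open Cfsg.Agent.Omega.FrameFF (cv)
open Cfsg.Agent.Omega.OM.SwapL (Ln ZL)
open Cfsg.Agent.Omega.NO3S.Level (lev)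

universe u

variable {G : Type u} [Group G] [Finite G]

/-- **(B) over `Inp`** -/
theorem Inp.lin {ι Λ : Type} [Finite ι] [Finite Λ] {S : Sylow 2 G} {P : Subgroup G} {n : ℕ}
    {L W Z C A : ι → Subgroup G} {T Y : Subgroup G} {j : ℕ} {K E N c : Λ → Subgroup G}
    (h : Inp S P n L W Z C A T Y j K E N c) (hs : YB.Sub T N c) (hZ : ∃ l, ¬ zc T ≤ N l) (l : Λ) :
    (∀ q ∈ o2 P, Mv N c q l l) ∧ Nat.card (c l) = 4 ∧ c l ≤ zl (S : Subgroup G) P :=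
  lin_V h.ln h.syl.2.1 h.BT h.jn h.yk.yb h.yk.tr hs hZ (fun m => h.wide hZ m) l

/-- **(B) over `OutN`** -/
theorem OutN.lin {ι : Type} [Finite ι] {S : Sylow 2 G} {P : Subgroup G} {n : ℕ} {L W Z C A : ι → Subgroup G}
    {T Y : Subgroup G} {j : ℕ} {F : Type} [Field F] [Finite F] [CharP F 2] {k : ℕ} {hm : MinH Y T} {hk : 0 < k}
    {N : NatKM F T Y (zl T Y) (cv T Y) k} {K Nn c : Fin k → Subgroup G}
    (h : OutN S P n L W Z C A T Y j (natC_of hm hk N.toNatK) K Nn c) (l : Fin k) :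
    (∀ q ∈ o2 P, Mv Nn c q l l) ∧ Nat.card (c l) = 4 ∧ c l ≤ zl (S : Subgroup G) P :=
  h.inp.lin (sub_of_co hm N hk h.nb.co h.inp.yk.yb) ⟨l, h.zT l⟩ l

theorem OutN.cardF {ι : Type} [Finite ι] {S : Sylow 2 G} {P : Subgroup G} {n : ℕ} {L W Z C A : ι → Subgroup G}
    {T Y : Subgroup G} {j : ℕ} {F : Type} [Field F] [Finite F] [CharP F 2] {k : ℕ} {hm : MinH Y T} {hk : 0 < k}
    {N : NatKM F T Y (zl T Y) (cv T Y) k} {K Nn c : Fin k → Subgroup G}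
    (h : OutN S P n L W Z C A T Y j (natC_of hm hk N.toNatK) K Nn c) : Nat.card F = 4 := by
  have h1 := (h.lin ⟨0, hk⟩).2.1
  rwa [h.nb.co.card] at h1

/-- **`YB.Sub` for one natural factor** -/
theorem sub_one {F : Type} [Field F] [Finite F] [CharP F 2] {T H X B ZJ : Subgroup G} {AA : Set (Subgroup G)}
    (h : GE T H X AA) (b : BZ T X AA B ZJ) (N : NatKM F T H (zl T H) (cv T H) 1) (hex : ∃ A ∈ AA, ¬ A ≤ o2 H)
    {K N₁ Nc c : Subgroup G} (hpb : PB B K (zl T H) N₁ (cv T H) (Nat.card F))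
    (hy : YB T ZJ (fun _ : Fin 1 => Nc) (fun _ => c)) (hc1 : c ≤ N₁) (hc2 : N₁ ≤ c ⊔ cv T H) (hc3 : c ⊓ cv T H = ⊥) :
    YB.Sub T (fun _ : Fin 1 => Nc) (fun _ => c) := by
  obtain ⟨L, j, N₁', hLD, -, -, -, -⟩ := TwoBlk.exists_ldp h b N one_pos hex
  set M := natC_of h.hm one_pos N.toNatK with hM
  have hZB : zc B = ZJ := b.zcB
  have hN1 : ∀ i, ∀ v, v ∈ N₁ ↔ v ∈ Li M i := by
    intro i v
    constructor
    · intro hv
      have hvV := hpb.N1N hv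
      have h1 := (BlOf.line_iff hpb hvV).1 hv
      rw [hZB] at h1
      exact ⟨hvV, fun i' hi => absurd (Subsingleton.elim i' i) hi, (hLD.mem v hvV).1 h1 i⟩
    · intro hv
      have h1 := hLD.LiZ i hv
      rw [← hZB] at h1
      exact (BlOf.line_iff hpb hv.1).2 h1
  have hco : Co M (fun _ : Fin 1 => c) := by
    refine ⟨fun i v hv => (hN1 i v).1 (hc1 hv), fun i v hv hvD => ?_, fun i v hv => ?_, fun t ht i m _ => ?_⟩
    · have h1 : v ∈ c ⊓ cv T H := ⟨hv, hvD⟩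
      rw [hc3, mem_bot] at h1
      exact h1
    · obtain ⟨a, ha, d, hd, e⟩ := SQ1.Bau.mem_sup_comm
        (fun a ha d hd => M.Vcomm (hpb.N1N (hc1 ha)) (M.DV hd)) (hc2 ((hN1 i v).2 hv))
      exact ⟨a, ha, d, hd, e⟩
    · obtain ⟨m', hm'⟩ := hy.perm t ht i
      exact hm'.2
  exact sub_of_co h.hm N one_pos hco hy

end Cfsg.Agent.Omega.OM.Lev.Low
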