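import Cfsg.Agent.Omega.OM.Lev.Low.Data
import Cfsg.Agent.Omega.NO3S.OneLine.LevAbs
import Cfsg.Agent.Omega.Half.Blocks

/-!
# LEMMA M (helper109 #23071 (A)): a smallest best offender which moves a line moves only this line

`YB T X N c` and a family `AA` of best offenders of `T` on `X`.  If `A ∈ AA` does not centralise `c l` and `A / C_A(X)` is
as small as possible, then `A` fixes `l`, `|c l : C_{c l}(A)| = 2` and `A` centralises all `c l'`, `l' ≠ l`.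

* `hyp` : hyperplanes: `y ∈ C_X(A₃) ∖ C_X(A)`, `|A : A₃| = 2`;
* `minA` : the lemma.
-/

set_option autoImplicit false
set_option linter.unusedSectionVars false

namespace Cfsg.Agent.Omega.OM.Lev.Low

open Subgroup Cfsg Cfsg.Agent.ZN.ChoiceBase
open Cfsg.Agent.Omega.NO3S.OneLine (BFam)
open Cfsg.Agent.Omega.FFThm (ElemM)
open Cfsg.Agent.Omega.Half (exists_index_two mul_mem_of_index_two)
open scoped Pointwise

universe u

variable {G : Type u} [Group G] {Λ : Type*}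

/-- `A` commutes with `Y` -/
def Cen (A Y : Subgroup G) : Prop := ∀ a ∈ A, ∀ y ∈ Y, a * y = y * a

theorem Cen.of_sup {A B X Y : Subgroup G} (h : Cen A Y) (hY : Y ≤ X)
    (hB : B ≤ A ⊔ centralizer (X : Set G)) : Cen B Y := by
  have h1 : A ⊔ centralizer (X : Set G) ≤ centralizer (Y : Set G) :=
    sup_le (fun a ha => mem_centralizer_iff.2 fun y hy => (h a ha y hy).symm) (centralizer_le hY)
  exact fun b hb y hy => (mem_centralizer_iff.1 (h1 (hB hb)) y hy).symm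

section hyp

variable [Finite G] {T X L A : Subgroup G} {AA : Set (Subgroup G)}

/-- Hyperplanes of a best offender. -/
theorem hyp (h : BFam T X L AA) (sq : ∀ x ∈ X, x ^ 2 = 1) (hA : A ∈ AA) {A₃ : Subgroup G}
    (h1 : A ⊓ centralizer (X : Set G) ≤ A₃) (h2 : A₃ ≤ A) (h3 : A₃.relIndex A = 2) {y : G} (hy : y ∈ X)
    (hy3 : ∀ a ∈ A₃, a * y = y * a) (hyA : ¬ ∀ a ∈ A, a * y = y * a) :
    (∃ B ∈ AA, B ⊔ centralizer (X : Set G) = A₃ ⊔ centralizer (X : Set G)) ∧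
      ∀ y' ∈ X, (∀ a ∈ A₃, a * y' = y' * a) → (¬ ∀ a ∈ A, a * y' = y' * a) → ∀ a ∈ A, a * (y * y') = y * y' * a := by
  have hle : X ⊓ centralizer (A : Set G) ≤ X ⊓ centralizer (A₃ : Set G) := inf_le_inf_left _ (centralizer_le h2)
  have mem : ∀ {B : Subgroup G} {x : G}, x ∈ X ⊓ centralizer (B : Set G) ↔ x ∈ X ∧ ∀ b ∈ B, b * x = x * b :=
    fun {B x} => by rw [mem_inf, mem_centralizer_iff]; rfl
  have hcA : Nat.card A = 2 * Nat.card A₃ := by
    have e := Subgroup.card_mul_index (A₃.subgroupOf A)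
    rw [Nat.card_congr (subgroupOfEquivOfLe h2).toEquiv] at e
    rw [← e, mul_comm]
    congr 1
  have hrel : (X ⊓ centralizer (A : Set G)).relIndex (X ⊓ centralizer (A₃ : Set G)) *
      Nat.card ↥(X ⊓ centralizer (A : Set G)) = Nat.card ↥(X ⊓ centralizer (A₃ : Set G)) := by
    have e := Subgroup.card_mul_index ((X ⊓ centralizer (A : Set G)).subgroupOf (X ⊓ centralizer (A₃ : Set G)))
    rw [Nat.card_congr (subgroupOfEquivOfLe hle).toEquiv] at e
    rw [← e, mul_comm]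
    rfl
  have hb := h.best A hA A₃ h1 h2
  have hp3 : 0 < Nat.card A₃ := Nat.card_pos
  have hpc : 0 < Nat.card ↥(X ⊓ centralizer (A : Set G)) := Nat.card_pos
  have hne : (X ⊓ centralizer (A : Set G)).relIndex (X ⊓ centralizer (A₃ : Set G)) ≠ 1 := by
    intro e
    rw [relIndex_eq_one] at e
    exact hyA (mem.1 (e (mem.2 ⟨hy, hy3⟩))).2
  have hne0 : (X ⊓ centralizer (A : Set G)).relIndex (X ⊓ centralizer (A₃ : Set G)) ≠ 0 := by
    intro e
    rw [e, zero_mul] at hrel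
    exact absurd hrel.symm (Nat.card_pos).ne'
  have hle2 : (X ⊓ centralizer (A : Set G)).relIndex (X ⊓ centralizer (A₃ : Set G)) ≤ 2 := by
    rw [hcA, ← hrel] at hb
    by_contra hcon
    push Not at hcon
    have h5 : Nat.card A₃ * (2 * Nat.card ↥(X ⊓ centralizer (A : Set G))) <
        Nat.card A₃ * ((X ⊓ centralizer (A : Set G)).relIndex (X ⊓ centralizer (A₃ : Set G)) *
          Nat.card ↥(X ⊓ centralizer (A : Set G))) :=
      Nat.mul_lt_mul_of_pos_left (Nat.mul_lt_mul_of_pos_right hcon hpc) hp3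
    have e : Nat.card A₃ * (2 * Nat.card ↥(X ⊓ centralizer (A : Set G))) =
        2 * Nat.card A₃ * Nat.card ↥(X ⊓ centralizer (A : Set G)) := by ring
    rw [e] at h5
    exact absurd hb (not_le.2 h5)
  have h2' : (X ⊓ centralizer (A : Set G)).relIndex (X ⊓ centralizer (A₃ : Set G)) = 2 := by omega
  refine ⟨h.cut A hA A₃ h1 h2 ?_, fun y' hy' hy3' hyA' a ha => ?_⟩
  · rw [← hrel, h2', hcA]; ring
  · have h6 := mul_mem_of_index_two h2' (mem.2 ⟨hy, hy3⟩) (mem.2 ⟨hy', hy3'⟩)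
    have h7 : y * y' ∈ X ⊓ centralizer (A : Set G) :=
      h6.2 ⟨fun h8 => absurd (mem.1 h8).2 hyA, fun h8 => absurd (mem.1 h8).2 hyA'⟩
    exact (mem.1 h7).2 a ha

/-- the measure of a proper subgroup -/
theorem meas (hX : T ≤ normalizer (X : Set G)) (hAT : A ≤ T) {A₃ : Subgroup G}
    (h1 : A ⊓ centralizer (X : Set G) ≤ A₃) (h2 : A₃ ≤ A) (hne : ¬ A ≤ A₃) :
    Nat.card ↥(A₃ ⊔ centralizer (X : Set G)) < Nat.card ↥(A ⊔ centralizer (X : Set G)) := by
  have hle : A₃ ⊔ centralizer (X : Set G) ≤ A ⊔ centralizer (X : Set G) := sup_le_sup_right h2 _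
  refine lt_of_le_of_ne (Subgroup.card_le_of_le hle) fun e => hne ?_
  have e1 := Subgroup.eq_of_le_of_card_ge hle e.ge
  intro a ha
  have h3 : a ∈ A₃ ⊔ centralizer (X : Set G) := by rw [e1]; exact mem_sup_left ha
  have hn : A₃ ≤ normalizer (centralizer (X : Set G) : Set G) := by
    intro b hb
    have h4 := hX (hAT (h2 hb))
    refine mem_normalizer_of_cj_le ?_
    rw [cj_centralizer, cj_eq_of_mem_normalizer h4]
  have h4 : a ∈ (A₃ : Set G) * (centralizer (X : Set G) : Set G) := by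
    rw [← Subgroup.coe_mul_of_left_le_normalizer_right _ _ hn]
    exact h3
  obtain ⟨b, hb, c, hc, rfl⟩ := Set.mem_mul.1 h4
  have h5 : c ∈ A := by
    have h6 := mul_mem (inv_mem (h2 hb)) ha
    rwa [inv_mul_cancel_left] at h6
  exact mul_mem hb (h1 (mem_inf.2 ⟨h5, hc⟩))

end hyp

namespace YB

variable {T X L A : Subgroup G} {N c : Λ → Subgroup G} {AA : Set (Subgroup G)}

theorem mono_T (h : YB T X N c) {T' : Subgroup G} (hT : T' ≤ T) : YB T' X N c where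
  ab := h.ab
  sq := h.sq
  norm := hT.trans h.norm
  cX := h.cX
  ne := h.ne
  fix := h.fix
  triv := h.triv
  comm := h.comm
  perm t ht := h.perm t (hT ht)
  cyc l s hs t ht := h.cyc l s (hT hs) t (hT ht)

/-- restriction to a smaller `X` -/
theorem mono_X (h : YB T X N c) {X' : Subgroup G} (hX : X' ≤ X) (hn : T ≤ normalizer (X' : Set G))
    (hc : ∀ l, c l ≤ X') : YB T X' N c where
  ab x hx y hy := h.ab x (hX hx) y (hX hy)
  sq x hx := h.sq x (hX hx)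
  norm := hn
  cX := hc
  ne := h.ne
  fix l x hx := h.fix l x (hX hx)
  triv := h.triv
  comm := h.comm
  perm := h.perm
  cyc := h.cyc

/-- two equal lines -/
theorem line_inj (h : YB T X N c) {l m : Λ} (e : c l = c m) : l = m := by
  by_contra hne
  have h1 := h.comm l m hne
  have h2 := h.triv m
  rw [inf_eq_left.2 (e ▸ h1)] at h2
  exact h.ne m h2

/-- an element which centralises `c l` fixes `l` -/
theorem mv_of_cen [Finite G] (h : YB T X N c) {t : G} (ht : t ∈ T) {l : Λ} (hc : ∀ x ∈ c l, t * x = x * t) : Mv N c t l l := by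
  obtain ⟨m, hm⟩ := h.perm t ht l
  have h1 : cj t (c l) = c l := by
    refine cj_eq_of_mem_normalizer (mem_normalizer_of_cj_le ?_)
    rintro _ ⟨x, hx, rfl⟩
    show t * x * t⁻¹ ∈ c l
    rw [hc x hx, mul_inv_cancel_right]
    exact hx
  have h2 := h.line_inj (h1.symm.trans hm.2)
  rwa [← h2] at hm

/-- the stabiliser of `l` in `A` -/
def stab (N c : Λ → Subgroup G) (A : Subgroup G) (l : Λ) : Subgroup G where
  carrier := {a | a ∈ A ∧ Mv N c a l l}
  one_mem' := ⟨one_mem _, Mv.one l⟩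
  mul_mem' := fun ha hb => ⟨mul_mem ha.1 hb.1, ha.2.mul hb.2⟩
  inv_mem' := fun ha => ⟨inv_mem ha.1, ha.2.inv⟩

variable [Finite G] [Finite Λ]

/-- a hyperplane of `A` over the stabiliser of `l` -/
theorem hyperB (h : YB T X N c) (hf : BFam T X L AA) (h2 : IsPGroup 2 T) (hA : A ∈ AA) {l : Λ}
    (hl : ¬ ∀ a ∈ A, Mv N c a l l) : ∃ A₃ : Subgroup G, A ⊓ centralizer (X : Set G) ≤ A₃ ∧ A₃ ≤ A ∧
      A₃.relIndex A = 2 ∧ (∀ a ∈ A, Mv N c a l l → a ∈ A₃) ∧ ∃ y ∈ X, (∀ a ∈ A₃, a * y = y * a) ∧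
        (¬ ∀ a ∈ A, a * y = y * a) ∧ ∀ m, m ≠ l → (∀ a ∈ A, Mv N c a m m) → y ∈ N m := by
  have hAT := hf.le A hA
  have hYA : YB A X N c := h.mono_T hAT
  have hcs : A ⊓ centralizer (X : Set G) ≤ stab N c A l := fun a ha =>
    ⟨ha.1, h.mv_of_cen (hAT ha.1) fun x hx => (mem_centralizer_iff.1 ha.2 x (h.cX l hx)).symm⟩
  obtain ⟨A₃, h3, h4, h5⟩ := exists_index_two (h2.to_le hAT) (A := stab N c A l) (fun a ha => ha.1)
    fun hle => hl fun a ha => (hle ha).2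
  have hc3 := hcs.trans h3
  have hst : ∀ a ∈ A, Mv N c a l l → a ∈ A₃ := fun a ha hm => h3 ⟨ha, hm⟩
  have hQV : QV A X A₃ (X ⊓ centralizer (A₃ : Set G)) := by
    refine ⟨h4, fun a ha => ?_, fun x => ?_, h2.to_le hAT⟩
    · refine mem_normalizer_of_cj_le ?_
      rintro _ ⟨q, hq, rfl⟩
      show a * q * a⁻¹ ∈ A₃
      have h6 : a * q * a⁻¹ * q⁻¹ ∈ A₃ := hc3 (mem_inf.2
        ⟨mul_mem (mul_mem (mul_mem ha (h4 hq)) (inv_mem ha)) (inv_mem (h4 hq)), (hf.elem A hA).comm a ha q (h4 hq)⟩)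
      have h7 := mul_mem h6 hq
      rwa [inv_mul_cancel_right] at h7
    · rw [mem_inf, mem_centralizer_iff]; rfl
  obtain ⟨y, hyV, hyC, hyl⟩ := hYA.exists_single hQV l
  obtain ⟨hyX, hy3⟩ := (hQV.mem y).1 hyV
  obtain ⟨a, ha, ha3⟩ : ∃ a ∈ A, a ∉ A₃ := by
    by_contra hcon
    push Not at hcon
    have h6 : A₃.relIndex A = 1 := relIndex_eq_one.2 hcon
    omega
  refine ⟨A₃, hc3, h4, h5, hst, y, hyX, hy3, fun hcom => ?_, fun m hml hm => ?_⟩
  · have h6 : a * y * a⁻¹ ∈ Cp c {m' | ∃ l' ∈ Orb A₃ N c l, Mv N c a l' m'} := by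
      refine hYA.Cp_conj ha (p := Orb A₃ N c l) (fun l' hl' m hm => ?_) hyC
      exact ⟨l', hl', hm⟩
    rw [hcom a ha, mul_inv_cancel_right] at h6
    refine hyl (h.Cp_cen ?_ h6)
    rintro ⟨l', ⟨q, hq, hql⟩, hal⟩
    have h7 := hst (a * q) (mul_mem ha (h4 hq)) (hal.mul hql)
    have h8 := mul_mem h7 (inv_mem hq)
    rw [mul_inv_cancel_right] at h8
    exact ha3 h8
  · refine h.Cp_cen ?_ hyC
    rintro ⟨q, hq, hqm⟩
    exact hml (h.uniq' (hm q (h4 hq)) hqm)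

omit [Finite Λ] in
/-- the hyperplane `C_A(c l)` -/
theorem hyperA (h : YB T X N c) (hf : BFam T X L AA) (hA : A ∈ AA) {l : Λ} (hl : ∀ a ∈ A, Mv N c a l l)
    (hc : ¬ Cen A (c l)) : A ⊓ centralizer (X : Set G) ≤ A ⊓ centralizer (c l : Set G) ∧
      (A ⊓ centralizer (c l : Set G)).relIndex A = 2 ∧ ∃ y ∈ c l, ¬ ∀ a ∈ A, a * y = y * a := by
  have hAT := hf.le A hA
  have hE := hf.elem A hA
  have hle : A ⊓ centralizer (X : Set G) ≤ A ⊓ centralizer (c l : Set G) :=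
    inf_le_inf_left _ (centralizer_le (h.cX l))
  set A₁ := A ⊓ centralizer (c l : Set G) with hA₁
  have mem1 : ∀ {a}, a ∈ A → ((∀ x ∈ c l, a * x = x * a) ↔ a ∈ A₁) := fun {a} ha => by
    rw [hA₁, mem_inf, mem_centralizer_iff]
    exact ⟨fun h1 => ⟨ha, fun x hx => (h1 x hx).symm⟩, fun h1 x hx => (h1.2 x hx).symm⟩
  have hpw : ∀ t ∈ A, ∀ n : ℕ, t ^ n ∈ A₁ ∨ ∃ b ∈ A₁, t ^ n = t * b := by
    intro t ht n
    have h1 : ∀ m : ℕ, (t ^ 2) ^ m ∈ A₁ := fun m =>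
      pow_mem (hle (mem_inf.2 ⟨pow_mem ht 2, hE.sq t ht⟩)) m
    rcases Nat.even_or_odd' n with ⟨m, rfl | rfl⟩
    · left
      rw [pow_mul]
      exact h1 m
    · right
      exact ⟨_, h1 m, by rw [pow_succ', pow_mul]⟩
  have key : ∀ s ∈ A, ∀ t ∈ A, s ∉ A₁ → t ∉ A₁ → s * t ∈ A₁ := by
    have aux : ∀ s ∈ A, ∀ t ∈ A, s ∉ A₁ → ∀ n : ℕ, (∀ x ∈ c l, s * t ^ n * x = x * (s * t ^ n)) → s * t ∈ A₁ := by
      intro s hs t ht hs1 n hn
      have h3 := (mem1 (mul_mem hs (pow_mem ht n))).1 hn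
      rcases hpw t ht n with h4 | ⟨b, hb, h4⟩
      · exact absurd ((A₁.mul_mem_cancel_right h4).1 h3) hs1
      · rw [h4, ← mul_assoc] at h3
        exact (A₁.mul_mem_cancel_right hb).1 h3
    intro s hs t ht hs1 ht1
    obtain ⟨n, hn | hn⟩ := h.cyc l s (hAT hs) t (hAT ht) (hl s hs) (hl t ht)
    · exact aux s hs t ht hs1 n hn
    · have h3 := aux t ht s hs ht1 n hn
      have h4 : s * t * (t * s)⁻¹ ∈ A₁ := by
        have e : s * t * (t * s)⁻¹ = s * t * s⁻¹ * t⁻¹ := by group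
        rw [e]
        exact hle (mem_inf.2 ⟨mul_mem (mul_mem (mul_mem hs ht) (inv_mem hs)) (inv_mem ht), hE.comm s hs t ht⟩)
      have h5 := mul_mem h4 h3
      rwa [inv_mul_cancel_right] at h5
  obtain ⟨a, ha, ha1⟩ : ∃ a ∈ A, a ∉ A₁ := by
    by_contra hcon
    push Not at hcon
    exact hc fun a ha => (mem1 ha).2 (hcon a ha)
  refine ⟨hle, ?_, ?_⟩
  · show (A₁.subgroupOf A).index = 2
    rw [Subgroup.index_eq_two_iff]
    refine ⟨⟨a, ha⟩, fun ⟨b, hb⟩ => ?_⟩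
    rw [mem_subgroupOf, mem_subgroupOf]
    show Xor (b * a ∈ A₁) (b ∈ A₁)
    by_cases hb1 : b ∈ A₁
    · exact Or.inr ⟨hb1, fun h3 => ha1 ((A₁.mul_mem_cancel_left hb1).1 h3)⟩
    · exact Or.inl ⟨key b hb a ha hb1 ha1, hb1⟩
  · by_contra hcon
    push Not at hcon
    exact hc fun a ha y hy => hcon y hy a ha

/-- a subgroup commutes with `c l` if a smaller one of the family is equal to it modulo `C(X)` -/
theorem cen_of_small (h : YB T X N c) (hf : BFam T X L AA) (hA : A ∈ AA) {l : Λ}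
    (hmin : ∀ B ∈ AA, ¬ Cen B (c l) →
      Nat.card ↥(A ⊔ centralizer (X : Set G)) ≤ Nat.card ↥(B ⊔ centralizer (X : Set G)))
    {A₃ : Subgroup G} (h1 : A ⊓ centralizer (X : Set G) ≤ A₃) (h2 : A₃ ≤ A) (h3 : A₃.relIndex A = 2)
    (hex : ∃ B ∈ AA, B ⊔ centralizer (X : Set G) = A₃ ⊔ centralizer (X : Set G)) : Cen A₃ (c l) := by
  obtain ⟨B, hB, e⟩ := hex
  have h4 : Cen B (c l) := by
    by_contra hcon
    have h5 := hmin B hB hcon
    rw [e] at h5
    refine absurd h5 (not_le.2 (meas h.norm (hf.le A hA) h1 h2 fun hle => ?_))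
    have h6 : A₃.relIndex A = 1 := relIndex_eq_one.2 hle
    omega
  exact h4.of_sup (h.cX l) (e ▸ le_sup_left)

/-- **LEMMA M** -/
theorem minA (h : YB T X N c) (hf : BFam T X L AA) (h2 : IsPGroup 2 T) (hA : A ∈ AA) {l : Λ}
    (h4 : 2 < Nat.card (c l)) (hc : ¬ Cen A (c l))
    (hmin : ∀ B ∈ AA, ¬ Cen B (c l) →
      Nat.card ↥(A ⊔ centralizer (X : Set G)) ≤ Nat.card ↥(B ⊔ centralizer (X : Set G))) :
    (∀ a ∈ A, Mv N c a l l) ∧ (c l ⊓ centralizer (A : Set G)).relIndex (c l) = 2 ∧ ∀ m, m ≠ l → Cen A (c m) := by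
  have hAT := hf.le A hA
  have hl : ∀ a ∈ A, Mv N c a l l := by
    by_contra hl
    obtain ⟨A₃, h1, h3, h5, hst, y, hyX, hy3, hyA, -⟩ := h.hyperB hf h2 hA hl
    obtain ⟨hex, -⟩ := hyp hf h.sq hA h1 h3 h5 hyX hy3 hyA
    have h6 := h.cen_of_small hf hA hmin h1 h3 h5 hex
    obtain ⟨a, ha, ha3⟩ : ∃ a ∈ A, a ∉ A₃ := by
      by_contra hcon
      push Not at hcon
      have h6 : A₃.relIndex A = 1 := relIndex_eq_one.2 hcon
      omega
    obtain ⟨m, hm⟩ := h.perm a (hAT ha) l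
    have hml : l ≠ m := fun e => ha3 (hst a ha (by rw [← e] at hm; exact hm))
    have hmv : ∀ x ∈ c l, x ≠ 1 → ¬ ∀ b ∈ A, b * x = x * b := by
      intro x hx hx1 hcom
      have h7 : a * x * a⁻¹ ∈ c m := by rw [← hm.2]; exact ⟨x, hx, rfl⟩
      rw [hcom a ha, mul_inv_cancel_right] at h7
      have h8 : x ∈ c l ⊓ N l := ⟨hx, h.comm m l (Ne.symm hml) h7⟩
      rw [h.triv l, mem_bot] at h8
      exact hx1 h8
    -- two different elements of `c l`
    obtain ⟨x, hx, hx1⟩ : ∃ x ∈ c l, x ≠ 1 := by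
      by_contra hcon
      push Not at hcon
      exact h.ne l ((eq_bot_iff_forall _).2 hcon)
    have hall : ∀ x' ∈ c l, x' = 1 ∨ x' = x := by
      intro x' hx'
      by_contra hcon
      push Not at hcon
      obtain ⟨-, h9⟩ := hyp hf h.sq hA h1 h3 h5 (h.cX l hx) (fun b hb => h6 b hb x hx) (hmv x hx hx1)
      have h10 := h9 x' (h.cX l hx') (fun b hb => h6 b hb x' hx') (hmv x' hx' hcon.1)
      by_cases hxx : x * x' = 1
      · refine hcon.2 ?_
        rw [eq_inv_of_mul_eq_one_right hxx, h.inv_eq (h.cX l hx)]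
      · exact hmv (x * x') (mul_mem hx hx') hxx h10
    have h11 : Nat.card (c l) ≤ 2 := by
      have h12 : ((c l : Set G)).ncard ≤ ({1, x} : Set G).ncard :=
        Set.ncard_le_ncard (fun x' hx' => by
          rcases hall x' hx' with e | e
          · exact Or.inl e
          · exact Or.inr e) (Set.toFinite _)
      refine h12.trans ((Set.ncard_insert_le _ _).trans ?_)
      rw [Set.ncard_singleton]
    omega
  obtain ⟨h1, h3, y, hy, hyA⟩ := h.hyperA hf hA hl hc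
  have hy3 : ∀ x ∈ c l, ∀ a ∈ A ⊓ centralizer (c l : Set G), a * x = x * a := fun x hx a ha =>
    (mem_centralizer_iff.1 ha.2 x hx).symm
  obtain ⟨-, h5⟩ := hyp hf h.sq hA h1 inf_le_left h3 (h.cX l hy) (hy3 y hy) hyA
  refine ⟨hl, ?_, fun m hml => ?_⟩
  · have memc : ∀ {x}, x ∈ c l → ((∀ a ∈ A, a * x = x * a) ↔ x ∈ c l ⊓ centralizer (A : Set G)) := fun {x} hx => by
      rw [mem_inf, mem_centralizer_iff]
      exact ⟨fun h6 => ⟨hx, fun a ha => h6 a ha⟩, fun h6 a ha => h6.2 a ha⟩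
    show ((c l ⊓ centralizer (A : Set G)).subgroupOf (c l)).index = 2
    rw [Subgroup.index_eq_two_iff]
    refine ⟨⟨y, hy⟩, fun ⟨x, hx⟩ => ?_⟩
    rw [mem_subgroupOf, mem_subgroupOf]
    show Xor (x * y ∈ c l ⊓ centralizer (A : Set G)) (x ∈ c l ⊓ centralizer (A : Set G))
    by_cases hxc : x ∈ c l ⊓ centralizer (A : Set G)
    · refine Or.inr ⟨hxc, fun h6 => hyA ((memc hy).2 ?_)⟩
      exact ((c l ⊓ centralizer (A : Set G)).mul_mem_cancel_left hxc).1 h6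
    · refine Or.inl ⟨?_, hxc⟩
      rw [← memc (mul_mem hx hy), h.cm (h.cX l hx) (h.cX l hy)]
      exact h5 x (h.cX l hx) (hy3 x hx) fun h6 => hxc ((memc hx).1 h6)
  · by_contra hcm
    obtain ⟨A₃, k1, k2, k3, z, hzX, hz3, hzA, hzl⟩ : ∃ A₃ : Subgroup G, A ⊓ centralizer (X : Set G) ≤ A₃ ∧ A₃ ≤ A ∧
        A₃.relIndex A = 2 ∧ ∃ z ∈ X, (∀ a ∈ A₃, a * z = z * a) ∧ (¬ ∀ a ∈ A, a * z = z * a) ∧ z ∈ N l := by
      by_cases hm : ∀ a ∈ A, Mv N c a m m
      · obtain ⟨k1, k3, z, hz, hzA⟩ := h.hyperA hf hA hm hcm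
        exact ⟨_, k1, inf_le_left, k3, z, h.cX m hz, fun a ha => (mem_centralizer_iff.1 ha.2 z hz).symm, hzA,
          h.comm m l hml hz⟩
      · obtain ⟨A₃, k1, k2, k3, -, z, hzX, hz3, hzA, hzl⟩ := h.hyperB hf h2 hA hm
        exact ⟨A₃, k1, k2, k3, z, hzX, hz3, hzA, hzl l (Ne.symm hml) hl⟩
    obtain ⟨hex, k5⟩ := hyp hf h.sq hA k1 k2 k3 hzX hz3 hzA
    have k6 := h.cen_of_small hf hA hmin k1 k2 k3 hex
    have k7 := k5 y (h.cX l hy) (fun a ha => k6 a ha y hy) hyA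
    apply hyA
    intro a ha
    have k8 := k7 a ha
    -- `y^a y⁻¹ = z (z^a)⁻¹ ∈ c l ∩ N l`
    have hayX := h.memX (hAT ha) (h.cX l hy)
    have hazX := h.memX (hAT ha) hzX
    have k9 : (a * y * a⁻¹) * y⁻¹ = (a * z * a⁻¹)⁻¹ * z := by
      have e1 : (a * z * a⁻¹) * (a * y * a⁻¹) = z * y := by
        calc (a * z * a⁻¹) * (a * y * a⁻¹) = a * (z * y) * a⁻¹ := by group
          _ = z * y := by rw [k8, mul_inv_cancel_right]
      calc (a * y * a⁻¹) * y⁻¹ = (a * z * a⁻¹)⁻¹ * ((a * z * a⁻¹) * (a * y * a⁻¹)) * y⁻¹ := by group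
        _ = (a * z * a⁻¹)⁻¹ * z := by rw [e1]; group
    have k10 : (a * y * a⁻¹) * y⁻¹ ∈ c l := by
      refine mul_mem ?_ (inv_mem hy)
      rw [← (hl a ha).2]
      exact ⟨y, hy, rfl⟩
    have k11 : (a * y * a⁻¹) * y⁻¹ ∈ N l := by
      rw [k9]
      exact mul_mem (inv_mem ((hl a ha).cen.2 hzl)) hzl
    have k12 : (a * y * a⁻¹) * y⁻¹ ∈ c l ⊓ N l := ⟨k10, k11⟩
    rw [h.triv l, mem_bot, mul_inv_eq_one] at k12
    exact mul_inv_eq_iff_eq_mul.1 k12

end YB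

end Cfsg.Agent.Omega.OM.Lev.Low
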