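import Cfsg.Agent.Omega.OM.Lev.GNat

/-!
# `V / D` a sum of natural modules: how `T` moves the summands

`M : NatC F T H V D k`.

* `MvI M t i m` : `t` moves the `i`-th summand to the `m`-th;
* `Ons M i g A` : `g ∈ H` acts as `A ∈ SL₂(F)` on the `i`-th summand, trivially on the other ones, and on `D`;
* `Ons.conj` : `t ∈ H` conjugates such an element to one for `m`;
* `Li M i` : the preimage of the `i`-th line.
-/

set_option autoImplicit false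
set_option linter.unusedSectionVars false

namespace Cfsg.Agent.Omega.OM.Lev.Low

open Subgroup Cfsg Cfsg.Agent.ZN Cfsg.Agent.ZN.ChoiceBase Cfsg.Agent.ZN.ChoiceSit
open Cfsg.Agent.Omega.NatPair (ap ap_zero' ap_one' ap_one ap_mul ext2 ap_inv_ap ap_inj)
open Cfsg.Agent.Lib.SL2Mat
open Cfsg.Agent.Omega.SQ1.FFOne (MinH)
open Cfsg.Agent.Omega.NO3S.OneLine (NatC)
open Cfsg.Agent.Omega.NO3S.OneLine.NatC (acts_mul acts_inv acts_one acts_unique)
open Cfsg.Agent.Omega.OM.Lev.Nat (Wn mem_Wn ap_z)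
open Cfsg.Agent.Omega.FFThm (NatK ActsSL)

universe u

variable {G : Type u} [Group G] [Finite G] {F : Type} [Field F] {T H V D : Subgroup G} {k : ℕ}

/-- `t` moves the `i`-th summand to the `m`-th. -/
def MvI (M : NatC F T H V D k) (t : G) (i m : Fin k) : Prop := ∀ v ∈ V, M.nat.e (t * v * t⁻¹) m = 0 ↔ M.nat.e v i = 0

/-- `g` acts as `A` on the `i`-th summand, trivially on the others and on `D`. -/
def Ons (M : NatC F T H V D k) (i : Fin k) (g : G) (A : Matrix.SpecialLinearGroup (Fin 2) F) : Prop :=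
  g ∈ H ∧ ActsSL M.nat.e V D g (Pi.mulSingle i A)

/-- the preimage of the `i`-th line -/
def Li (M : NatC F T H V D k) (i : Fin k) : Subgroup G where
  carrier := {v | v ∈ V ∧ (∀ j, j ≠ i → M.nat.e v j = 0) ∧ M.nat.e v i 1 = 0}
  mul_mem' := by
    rintro a b ⟨ha, ha', ha1⟩ ⟨hb, hb', hb1⟩
    refine ⟨mul_mem ha hb, fun j hj => by rw [M.nat.mul a ha b hb, Pi.add_apply, ha' j hj, hb' j hj, add_zero], ?_⟩
    rw [M.nat.mul a ha b hb, Pi.add_apply, Pi.add_apply, ha1, hb1, add_zero]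
  one_mem' := ⟨one_mem _, fun j _ => by rw [M.map_one]; rfl, by rw [M.map_one]; rfl⟩
  inv_mem' := by
    rintro a ⟨ha, ha', ha1⟩
    refine ⟨inv_mem ha, fun j hj => by rw [M.map_inv ha, Pi.neg_apply, ha' j hj, neg_zero], ?_⟩
    rw [M.map_inv ha, Pi.neg_apply, Pi.neg_apply, ha1, neg_zero]

variable {M : NatC F T H V D k}

theorem mem_Li {i : Fin k} {v : G} : v ∈ Li M i ↔ v ∈ V ∧ (∀ j, j ≠ i → M.nat.e v j = 0) ∧ M.nat.e v i 1 = 0 := Iff.rfl

theorem Li_le_Wn (i : Fin k) : Li M i ≤ Wn M i := fun _ hv => ⟨hv.1, hv.2.1⟩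

theorem D_le_Li (i : Fin k) : D ≤ Li M i := fun d hd => by
  have h1 : M.nat.e d = 0 := (M.nat.ker d (M.DV hd)).2 hd
  exact ⟨M.DV hd, fun j _ => by rw [h1]; rfl, by rw [h1]; rfl⟩

/-- an element of the line with vanishing coordinate lies in `D` -/
theorem Li_D {i : Fin k} {v : G} (hv : v ∈ Li M i) (h0 : M.nat.e v i 0 = 0) : v ∈ D := by
  refine (M.nat.ker v hv.1).1 (funext fun j => ?_)
  by_cases hj : j = i
  · subst hj; exact ext2 h0 hv.2.2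
  · exact hv.2.1 j hj

theorem D_e {d : G} (hd : d ∈ D) : M.nat.e d = 0 := (M.nat.ker d (M.DV hd)).2 hd

/-- an element supported on `i` with given coordinates -/
theorem exists_vec (M : NatC F T H V D k) (i : Fin k) (x : Fin 2 → F) : ∃ v ∈ Wn M i, M.nat.e v i = x := by
  classical
  obtain ⟨v, hv, e⟩ := M.nat.surj (Function.update 0 i x)
  refine ⟨v, ⟨hv, fun j hj => ?_⟩, by rw [e, Function.update_self]⟩
  rw [e, Function.update_of_ne hj]; rfl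

theorem exists_line (M : NatC F T H V D k) (i : Fin k) (a : F) : ∃ v ∈ Li M i, M.nat.e v i 0 = a := by
  obtain ⟨v, hv, e⟩ := exists_vec M i ![a, 0]
  exact ⟨v, ⟨hv.1, hv.2, by rw [e]; rfl⟩, by rw [e]; rfl⟩

namespace MvI

theorem ex (M : NatC F T H V D k) {t : G} (ht : t ∈ H) (i : Fin k) : ∃ m, MvI M t i m := by
  obtain ⟨σ, hσ⟩ := M.nat.perm t ht
  exact ⟨σ i, fun v hv => hσ v hv i⟩

theorem one (i : Fin k) : MvI M 1 i i := fun v _ => by rw [one_mul, inv_one, mul_one]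

theorem mul {s t : G} (ht : t ∈ H) {i m n : Fin k} (h1 : MvI M s m n) (h2 : MvI M t i m) : MvI M (s * t) i n := by
  intro v hv
  have e : s * t * v * (s * t)⁻¹ = s * (t * v * t⁻¹) * s⁻¹ := by group
  rw [e, h1 _ (M.Vn t ht v hv), h2 v hv]

theorem inv {t : G} (ht : t ∈ H) {i m : Fin k} (h : MvI M t i m) : MvI M t⁻¹ m i := by
  intro v hv
  have h1 := h _ (M.Vn t⁻¹ (inv_mem ht) v hv)
  have e : t * (t⁻¹ * v * t⁻¹⁻¹) * t⁻¹ = v := by group
  rw [e] at h1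
  exact h1.symm

theorem pow {t : G} (ht : t ∈ H) {i : Fin k} (h : MvI M t i i) (n : ℕ) : MvI M (t ^ n) i i := by
  induction n with
  | zero => rw [pow_zero]; exact one i
  | succ n ih => rw [pow_succ]; exact ih.mul ht h

theorem uniq {t : G} {i m m' : Fin k} (h1 : MvI M t i m) (h2 : MvI M t i m') (ht : t ∈ H) : m = m' := by
  by_contra hne
  obtain ⟨v, hv, e⟩ := exists_vec M m ![1, 0]
  have e1 : t * (t⁻¹ * v * t⁻¹⁻¹) * t⁻¹ = v := by group
  have h3 := h1 _ (M.Vn t⁻¹ (inv_mem ht) v hv.1)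
  have h4 := h2 _ (M.Vn t⁻¹ (inv_mem ht) v hv.1)
  rw [e1] at h3 h4
  have h5 := h3.2 (h4.1 (hv.2 m' (Ne.symm hne)))
  rw [e] at h5
  have := congrFun h5 0
  simp at this

theorem uniq' {t : G} {i i' m : Fin k} (h1 : MvI M t i m) (h2 : MvI M t i' m) (ht : t ∈ H) : i = i' :=
  uniq (h1.inv ht) (h2.inv ht) (inv_mem ht)

theorem Wn {t : G} {i m : Fin k} (h : MvI M t i m) (ht : t ∈ H) {v : G} (hv : v ∈ Wn M i) :
    t * v * t⁻¹ ∈ Nat.Wn M m := by
  refine ⟨M.Vn t ht v hv.1, fun j hj => ?_⟩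
  obtain ⟨i', hi'⟩ := ex M (inv_mem ht) j
  have h1 := hi'.inv (inv_mem ht)
  rw [inv_inv] at h1
  refine (h1 v hv.1).2 (hv.2 i' fun e => hj ?_)
  subst e
  exact uniq h1 h ht

theorem line {t : G} {i m : Fin k} (h : MvI M t i m) (hT : T ≤ H) (ht : t ∈ T) {v : G} (hv : v ∈ V) :
    M.nat.e (t * v * t⁻¹) m 1 = 0 ↔ M.nat.e v i 1 = 0 := by
  obtain ⟨τ, hτ⟩ := M.nat.line t ht
  have h1 : τ i = m := by
    by_contra hne
    obtain ⟨w, hw, e⟩ := exists_vec M i ![0, 1]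
    have h2 := ((h.Wn (hT ht) hw).2 (τ i) hne)
    have h3 := (hτ w hw.1 i).1 (by rw [h2]; rfl)
    rw [e] at h3
    simp at h3
  rw [← h1]
  exact hτ v hv i

theorem Li {t : G} {i m : Fin k} (h : MvI M t i m) (hT : T ≤ H) (ht : t ∈ T) {v : G} (hv : v ∈ Li M i) :
    t * v * t⁻¹ ∈ Low.Li M m := by
  have h1 := h.Wn (hT ht) (Li_le_Wn i hv)
  exact ⟨h1.1, h1.2, (h.line hT ht hv.1).2 hv.2.2⟩

theorem Li_iff {t : G} {i m : Fin k} (h : MvI M t i m) (hT : T ≤ H) (ht : t ∈ T) {v : G} :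
    t * v * t⁻¹ ∈ Low.Li M m ↔ v ∈ Low.Li M i := by
  refine ⟨fun h1 => ?_, h.Li hT ht⟩
  have h2 := (h.inv (hT ht)).Li hT (inv_mem ht) h1
  have e : t⁻¹ * (t * v * t⁻¹) * t⁻¹⁻¹ = v := by group
  rwa [e] at h2

end MvI

namespace Ons

variable {i : Fin k} {g g' : G} {A A' : Matrix.SpecialLinearGroup (Fin 2) F}

theorem e_i (h : Ons M i g A) {v : G} (hv : v ∈ V) : M.nat.e (g * v * g⁻¹) i = ap A (M.nat.e v i) := by
  rw [h.2.1 v hv i, Pi.mulSingle_eq_same]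

theorem e_m (h : Ons M i g A) {v : G} (hv : v ∈ V) {m : Fin k} (hm : m ≠ i) :
    M.nat.e (g * v * g⁻¹) m = M.nat.e v m := by
  rw [h.2.1 v hv m, Pi.mulSingle_eq_of_ne hm, ap_one]

theorem of (hg : g ∈ H) (h1 : ∀ v ∈ V, M.nat.e (g * v * g⁻¹) i = ap A (M.nat.e v i))
    (h2 : ∀ v ∈ V, ∀ m, m ≠ i → M.nat.e (g * v * g⁻¹) m = M.nat.e v m) (h3 : ∀ d ∈ D, g * d = d * g) :
    Ons M i g A := by
  refine ⟨hg, fun v hv m => ?_, h3⟩
  by_cases hm : m = i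
  · subst hm; rw [Pi.mulSingle_eq_same, h1 v hv]
  · rw [Pi.mulSingle_eq_of_ne hm, ap_one, h2 v hv m hm]

theorem mul (h : Ons M i g A) (h' : Ons M i g' A') : Ons M i (g * g') (A * A') := by
  refine of (mul_mem h.1 h'.1) (fun v hv => ?_) (fun v hv m hm => ?_) fun d hd => ?_
  · have e : g * g' * v * (g * g')⁻¹ = g * (g' * v * g'⁻¹) * g⁻¹ := by group
    rw [e, h.e_i (M.Vn g' h'.1 v hv), h'.e_i hv, ap_mul]
  · have e : g * g' * v * (g * g')⁻¹ = g * (g' * v * g'⁻¹) * g⁻¹ := by group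
    rw [e, h.e_m (M.Vn g' h'.1 v hv) hm, h'.e_m hv hm]
  · have c1 : Commute g d := h.2.2 d hd
    have c2 : Commute g' d := h'.2.2 d hd
    exact (c1.mul_left c2).eq

theorem inv (h : Ons M i g A) : Ons M i g⁻¹ A⁻¹ := by
  refine of (inv_mem h.1) (fun v hv => ?_) (fun v hv m hm => ?_) fun d hd => ?_
  · have h1 := h.e_i (M.Vn g⁻¹ (inv_mem h.1) v hv)
    have e : g * (g⁻¹ * v * g⁻¹⁻¹) * g⁻¹ = v := by group
    rw [e] at h1
    rw [h1, ap_inv_ap]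
  · have h1 := h.e_m (M.Vn g⁻¹ (inv_mem h.1) v hv) hm
    have e : g * (g⁻¹ * v * g⁻¹⁻¹) * g⁻¹ = v := by group
    rw [e] at h1
    exact h1.symm
  · have c1 : Commute g d := h.2.2 d hd
    exact c1.inv_left.eq

/-- elements acting in the same way on one summand, trivially on the others and on `D`, act in the same way on `V` -/
theorem same [CharP F 2] (hm : MinH H T) (h : Ons M i g A) (h' : Ons M i g' A) {v : G} (hv : v ∈ V) :
    g * v * g⁻¹ = g' * v * g'⁻¹ := by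
  have h1 := h'.inv.mul h
  rw [inv_mul_cancel] at h1
  have h2 : g'⁻¹ * g ∈ M.stab := by
    refine ⟨h1.1, fun v hv j => ?_, h1.2.2⟩
    rw [h1.2.1 v hv j, Pi.mulSingle_one]
  have h3 := M.cent_of_stab hm h2 hv
  calc g * v * g⁻¹ = g' * ((g'⁻¹ * g) * v) * g⁻¹ := by group
    _ = g' * (v * (g'⁻¹ * g)) * g⁻¹ := by rw [h3]
    _ = _ := by group

/-- **the conjugate of an element acting on one summand** -/
theorem conj (h : Ons M i g A) {t : G} (ht : t ∈ H) {m : Fin k} (hm : MvI M t i m) :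
    ∃ A', Ons M m (t * g * t⁻¹) A' := by
  obtain ⟨B, hB⟩ := M.nat.norm t ht g h.1 _ h.2.1
  have hgH := mul_mem (mul_mem ht h.1) (inv_mem ht)
  refine ⟨B m, of hgH (fun v hv => hB v hv m) (fun v hv j hj => ?_) fun d hd => ?_⟩
  · have hw := M.Vn t⁻¹ (inv_mem ht) v hv
    have hgw := M.Vn g h.1 _ hw
    obtain ⟨i', hi'⟩ := MvI.ex M (inv_mem ht) j
    have h1 := hi'.inv (inv_mem ht)
    rw [inv_inv] at h1
    have hii : i' ≠ i := fun e => hj (by subst e; exact MvI.uniq h1 hm ht)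
    have h2 : M.nat.e (g * (t⁻¹ * v * t⁻¹⁻¹) * g⁻¹ * (t⁻¹ * v * t⁻¹⁻¹)⁻¹) i' = 0 := by
      rw [M.map_div hgw hw, Pi.sub_apply, h.e_m hw hii, sub_self]
    have h3 := (h1 _ (mul_mem hgw (inv_mem hw))).2 h2
    have e : t * (g * (t⁻¹ * v * t⁻¹⁻¹) * g⁻¹ * (t⁻¹ * v * t⁻¹⁻¹)⁻¹) * t⁻¹ =
        (t * g * t⁻¹ * v * (t * g * t⁻¹)⁻¹) * v⁻¹ := by group
    rw [e, M.map_div (M.Vn _ hgH v hv) hv, Pi.sub_apply, sub_eq_zero] at h3
    exact h3
  · have h1 := M.Dn t⁻¹ (inv_mem ht) d hd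
    rw [inv_inv] at h1
    have h2 := h.2.2 _ h1
    have h3 := congrArg (fun x => t * x * t⁻¹) h2
    simpa [mul_assoc] using h3

/-- if the conjugate acts trivially modulo `D` on the line, so does the element -/
theorem line_triv (h : Ons M i g A) (hT : T ≤ H) {t : G} (ht : t ∈ T) {m : Fin k} (hm : MvI M t i m)
    {A' : Matrix.SpecialLinearGroup (Fin 2) F} (h' : Ons M m (t * g * t⁻¹) A') :
    (ent A 1 0 = 0 ↔ ent A' 1 0 = 0) ∧ (ent A 1 0 = 0 → (ent A 0 0 = 1 ↔ ent A' 0 0 = 1)) := by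
  have key : ∀ {i m : Fin k} {g t : G} {A A' : Matrix.SpecialLinearGroup (Fin 2) F}, Ons M i g A → t ∈ T →
      MvI M t i m → Ons M m (t * g * t⁻¹) A' → ent A 1 0 = 0 →
        ent A' 1 0 = 0 ∧ (ent A 0 0 = 1 → ent A' 0 0 = 1) := by
    intro i m g t A A' h ht hm h' h0
    obtain ⟨w, hw, e⟩ := exists_line M m 1
    have hv := (hm.inv (hT ht)).Li hT (inv_mem ht) hw
    set v := t⁻¹ * w * t⁻¹⁻¹ with hv0
    have e1 : t * g * t⁻¹ * w * (t * g * t⁻¹)⁻¹ = t * (g * v * g⁻¹) * t⁻¹ := by rw [hv0]; group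
    have hgv : g * v * g⁻¹ ∈ Li M i := by
      refine ⟨M.Vn g h.1 v hv.1, fun j hj => by rw [h.e_m hv.1 hj, hv.2.1 j hj], ?_⟩
      rw [h.e_i hv.1, ap_one', h0, hv.2.2]; simp
    have h3 := hm.Li hT ht hgv
    rw [← e1] at h3
    have ew : M.nat.e w m = ![1, 0] := ext2 e hw.2.2
    have h4 := h3.2.2
    rw [h'.e_i hw.1, ap_one', ew] at h4
    have h5 : ent A' 1 0 = 0 := by simpa using h4
    refine ⟨h5, fun h00 => ?_⟩
    -- `[v, g] ∈ D`
    have h6 : g * v * g⁻¹ * v⁻¹ ∈ D := by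
      refine Li_D (mul_mem hgv (inv_mem hv)) ?_
      rw [M.map_div hgv.1 hv.1, Pi.sub_apply, Pi.sub_apply, h.e_i hv.1, ap_zero', h00, hv.2.2]
      simp
    have h7 := D_e (M := M) (M.Dn t (hT ht) _ h6)
    have e2 : t * (g * v * g⁻¹ * v⁻¹) * t⁻¹ = (t * g * t⁻¹ * w * (t * g * t⁻¹)⁻¹) * w⁻¹ := by rw [hv0]; group
    rw [e2, M.map_div (M.Vn _ h'.1 w hw.1) hw.1, sub_eq_zero] at h7
    have h8 := congrFun (congrFun h7 m) 0
    rw [h'.e_i hw.1, ap_zero', ew] at h8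
    simpa using h8
  have e : t⁻¹ * (t * g * t⁻¹) * t⁻¹⁻¹ = g := by group
  have h1 := fun h0 => key h ht hm h' h0
  have h2 := fun h0 => key (g := t * g * t⁻¹) (t := t⁻¹) (A' := A) h' (inv_mem ht) (hm.inv (hT ht)) (by rw [e]; exact h) h0
  exact ⟨⟨fun h0 => (h1 h0).1, fun h0 => (h2 h0).1⟩, fun h0 => ⟨(h1 h0).2, (h2 (h1 h0).1).2⟩⟩

end Ons

end Cfsg.Agent.Omega.OM.Lev.Low
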