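import Cfsg.Agent.Omega.OM.Lev.Low.LowMain
import Cfsg.Agent.Omega.TC.UniLev
import Cfsg.Agent.Omega.OM.SwapL.Main
import Cfsg.Agent.Omega.NOThree.NoOver

/-!
# (LL), `q = 2`, natural type: the plug `LowTwo K`

`(T, Y)`, `T ≥ B = C_S(Z_J)` a Sylow 2-subgroup of the minimal parabolic `Y` of characteristic 2 which moves `Ω₁Z(T)`.

* `exists_cj_le` : `T` is conjugate under `N_G(B)` to a subgroup of `S`;
* `le_of_syl` : if `T` is a Sylow 2-subgroup of `G` then `lev S n ≤ O₂(Y)` (from the hypothesis on `P*(S)`);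
* `eq_B` : `k = 2`: `T = B` or `|T| = |S|`.
-/

set_option autoImplicit false
set_option linter.unusedSectionVars false

namespace Cfsg.Agent.Omega.OM.Lev.Low

open Subgroup Cfsg Cfsg.Agent.ZN.ChoiceBase Cfsg.Agent.ZN.ChoiceSit
open Cfsg.Agent.ZN (jj zj bau zc zl o2)
open Cfsg.Agent.MinSimple.MinParabolic (IsMinPar)
open Cfsg.Agent.Omega.FFThm (NatKM SymKM)
open Cfsg.Agent.Omega.FrameFF (cv)
open Cfsg.Agent.Omega.MinPar (IsParS)
open Cfsg.Agent.Omega.OM.Lev.Uni (FrL)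
open Cfsg.Agent.Omega.OM.SwapL (Ln ZL BL)
open Cfsg.Agent.Omega.NO3S.Level (lev lev_isLev lev_le)

universe u

variable {G : Type u} [Group G] [Finite G]

/-- `T` is conjugate under `N_G(B)` to a subgroup of `S`. -/
theorem exists_cj_le (S : Sylow 2 G) {n : ℕ} {T : Subgroup G} (hT : IsPGroup 2 T)
    (hB : BL (S : Subgroup G) n ≤ T) :
    ∃ g ∈ normalizer (BL (S : Subgroup G) n : Set G), cj g T ≤ S := by
  obtain ⟨R, hR⟩ := hT.exists_le_sylow
  obtain ⟨x, hx⟩ := MulAction.exists_smul_eq G S R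
  have hRx : (R : Subgroup G) = cj x (S : Subgroup G) := by rw [← hx, Sylow.coe_subgroup_smul]; rfl
  rw [hRx] at hR
  have h1 : cj x⁻¹ T ≤ S := by
    have := cj_mono x⁻¹ hR
    rwa [cj_inv_cj] at this
  refine ⟨x⁻¹, mem_normalizer_iff_cj.2 ?_, h1⟩
  exact SwapL.wc S n (S : Subgroup G) S.isPGroup' (SwapL.lb S n).BS x⁻¹ ((cj_mono _ hB).trans h1)

/-- A minimal parabolic which normalises `Ω₁Z(T)` centralises it. -/
theorem le_cent_of_norm {T Y : Subgroup G} (hT : Syl T Y) (hP : IsMinPar T Y)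
    (h : Y ≤ normalizer (zc T : Set G)) : Y ≤ centralizer (zc T : Set G) := by
  have : Fact (Nat.Prime 2) := ⟨Nat.prime_two⟩
  have hN : Y ≤ normalizer ((Y ⊓ centralizer (zc T : Set G) : Subgroup G) : Set G) := by
    intro y hy
    rw [mem_normalizer_iff_cj, cj_inf, cj_centralizer, cj_eq_of_mem_normalizer (h hy),
      cj_eq_of_mem_normalizer (le_normalizer hy)]
  have hTc : T ≤ centralizer (zc T : Set G) := NO3S.Level.le_centralizer_zc T
  rcases hP.sup_eq_or_inf_le hT.2.1 (syl_not_dvd hT) inf_le_left hN with h1 | h1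
  · have h2 : T ≤ Y ⊓ centralizer (zc T : Set G) := le_inf hP.le hTc
    rw [sup_eq_left.2 h2] at h1
    exact inf_eq_left.1 h1
  · exfalso
    rw [inf_eq_left.2 (le_inf hP.le hTc)] at h1
    refine hP.not_le ?_
    have h2 : T = o2 Y := le_antisymm h1 (o2_le_syl hT)
    rw [h2]
    exact le_normalizer_o2 Y

/-- **`T` Sylow in `G`.** -/
theorem le_of_syl (S : Sylow 2 G) {n : ℕ}
    (hall : ∀ R, IsParS (S : Subgroup G) R → lev (S : Subgroup G) n ≤ o2 R) {T Y : Subgroup G} (hT : Syl T Y)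
    (hB : BL (S : Subgroup G) n ≤ T) (hcard : Nat.card S ≤ Nat.card T) (hP : IsMinPar T Y)
    (hc : Y ⊓ centralizer (o2 Y : Set G) ≤ o2 Y) (hZ : ¬ Y ≤ centralizer (zc T : Set G)) :
    lev (S : Subgroup G) n ≤ o2 Y := by
  obtain ⟨g, hg, hgT⟩ := exists_cj_le S hT.2.1 hB
  have hS : cj g T = (S : Subgroup G) := Subgroup.eq_of_le_of_card_ge hgT (by rw [card_cj]; exact hcard)
  have hlev : cj g (lev (S : Subgroup G) n) = lev (S : Subgroup G) n :=
    mem_normalizer_iff_cj.1 (SwapL.norm_lev S (by omega) hg)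
  have h1 : IsParS (S : Subgroup G) (cj g Y) := by
    have h2 : IsMinPar (S : Subgroup G) (cj g Y) := by
      rw [← hS]
      exact NOThree.NoOver.isMinPar_cj g hP
    have h3 : o2 (cj g Y) ≠ ⊥ := by
      intro e
      rw [← MinSimple.Geo.cj_o2] at e
      have e1 : o2 Y = ⊥ := by
        have := congrArg (cj g⁻¹) e
        rw [cj_inv_cj] at this
        rw [this]
        exact map_bot _
      rw [e1] at hc
      apply hZ
      have h4 : Y = ⊥ := le_bot_iff.1 (le_trans (le_inf le_rfl (fun y _ => by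
        rw [mem_centralizer_iff]
        rintro x hx
        have hx' : x = 1 := hx
        rw [hx']
        simp)) hc)
      rw [h4]
      exact bot_le
    refine ⟨⟨h2, h3⟩, fun h5 => hZ (le_cent_of_norm hT hP ?_)⟩
    intro y hy
    have h6 := h5 ⟨y, hy, rfl⟩
    rw [mem_normalizer_iff_cj, ← hS, NO3S.Level.zc_cj] at h6
    rw [mem_normalizer_iff_cj]
    have e2 : (MulAut.conj g).toMonoidHom y = g * y * g⁻¹ := rfl
    rw [e2, cj_cj] at h6
    have h7 := congrArg (cj g⁻¹) h6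
    rw [cj_cj, cj_inv_cj] at h7
    rwa [show g⁻¹ * (g * y * g⁻¹ * g) = y by group] at h7
  have h3 := hall _ h1
  rw [← hlev, ← MinSimple.Geo.cj_o2] at h3
  have h4 := cj_mono g⁻¹ h3
  rwa [cj_inv_cj, cj_inv_cj] at h4

/-- `k = 2`, `q = 2`: only `B` and `S` lie between `B` and `S`. -/
theorem eq_B {S : Sylow 2 G} {P B ZJ : Subgroup G} {L W Z C : Fin 2 → Subgroup G}
    (h : NO3S.EThree.Frame.Bg S P B ZJ L W Z C 2) {T : Subgroup G} (hB : B ≤ T) (hT : T ≤ (S : Subgroup G)) :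
    T = B ∨ T = S := by
  by_cases h1 : T ≤ normalizer (Z 0 : Set G)
  · left
    refine le_antisymm ?_ hB
    rw [← TC.UniLev.T_eq h]
    exact le_inf hT h1
  · right
    refine le_antisymm hT fun t ht => ?_
    obtain ⟨s, hs, hsn⟩ := SetLike.not_le_iff_exists.1 h1
    have key : ∀ x ∈ (S : Subgroup G), x ∉ normalizer (Z 0 : Set G) → cj x (Z 0) = Z 1 := by
      intro x hx hxn
      obtain ⟨σ, hσ⟩ := h.perm_S hx
      have h2 := (hσ 0).2.1
      have h3 : σ 0 ≠ 0 := fun e => hxn (mem_normalizer_iff_cj.2 (by rw [h2, e]))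
      have h4 : ∀ a : Fin 2, a ≠ 0 → a = 1 := by decide
      rw [h2, h4 _ h3]
    have hTn : ∀ x ∈ (S : Subgroup G), x ∈ normalizer (Z 0 : Set G) → x ∈ T := fun x hx hxn =>
      hB (by rw [← TC.UniLev.T_eq h]; exact ⟨hx, hxn⟩)
    by_cases h5 : t ∈ normalizer (Z 0 : Set G)
    · exact hTn t ht h5
    · have h6 : s⁻¹ * t ∈ T := by
        refine hTn _ (mul_mem (inv_mem (hT hs)) ht) (mem_normalizer_iff_cj.2 ?_)
        rw [← cj_cj, key t ht h5, ← key s (hT hs) hsn, cj_inv_cj]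
      have h7 := mul_mem hs h6
      rwa [mul_inv_cancel_left] at h7

/-- `k = 2`, `q = 2`: `T = B` or `T` is a Sylow 2-subgroup of `G`. -/
theorem eq_or {S : Sylow 2 G} {P : Subgroup G} {n : ℕ} {L W Z C : Fin 2 → Subgroup G}
    (h : NO3S.EThree.Frame.Bg S P (BL (S : Subgroup G) n) (ZL (S : Subgroup G) n) L W Z C 2) {T : Subgroup G}
    (hT : IsPGroup 2 T) (hB : BL (S : Subgroup G) n ≤ T) :
    T = BL (S : Subgroup G) n ∨ Nat.card S ≤ Nat.card T := by
  obtain ⟨g, hg, hgT⟩ := exists_cj_le S hT hB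
  have hBg : cj g (BL (S : Subgroup G) n) = BL (S : Subgroup G) n := mem_normalizer_iff_cj.1 hg
  have h1 : BL (S : Subgroup G) n ≤ cj g T := by
    rw [← hBg]
    exact cj_mono g hB
  rcases eq_B h h1 hgT with h2 | h2
  · left
    have h3 := congrArg (cj g⁻¹) (h2.trans hBg.symm)
    rwa [cj_inv_cj, cj_inv_cj] at h3
  · right
    have h3 : Nat.card (cj g T) = Nat.card S := by rw [h2]
    rw [card_cj] at h3
    exact h3.ge

end Cfsg.Agent.Omega.OM.Lev.Low
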