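import Cfsg.Agent.Omega.OM.PB
import Cfsg.Agent.Omega.PushUp.Last
import Cfsg.Agent.Omega.NO3S.OneLine.Abs
import Cfsg.Agent.Omega.NO3S.Level.Basic

/-!
# Pushing up a block over `B` (helper109 #23071 (E))

`PB B L N N1 N0 q`, `V = N Ω₁Z(B)`, `D = [N, B]`; `B ≤ T ≤ S`, `|S : T| ≤ 2`, `S` normalises `B`, `T` normalises `V`.

* `dat` : the data `PushUp.Dat S T L B (C_B(N)) V (zc B) D`, if no nontrivial subgroup of `B` is normalised by `L` and `S`;
* `exists_norm` : if no `t ∈ S - T` normalises `D`, then some `R0 ≠ 1`, `R0 ≤ B`, is normalised by `L` and `S`;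
* `exists_norm'` : the same, `R0 ≠ 1` is normalised by `S` and every `R ≤ ⟨L, S⟩`.
-/

set_option autoImplicit false
set_option linter.unusedSectionVars false

namespace Cfsg.Agent.Omega.OM.Lev.Low.Push

open Subgroup Cfsg Cfsg.Agent.PLocal.ThompsonJ Cfsg.Agent.ZN.ChoiceBase
open Cfsg.Agent.ZN hiding mem_zc
open Cfsg.Agent.PLocal.ElemAbSup
open Cfsg.Agent.Omega.SQ1.Bau (mem_sup_comm card_sup_comm elem_comm elem_sq Mv not_mv_iff mv_inv)
open scoped Pointwise commutatorElement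

universe u

variable {G : Type u} [Group G] [Finite G] {S T B L N N1 N0 : Subgroup G} {q : ℕ}

/-- `N ∩ Ω₁Z(B) = N1` -/
theorem line_iff (h : PB B L N N1 N0 q) {v : G} (hv : v ∈ N) : v ∈ N1 ↔ v ∈ zc B := by
  constructor
  · exact fun h1 => ChoiceBase.mem_zc.2 ⟨h.NB hv, elem_sq h.el v hv, fun b hb => h.N1c b hb v h1⟩
  · intro h1
    obtain ⟨b, hb, w, hw, hne⟩ := h.exists_b
    refine h.cent b hb ⟨w, hw, hne⟩ v hv ?_
    rw [(ChoiceBase.mem_zc.1 h1).2.2 b hb, mul_inv_cancel_right, mul_inv_cancel]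
    exact one_mem _

/-- an element of `L` moving the line, and `e ∈ B - C(N)`: `x e x⁻¹` moves the line -/
theorem mv_conj (h : PB B L N N1 N0 q) {x : G} (hx : x ∈ L) (hm : Mv N1 x) {e : G} (he : e ∈ B)
    (hec : ∃ v ∈ N, e * v ≠ v * e) : Mv N1 (x * e * x⁻¹) := by
  have hmi : Mv N1 x⁻¹ := mv_inv.2 hm
  by_contra hcon
  unfold Mv at hcon
  push Not at hcon
  obtain ⟨z, hzN, hz'⟩ := hmi
  have hwV : x⁻¹ * z * x⁻¹⁻¹ ∈ N := h.Nn x⁻¹ (inv_mem hx) z (h.N1N hzN)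
  set w := x⁻¹ * z * x⁻¹⁻¹ with hw
  have h1 : e * w * e⁻¹ * w⁻¹ ∈ N1 := h.quad e he w hwV
  have h2 : x * (e * w * e⁻¹ * w⁻¹) * x⁻¹ ∈ N1 := by
    have h3 := hcon z hzN
    have e1 : x * (e * w * e⁻¹ * w⁻¹) * x⁻¹ = x * e * x⁻¹ * z * (x * e * x⁻¹)⁻¹ * z⁻¹ := by rw [hw]; group
    rw [e1]
    exact mul_mem h3 (inv_mem hzN)
  have h3 := h.opp x hx hm _ h1 h2
  have h4 : e * w * e⁻¹ * w⁻¹ ∈ N0 := by
    have h5 := h.pl.W0n x⁻¹ (inv_mem hx) _ h3
    have e1 : x⁻¹ * (x * (e * w * e⁻¹ * w⁻¹) * x⁻¹) * x⁻¹⁻¹ = e * w * e⁻¹ * w⁻¹ := by group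
    rwa [e1] at h5
  exact hz' (h.cent e he hec w hwV h4)

/-- `C_B(N)` is normal in `L` -/
theorem norm_Q (h : PB B L N N1 N0 q) {l : G} (hl : l ∈ L) {x : G} (hx : x ∈ B ⊓ centralizer (N : Set G)) :
    l * x * l⁻¹ ∈ B ⊓ centralizer (N : Set G) := by
  have hxc : ∀ v ∈ N, x * v = v * x := fun v hv => (mem_centralizer_iff.1 hx.2 v hv).symm
  refine ⟨h.cor l hl x hx.1 hxc, mem_centralizer_iff.2 fun v hv => ?_⟩
  have hv' : l⁻¹ * v * l ∈ N := by
    have := h.Nn l⁻¹ (inv_mem hl) v hv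
    rwa [inv_inv] at this
  have h2 := hxc _ hv'
  calc v * (l * x * l⁻¹) = l * ((l⁻¹ * v * l) * x) * l⁻¹ := by group
    _ = l * (x * (l⁻¹ * v * l)) * l⁻¹ := by rw [← h2]
    _ = _ := by group

/-- `V = N Ω₁Z(B)` is elementary abelian -/
theorem V_el (h : PB B L N N1 N0 q) : IsElementaryAbelian 2 (N ⊔ zc B) :=
  isElementaryAbelian_sup h.el (NO3S.OneLine.zc_elem B) fun z hz => mem_centralizer_iff.2 fun v hv =>
    (ChoiceBase.mem_zc.1 hz).2.2 v (h.NB hv)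

theorem V_le (h : PB B L N N1 N0 q) : N ⊔ zc B ≤ B := sup_le h.NB (zc_le B)

theorem V_cases (h : PB B L N N1 N0 q) {v : G} (hv : v ∈ N ⊔ zc B) : ∃ n ∈ N, ∃ z ∈ zc B, v = n * z :=
  mem_sup_comm (fun n hn _ hz => (ChoiceBase.mem_zc.1 hz).2.2 n (h.NB hn)) hv

theorem comm_V (_h : PB B L N N1 N0 q) {n z b : G} (hz : z ∈ zc B) (hb : b ∈ B) :
    n * z * b * (n * z)⁻¹ * b⁻¹ = ⁅n, b⁆ := by
  have h1 := (ChoiceBase.mem_zc.1 hz).2.2 b hb
  rw [commutatorElement_def]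
  calc n * z * b * (n * z)⁻¹ * b⁻¹ = n * (z * b) * z⁻¹ * n⁻¹ * b⁻¹ := by group
    _ = n * (b * z) * z⁻¹ * n⁻¹ * b⁻¹ := by rw [h1]
    _ = _ := by group

/-- the moving elements -/
theorem mv_iff (h : PB B L N N1 N0 q) {l : G} (hl : l ∈ L) :
    Omega.PushUp.Mv (⁅N, B⁆ : Subgroup G) (zc B) l ↔ Mv N1 l := by
  have hD : (⁅N, B⁆ : Subgroup G) ≤ N1 := by
    rw [Subgroup.commutator_le]
    intro v hv b hb
    have h1 := inv_mem (h.quad b hb v hv)
    have e : (b * v * b⁻¹ * v⁻¹)⁻¹ = ⁅v, b⁆ := by rw [commutatorElement_def]; group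
    rwa [e] at h1
  constructor
  · rintro ⟨d, hd, hd'⟩
    refine ⟨d, hD hd, fun h1 => hd' ?_⟩
    exact (line_iff h (h.N1N h1)).1 h1
  · rintro ⟨v, hv, hv'⟩
    obtain ⟨w, hw, hw1⟩ := h.exists_v
    obtain ⟨b, hb, n0, hn0, rfl⟩ := h.line hw hw1 hv
    refine ⟨b * w * b⁻¹ * w⁻¹, ?_, fun h1 => hv' ?_⟩
    · have h1 := inv_mem (commutator_mem_commutator hw hb)
      have e : (⁅w, b⁆)⁻¹ = b * w * b⁻¹ * w⁻¹ := by rw [commutatorElement_def]; group
      rwa [e] at h1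
    · have h2 : l * (b * w * b⁻¹ * w⁻¹) * l⁻¹ ∈ N1 :=
        (line_iff h (h.Nn l hl _ (h.N1N (h.quad b hb w hw)))).2 h1
      have e : l * (b * w * b⁻¹ * w⁻¹ * n0) * l⁻¹ = (l * (b * w * b⁻¹ * w⁻¹) * l⁻¹) * n0 := by
        calc l * (b * w * b⁻¹ * w⁻¹ * n0) * l⁻¹ = l * (b * w * b⁻¹ * w⁻¹) * l⁻¹ * (l * n0) * l⁻¹ := by group
          _ = l * (b * w * b⁻¹ * w⁻¹) * l⁻¹ * (n0 * l) * l⁻¹ := by rw [h.N0c l hl n0 hn0]
          _ = _ := by group
      rw [e]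
      exact mul_mem h2 (h.N01 hn0)

theorem relIndex_eq_of_card' {K L : Subgroup G} {q : ℕ} (hKL : K ≤ L)
    (h : Nat.card L = Nat.card K * q) : K.relIndex L = q := by
  have h1 := Subgroup.card_mul_index (K.subgroupOf L)
  have h2 : Nat.card (K.subgroupOf L) = Nat.card K :=
    Nat.card_congr (Subgroup.subgroupOfEquivOfLe hKL).toEquiv
  rw [h2, h] at h1
  exact Nat.eq_of_mul_eq_mul_left Nat.card_pos h1

theorem card_V (h : PB B L N N1 N0 q) : Nat.card ↥(N ⊔ zc B) = Nat.card (zc B) * q := by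
  have h1 := card_sup_comm (A := N) (B := zc B) fun n hn z hz => (ChoiceBase.mem_zc.1 hz).2.2 n (h.NB hn)
  have h2 : N ⊓ zc B = N1 := by
    ext v
    rw [mem_inf]
    exact ⟨fun h3 => (line_iff h h3.1).2 h3.2, fun h3 => ⟨h.N1N h3, (line_iff h (h.N1N h3)).1 h3⟩⟩
  rw [h2, h.card] at h1
  have hp : 0 < Nat.card N1 := Nat.card_pos
  refine Nat.eq_of_mul_eq_mul_right hp ?_
  rw [h1]; ring

/-- **The data of pushing up.** -/
theorem dat (h : PB B L N N1 N0 q) (hTS : T ≤ S) (idx : ∀ a ∈ S, ∀ b ∈ S, a ∉ T → b ∉ T → a⁻¹ * b ∈ T) (hBT : B ≤ T)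
    (hSB : S ≤ normalizer (B : Set G)) (hTV : T ≤ normalizer ((N ⊔ zc B : Subgroup G) : Set G))
    (hcore : ∀ R : Subgroup G, R ≤ B → L ≤ normalizer (R : Set G) → S ≤ normalizer (R : Set G) → R = ⊥) :
    Omega.PushUp.Dat S T L B (B ⊓ centralizer (N : Set G)) (N ⊔ zc B) (zc B) (⁅N, B⁆ : Subgroup G) where
  TA := hTS
  idx := idx
  BT := hBT
  BL := h.BL
  QB := inf_le_left
  VQ := le_inf (V_le h) fun v hv => mem_centralizer_iff.2 fun n hn =>
    elem_comm (V_el h) n (mem_sup_left hn) v hv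
  ZV := le_sup_right
  DZ := by
    rw [Subgroup.commutator_le]
    intro v hv b hb
    have h1 := inv_mem (h.quad b hb v hv)
    have e : (b * v * b⁻¹ * v⁻¹)⁻¹ = ⁅v, b⁆ := by rw [commutatorElement_def]; group
    rw [e] at h1
    exact (line_iff h (h.N1N h1)).1 h1
  AnB a ha b hb := (mem_normalizer_iff.1 (hSB ha) b).1 hb
  AnZ a ha b hb := (mem_normalizer_iff.1 (NO3S.Level.normalizer_le_zc B (hSB ha)) b).1 hb
  LnQ l hl x hx := norm_Q h hl hx
  LnV := by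
    intro l hl v hv
    obtain ⟨n, hn, z, hz, rfl⟩ := V_cases h hv
    have h1 := h.act l hl z hz
    have h2 := h.Nn l hl n hn
    have e : l * (n * z) * l⁻¹ = (l * n * l⁻¹ * (l * z * l⁻¹ * z⁻¹)) * z := by group
    rw [e]
    exact mul_mem (mem_sup_left (mul_mem h2 h1)) (mem_sup_right hz)
  BcZ b hb y hy := (ChoiceBase.mem_zc.1 hy).2.2 b hb
  Vsq v hv := by have := elem_sq (V_el h) v hv; rwa [pow_two] at this
  QcV b hb hc := ⟨hb, mem_centralizer_iff.2 fun v hv => (hc v (mem_sup_left hv)).symm⟩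
  VcQ := by
    intro x hx v hv
    obtain ⟨n, hn, z, hz, rfl⟩ := V_cases h hv
    have h1 := mem_centralizer_iff.1 hx.2 n hn
    have h2 := (ChoiceBase.mem_zc.1 hz).2.2 x hx.1
    calc x * (n * z) = (x * n) * z := by group
      _ = (n * x) * z := by rw [← h1]
      _ = n * (x * z) := by group
      _ = n * (z * x) := by rw [h2]
      _ = _ := by group
  Bsq := by
    intro b hb
    refine ⟨mul_mem hb hb, mem_centralizer_iff.2 fun v hv => ?_⟩
    have h1 := h.quad b hb v hv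
    have h2 := h.N1c b hb _ h1
    have h3 : (b * v * b⁻¹ * v⁻¹) * (b * v * b⁻¹ * v⁻¹) = 1 := by
      have := elem_sq h.el _ (h.N1N h1)
      rwa [pow_two] at this
    set c := b * v * b⁻¹ * v⁻¹ with hc
    have e1 : b * v = c * v * b := by rw [hc]; group
    calc v * (b * b) = (c * c) * v * (b * b) := by rw [h3, one_mul]
      _ = c * (c * v * b) * b := by group
      _ = c * (b * v) * b := by rw [← e1]
      _ = (c * b) * v * b := by group
      _ = (b * c) * v * b := by rw [← h2]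
      _ = b * (c * v * b) := by group
      _ = b * (b * v) := by rw [← e1]
      _ = _ := by group
  comm := by
    intro v hv b hb
    obtain ⟨n, hn, z, hz, rfl⟩ := V_cases h hv
    rw [comm_V h hz hb]
    exact commutator_mem_commutator hn hb
  Dgen := by
    rw [Subgroup.commutator_le]
    intro v hv b hb
    exact subset_closure ⟨v, mem_sup_left hv, b, hb, by rw [commutatorElement_def]⟩
  ncomm := by
    intro v hv hvZ b hb hbQ hc
    obtain ⟨n, hn, z, hz, rfl⟩ := V_cases h hv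
    have h2 := (ChoiceBase.mem_zc.1 hz).2.2 b hb
    have h3 : b * n = n * b := by
      have e1 : n * b * z = b * n * z := by
        calc n * b * z = n * (b * z) := by group
          _ = n * (z * b) := by rw [h2]
          _ = n * z * b := by group
          _ = _ := by rw [hc]; group
      exact (mul_right_cancel e1).symm
    have h4 : ∃ w ∈ N, b * w ≠ w * b := by
      by_contra hcon
      push Not at hcon
      exact hbQ ⟨hb, mem_centralizer_iff.2 fun w hw => (hcon w hw).symm⟩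
    have h5 : n ∈ N1 := by
      refine h.cent b hb h4 n hn ?_
      rw [h3, mul_inv_cancel_right, mul_inv_cancel]
      exact one_mem _
    exact hvZ (mul_mem ((line_iff h hn).1 h5) hz)
  card := by
    rw [relIndex_eq_of_card' inf_le_left h.cardB, relIndex_eq_of_card' le_sup_right (card_V h)]
  gen l hl hm K hK hx := h.gen l hl ((mv_iff h hl).1 hm) K hK hx
  moves := by
    obtain ⟨l, hl, hm⟩ := h.mv
    exact ⟨l, hl, (mv_iff h hl).2 hm⟩
  mvinv l hl hm := (mv_iff h (inv_mem hl)).2 (mv_inv.2 ((mv_iff h hl).1 hm))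
  side := by
    intro t ht l hl v hv
    have h1 : t * v * t⁻¹ ∈ N ⊔ zc B := (mem_normalizer_iff.1 (hTV ht) v).1 hv
    obtain ⟨n, hn, z, hz, e⟩ := V_cases h h1
    refine mem_sup_left ?_
    rw [e]
    have h1 := h.act l hl z hz
    have h2 := h.Nn l hl n hn
    have e : l * (n * z) * l⁻¹ = (l * n * l⁻¹ * (l * z * l⁻¹ * z⁻¹)) * z := by group
    rw [e]
    exact mul_mem (mem_sup_left (mul_mem h2 h1)) (mem_sup_right hz)
  indep t ht _ v hv := (mem_normalizer_iff.1 (hTV ht) v).1 hv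
  ti := by
    intro l hl hm b hb hbQ
    have h4 : ∃ w ∈ N, b * w ≠ w * b := by
      by_contra hcon
      push Not at hcon
      exact hbQ ⟨hb, mem_centralizer_iff.2 fun w hw => (hcon w hw).symm⟩
    have h1 := mv_conj h (inv_mem hl) (mv_inv.2 ((mv_iff h hl).1 hm)) hb h4
    rw [inv_inv] at h1
    exact (mv_iff h (mul_mem (mul_mem (inv_mem hl) (h.BL hb)) hl)).2 h1
  core := by
    intro R hR hL hA
    refine hcore R hR (fun l hl => mem_normalizer_of_cj_le ?_) fun a ha => mem_normalizer_of_cj_le ?_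
    · rintro _ ⟨x, hx, rfl⟩
      exact hL l hl x hx
    · rintro _ ⟨x, hx, rfl⟩
      exact hA a ha x hx

/-- **(E)** : if no `t ∈ S - T` normalises the line `[N, B]`, then `⟨L, S⟩` is local. -/
theorem exists_norm (h : PB B L N N1 N0 q) (hTS : T ≤ S) (idx : ∀ a ∈ S, ∀ b ∈ S, a ∉ T → b ∉ T → a⁻¹ * b ∈ T)
    (hBT : B ≤ T) (hSB : S ≤ normalizer (B : Set G)) (hTV : T ≤ normalizer ((N ⊔ zc B : Subgroup G) : Set G))
    (hD : ∀ t ∈ S, t ∉ T → ¬ ∀ d ∈ (⁅N, B⁆ : Subgroup G), t * d * t⁻¹ ∈ (⁅N, B⁆ : Subgroup G)) :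
    ∃ R0 : Subgroup G, R0 ≠ ⊥ ∧ R0 ≤ B ∧ L ≤ normalizer (R0 : Set G) ∧ S ≤ normalizer (R0 : Set G) := by
  by_contra hcon
  push Not at hcon
  have hcore : ∀ R : Subgroup G, R ≤ B → L ≤ normalizer (R : Set G) → S ≤ normalizer (R : Set G) → R = ⊥ := by
    intro R h1 h2 h3
    by_contra hne
    exact hcon R hne h1 h2 h3
  have d := dat h hTS idx hBT hSB hTV hcore
  obtain ⟨t, ht, v, hv, u, hu, hne⟩ := d.exists_noncommuting
  by_cases htT : t ∈ T
  · exact hne (elem_comm (V_el h) v hv _ ((mem_normalizer_iff.1 (hTV htT) u).1 hu))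
  · exact hD t ht htT fun x hx => d.noncomm_D ht hv hu hne hx

/-- the same for `R ≤ ⟨L, S⟩` -/
theorem exists_norm' (h : PB B L N N1 N0 q) (hTS : T ≤ S) (idx : ∀ a ∈ S, ∀ b ∈ S, a ∉ T → b ∉ T → a⁻¹ * b ∈ T)
    (hBT : B ≤ T) (hSB : S ≤ normalizer (B : Set G)) (hTV : T ≤ normalizer ((N ⊔ zc B : Subgroup G) : Set G))
    (hD : ∀ t ∈ S, t ∉ T → ¬ ∀ d ∈ (⁅N, B⁆ : Subgroup G), t * d * t⁻¹ ∈ (⁅N, B⁆ : Subgroup G)) :
    ∃ R0 : Subgroup G, R0 ≠ ⊥ ∧ R0 ≤ B ∧ S ≤ normalizer (R0 : Set G) ∧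
      ∀ R : Subgroup G, R ≤ L ⊔ S → R ≤ normalizer (R0 : Set G) := by
  obtain ⟨R0, h1, h2, h3, h4⟩ := exists_norm h hTS idx hBT hSB hTV hD
  exact ⟨R0, h1, h2, h4, fun R hR => hR.trans (sup_le h3 h4)⟩

end Cfsg.Agent.Omega.OM.Lev.Low.Push
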