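import Mathlib

/-!
# LEMMA QW: a quadratic four-group and a normal odd abelian subgroup

`K` acts on the elementary abelian 2-group `W`; `Z` is a normal abelian subgroup of odd order; `e, f` are commuting
involutions, `⟨e, f⟩` is quadratic on `W`. If `y ∈ W` is centralised by `e`, `f` and `C_Z(e, f)`, and `K / C_K(Z)` is
simple and generated by `⟨e, f⟩` and one involution of one conjugate `⟨e, f⟩^g`, then `Z` centralises `y` (`fix_abelian`).

* `fix_of_five` : a vector `y` centralised by the stabiliser `N` of a point, `|K : N| = 5`, `⟨e, f⟩` regular on the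
  other four points, is centralised by `K`.
-/

set_option autoImplicit false
set_option linter.unusedSectionVars false

namespace Cfsg.Agent.Omega.OM.Lev.Low.QW

open Subgroup

variable {K W : Type*} [Group K] [Finite K] [AddCommGroup W] [DistribMulAction K W]

/-- the norm -/
noncomputable def tr (N : Subgroup K) (w : W) : W := ∑ᶠ n : N, (n : K) • w

theorem eq_of_add (h2 : ∀ w : W, w + w = 0) {a b : W} (h : a + b = 0) : a = b := by
  have h3 := h2 b
  have h4 : a + b = b + b := by rw [h, h3]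
  exact add_right_cancel h4

theorem odd_nsmul (h2 : ∀ w : W, w + w = 0) {n : ℕ} (hn : Odd n) (w : W) : n • w = w := by
  obtain ⟨m, rfl⟩ := hn
  rw [add_nsmul, one_nsmul, mul_comm, mul_nsmul', two_nsmul, h2 w, nsmul_zero, zero_add]

theorem tr_fix (h2 : ∀ w : W, w + w = 0) {N : Subgroup K} (hN : Odd (Nat.card N)) {w : W}
    (hw : ∀ n ∈ N, n • w = w) : tr N w = w := by
  classical
  have : Fintype N := Fintype.ofFinite N
  unfold tr
  rw [finsum_eq_sum_of_fintype, Finset.sum_congr rfl fun (n : N) _ => hw n n.2, Finset.sum_const, Finset.card_univ,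
    ← Nat.card_eq_fintype_card]
  exact odd_nsmul h2 hN w

theorem smul_tr {N : Subgroup K} {k : K} (hk : k ∈ N) (w : W) : k • tr N w = tr N w := by
  classical
  have : Fintype N := Fintype.ofFinite N
  unfold tr
  rw [finsum_eq_sum_of_fintype, Finset.smul_sum]
  refine Fintype.sum_equiv (Equiv.mulLeft (⟨k, hk⟩ : N)) _ _ fun n => ?_
  rw [← mul_smul]
  rfl

theorem tr_smul {N : Subgroup K} {k : K} (hk : ∀ n : K, n ∈ N ↔ k * n * k⁻¹ ∈ N) (w : W) :
    tr N (k • w) = k • tr N w := by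
  classical
  have : Fintype N := Fintype.ofFinite N
  unfold tr
  rw [finsum_eq_sum_of_fintype, finsum_eq_sum_of_fintype, Finset.smul_sum]
  symm
  refine Fintype.sum_equiv
    { toFun := fun n : N => (⟨k * n * k⁻¹, (hk _).1 n.2⟩ : N)
      invFun := fun n : N => (⟨k⁻¹ * n * k, (hk _).2 (by
        have : k * (k⁻¹ * (n : K) * k) * k⁻¹ = n := by group
        rw [this]; exact n.2)⟩ : N)
      left_inv := fun n => Subtype.ext (by change k⁻¹ * (k * (n : K) * k⁻¹) * k = n; group)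
      right_inv := fun n => Subtype.ext (by change k * (k⁻¹ * (n : K) * k) * k⁻¹ = n; group) } _ _ fun n => ?_
  change k • (n : K) • w = (k * n * k⁻¹) • k • w
  rw [← mul_smul, ← mul_smul]
  congr 1
  group

theorem tr_add (N : Subgroup K) (v w : W) : tr N (v + w) = tr N v + tr N w := by
  classical
  have : Fintype N := Fintype.ofFinite N
  unfold tr
  rw [finsum_eq_sum_of_fintype, finsum_eq_sum_of_fintype, finsum_eq_sum_of_fintype, ← Finset.sum_add_distrib]
  exact Finset.sum_congr rfl fun n _ => smul_add _ _ _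

theorem tr_zero (N : Subgroup K) : tr N (0 : W) = 0 := by
  classical
  have : Fintype N := Fintype.ofFinite N
  unfold tr
  rw [finsum_eq_sum_of_fintype]
  exact Finset.sum_eq_zero fun n _ => smul_zero _

theorem odd_of_le {N Z : Subgroup K} (hZ : Odd (Nat.card Z)) (h : N ≤ Z) : Odd (Nat.card N) :=
  hZ.of_dvd_nat (card_dvd_of_le h)

/-- `(a a) v = v` with `a` of odd order gives `a v = v`. -/
theorem odd_fix {Z : Subgroup K} (hZ : Odd (Nat.card Z)) {a : K} (ha : a ∈ Z) {v : W} (h : (a * a) • v = v) :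
    a • v = v := by
  have h1 : a ^ Nat.card Z = 1 := by
    have h3 : (⟨a, ha⟩ : Z) ^ Nat.card Z = 1 := pow_card_eq_one'
    exact congrArg Subtype.val h3
  obtain ⟨m, hm⟩ := hZ
  have key : ∀ j : ℕ, (a ^ (2 * j)) • v = v := by
    intro j
    induction j with
    | zero => simp
    | succ j ih => rw [mul_add, mul_one, pow_add, mul_smul, pow_two, h, ih]
  have h2 := key (m + 1)
  have e : a ^ (2 * (m + 1)) = a := by
    have : 2 * (m + 1) = Nat.card Z + 1 := by omega
    rw [this, pow_succ, h1, one_mul]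
  rwa [e] at h2

section core

variable {Z : Subgroup K} {e f : K}

/-- **(S1)** -/
theorem s_one (h2 : ∀ w : W, w + w = 0) (hodd : Odd (Nat.card Z))
    (quad : ∀ w : W, w + e • w + f • w + (e * f) • w = 0) (hef : e * f = f * e) {d : K} (hd : d ∈ Z)
    (hde : d * e = e * d) (hdf : f * d = d⁻¹ * f) (w : W) : e • (w + d • w) = w + d • w := by
  have hv : ∀ w : W, f • (w + e • w) = w + e • w := by
    intro w
    symm
    apply eq_of_add h2
    rw [smul_add, ← mul_smul, ← hef]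
    have := quad w
    rw [← this]; abel
  have h3 : f • (d • (w + e • w)) = d • (w + e • w) := by
    have h4 := hv (d • w)
    rw [← mul_smul e d w, ← hde, mul_smul d e w, ← smul_add] at h4
    exact h4
  have h5 : (d * d) • (w + e • w) = w + e • w := by
    rw [← mul_smul, hdf, mul_smul, hv w] at h3
    rw [mul_smul, ← h3, smul_inv_smul]
  have h6 := odd_fix hodd hd h5
  rw [smul_add, ← mul_smul, hde, mul_smul] at h6
  rw [smul_add]
  -- `d w + e d w = w + e w`
  have h7 : e • w + e • (d • w) = w + d • w := by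
    have h8 : d • w + e • d • w + (d • w + e • w) = w + e • w + (d • w + e • w) := by rw [h6]
    have e1 : d • w + e • d • w + (d • w + e • w) = (d • w + d • w) + (e • w + e • d • w) := by abel
    have e2 : w + e • w + (d • w + e • w) = (e • w + e • w) + (w + d • w) := by abel
    rw [e1, e2, h2, h2, zero_add, zero_add] at h8
    exact h8
  exact h7

/-- **(S2)** elements of `Z` inverted by `e` centralise `[W, d]`. -/
theorem s_two (h2 : ∀ w : W, w + w = 0) (hZ : ∀ a ∈ Z, ∀ b ∈ Z, a * b = b * a) (hodd : Odd (Nat.card Z))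
    (quad : ∀ w : W, w + e • w + f • w + (e * f) • w = 0) (hef : e * f = f * e) {d : K} (hd : d ∈ Z)
    (hde : d * e = e * d) (hdf : f * d = d⁻¹ * f) {a : K} (ha : a ∈ Z) (hae : e * a = a⁻¹ * e) (w : W) :
    a • (w + d • w) = w + d • w := by
  have h3 := s_one h2 hodd quad hef hd hde hdf
  have h4 : e • (a • (w + d • w)) = a • (w + d • w) := by
    have h5 := h3 (a • w)
    rw [← mul_smul d a w, hZ d hd a ha, mul_smul a d w, ← smul_add] at h5
    exact h5
  rw [← mul_smul, hae, mul_smul, h3 w] at h4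
  refine odd_fix hodd ha ?_
  rw [mul_smul, ← h4, smul_inv_smul]

/-- The core: an element of `C_Z(e)` inverted by `f` centralises `y`. -/
theorem core (h2 : ∀ w : W, w + w = 0) (hn : Z.Normal) (hZ : ∀ a ∈ Z, ∀ b ∈ Z, a * b = b * a)
    (hodd : Odd (Nat.card Z)) (he : e * e = 1) (hf : f * f = 1) (hef : e * f = f * e)
    (quad : ∀ w : W, w + e • w + f • w + (e * f) • w = 0) (g₀ : K)
    (hgen : ∀ H : Subgroup K, centralizer (Z : Set K) ≤ H → e ∈ H → f ∈ H →
      (g₀ * e * g₀⁻¹ ∈ H ∨ g₀ * f * g₀⁻¹ ∈ H ∨ g₀ * (e * f) * g₀⁻¹ ∈ H) → H = ⊤)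
    (hsim : ∀ H : Subgroup K, H.Normal → centralizer (Z : Set K) ≤ H → e ∈ H → f ∈ H) {y : W}
    (hyC : ∀ z ∈ Z, z * e = e * z → z * f = f * z → z • y = y) {d : K} (hd : d ∈ Z)
    (hde : d * e = e * d) (hdf : f * d = d⁻¹ * f) : d • y = y := by
  classical
  by_contra hne
  set y₁ : W := y + d • y with hy₁
  have hy10 : y₁ ≠ 0 := fun h0 => hne (eq_of_add h2 h0).symm
  have einv : e⁻¹ = e := inv_eq_of_mul_eq_one_left he
  have finv : f⁻¹ = f := inv_eq_of_mul_eq_one_left hf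
  have trZ : ∀ k : K, ∀ w : W, tr Z (k • w) = k • tr Z w := fun k w => tr_smul (fun n =>
    ⟨fun h => hn.conj_mem _ h k, fun h => by
      have := hn.conj_mem _ h k⁻¹
      have e1 : k⁻¹ * (k * n * k⁻¹) * k⁻¹⁻¹ = n := by group
      rwa [e1] at this⟩) w
  have conjZ : ∀ k : K, ∀ z ∈ Z, k * z * k⁻¹ ∈ Z := fun k z hz => hn.conj_mem _ hz k
  -- the stabiliser of `y₁` in `Z`
  set N₁ : Subgroup K := Z ⊓ MulAction.stabilizer K y₁ with hN₁
  have memN : ∀ {z : K}, z ∈ Z → z • y₁ = y₁ → z ∈ N₁ := fun hz h => mem_inf.2 ⟨hz, MulAction.mem_stabilizer_iff.2 h⟩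
  have ha : ∀ z ∈ Z, e * z * e⁻¹ * z⁻¹ ∈ N₁ := by
    intro z hz
    have hm := mul_mem (conjZ e z hz) (inv_mem hz)
    refine memN hm (s_two h2 hZ hodd quad hef hd hde hdf hm ?_ y)
    have e1 : e * (e * z * e⁻¹ * z⁻¹) = (e * e) * z * e⁻¹ * z⁻¹ := by group
    have e2 : (e * z * e⁻¹ * z⁻¹)⁻¹ * e = z * e * z⁻¹ * e⁻¹ * e := by group
    rw [e1, e2, he, einv]
    have e3 : z * e * z⁻¹ * e * e = z * e * z⁻¹ * (e * e) := by group
    rw [e3, he]; group
  have hb : ∀ z ∈ Z, z * (f * z * f⁻¹) ∈ N₁ := by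
    intro z hz
    have hz' := conjZ f z hz
    have hm := mul_mem hz hz'
    set b := z * (f * z * f⁻¹) with hbd
    refine memN hm (odd_fix hodd hm ?_)
    have hfb : f * b * f⁻¹ = b := by
      have e1 : f * b * f⁻¹ = (f * z * f⁻¹) * (f * f * z * (f⁻¹ * f⁻¹)) := by rw [hbd]; group
      rw [e1, hf, finv, hf]
      have : f * z * f ∈ Z := by rw [finv] at hz'; exact hz'
      rw [hbd, finv, mul_one, one_mul, hZ _ this _ hz]
    have heb := conjZ e b hm
    -- `c = b b^e`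
    have hc : (b * (e * b * e⁻¹)) • y₁ = y₁ := by
      have hcZ := mul_mem hm heb
      have h3 : (b * (e * b * e⁻¹)) • y = y := by
        refine hyC _ hcZ ?_ ?_
        · have e1 : e * (b * (e * b * e⁻¹)) = (e * b * e⁻¹) * (e * e * b * e⁻¹) := by group
          rw [e1, he, one_mul, hZ _ hm _ heb]
          have e2 : e * b * e⁻¹ * b * e = e * b * e⁻¹ * (b * e) := by group
          rw [e2, einv]
        · have h4 : f * (b * (e * b * e⁻¹)) * f⁻¹ = b * (e * b * e⁻¹) := by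
            have e1 : f * (b * (e * b * e⁻¹)) * f⁻¹ = (f * b * f⁻¹) * ((f * e) * b * (e⁻¹ * f⁻¹)) := by group
            have e2 : e⁻¹ * f⁻¹ = f⁻¹ * e⁻¹ := by rw [einv, finv, hef]
            rw [e1, ← hef, e2, hfb]
            have e3 : e * f * b * (f⁻¹ * e⁻¹) = e * (f * b * f⁻¹) * e⁻¹ := by group
            rw [e3, hfb]
          calc (b * (e * b * e⁻¹)) * f = (f * (b * (e * b * e⁻¹)) * f⁻¹) * f := by rw [h4]
            _ = f * (b * (e * b * e⁻¹)) := by group
      rw [hy₁, smul_add, h3, ← mul_smul, hZ _ hcZ _ hd, mul_smul, h3]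
    have haa : (b * (e * b⁻¹ * e⁻¹)) • y₁ = y₁ := by
      have hm2 := mul_mem hm (conjZ e _ (inv_mem hm))
      refine s_two h2 hZ hodd quad hef hd hde hdf hm2 ?_ y
      have e1 : e * (b * (e * b⁻¹ * e⁻¹)) = e * b * e * b⁻¹ * e⁻¹ := by group
      have e2 : (b * (e * b⁻¹ * e⁻¹))⁻¹ * e = e * b * e⁻¹ * b⁻¹ * e := by group
      rw [e1, e2, einv]
    have e4 : b * b = (b * (e * b * e⁻¹)) * (b * (e * b⁻¹ * e⁻¹)) := by
      have h5 := hZ _ heb _ hm
      have e5 : (b * (e * b * e⁻¹)) * (b * (e * b⁻¹ * e⁻¹)) = b * ((e * b * e⁻¹) * b) * (e * b⁻¹ * e⁻¹) := by group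
      rw [e5, h5]; group
    rw [e4, mul_smul, haa, hc]
  -- the maximal `N`
  let T : Set (Subgroup K) := {N | N ≤ Z ∧ ∃ w : W, w ≠ 0 ∧ (∀ n ∈ N, n • w = w) ∧ tr Z w = 0}
  have hT : N₁ ∈ T := by
    refine ⟨inf_le_left, y₁, hy10, fun n hn => MulAction.mem_stabilizer_iff.1 (mem_inf.1 hn).2, ?_⟩
    rw [hy₁, tr_add, trZ, smul_tr hd, h2]
  obtain ⟨N, hle, hmax⟩ := (Set.toFinite T).exists_le_maximal hT
  obtain ⟨hNZ, w, hw0, hw, hwZ⟩ := hmax.prop
  have hNodd := odd_of_le hodd hNZ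
  -- `k ∉ N_K(N)`
  have key : ∀ k : K, k ∉ normalizer (N : Set K) → tr N (k • w) = 0 := by
    intro k hk
    by_contra hu
    apply hk
    have hco : ∀ z ∈ Z, ∀ v : W, tr N (z • v) = z • tr N v := fun z hz v => tr_smul (fun n => by
      constructor
      · intro h
        have e1 : z * n * z⁻¹ = n := by rw [hZ z hz n (hNZ h)]; group
        rwa [e1]
      · intro h
        have h3 := hZ z⁻¹ (inv_mem hz) _ (hNZ h)
        have e1 : n = z⁻¹ * (z * n * z⁻¹) * z := by group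
        rw [h3] at e1
        have e2 : z * n * z⁻¹ * z⁻¹ * z = z * n * z⁻¹ := by group
        rw [e1, e2]
        exact h) v
    have hmem : N ⊔ N.map (MulAut.conj k).toMonoidHom ∈ T := by
      refine ⟨sup_le hNZ ?_, tr N (k • w), hu, ?_, ?_⟩
      · rintro _ ⟨n, hn', rfl⟩
        exact conjZ k n (hNZ hn')
      · have h3 : N ⊔ N.map (MulAut.conj k).toMonoidHom ≤ MulAction.stabilizer K (tr N (k • w)) := by
          refine sup_le (fun n hn' => MulAction.mem_stabilizer_iff.2 (smul_tr hn' _)) ?_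
          rintro _ ⟨n, hn', rfl⟩
          refine MulAction.mem_stabilizer_iff.2 ?_
          change (k * n * k⁻¹) • tr N (k • w) = _
          rw [← hco _ (conjZ k n (hNZ hn')), ← mul_smul]
          have e1 : k * n * k⁻¹ * k = k * n := by group
          rw [e1, mul_smul, hw n hn']
        exact fun n hn' => MulAction.mem_stabilizer_iff.1 (h3 hn')
      · have : Fintype N := Fintype.ofFinite N
        let φ : W →+ W :=
          { toFun := tr Z
            map_zero' := tr_zero Z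
            map_add' := tr_add Z }
        have e1 : tr N (k • w) = ∑ n : N, (n : K) • k • w := by
          unfold tr
          rw [finsum_eq_sum_of_fintype]
        have e2 : tr Z (tr N (k • w)) = φ (∑ n : N, (n : K) • k • w) := by rw [← e1]; rfl
        rw [e2, map_sum]
        refine Finset.sum_eq_zero fun n _ => ?_
        change tr Z ((n : K) • k • w) = 0
        rw [trZ, trZ, hwZ, smul_zero, smul_zero]
    have h4 := hmax.le_of_ge hmem le_sup_left
    have h5 : N.map (MulAut.conj k).toMonoidHom ≤ N := le_sup_right.trans h4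
    have h6 : N.map (MulAut.conj k).toMonoidHom = N := by
      refine Subgroup.eq_of_le_of_card_ge h5 ?_
      exact (Nat.card_congr (N.equivMapOfInjective (MulAut.conj k).toMonoidHom (MulAut.conj k).injective).toEquiv).le
    rw [mem_normalizer_iff]
    intro n
    constructor
    · intro hn'
      rw [← h6]
      exact ⟨n, hn', rfl⟩
    · intro hn'
      rw [← h6] at hn'
      obtain ⟨m, hm, e1⟩ := hn'
      change k * m * k⁻¹ = k * n * k⁻¹ at e1
      have e2 : m = n := by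
        have := congrArg (fun t => k⁻¹ * t * k) e1
        simpa [mul_assoc] using this
      rwa [← e2]
  -- some element of the conjugate normalises `N`
  have hex : g₀ * e * g₀⁻¹ ∈ normalizer (N : Set K) ∨ g₀ * f * g₀⁻¹ ∈ normalizer (N : Set K) ∨
      g₀ * (e * f) * g₀⁻¹ ∈ normalizer (N : Set K) := by
    by_contra hcon
    push Not at hcon
    obtain ⟨h3, h4, h5⟩ := hcon
    have h6 := congrArg (fun v => tr N (g₀ • v)) (quad (g₀⁻¹ • w))
    simp only [smul_add, smul_zero, tr_add, tr_zero, ← mul_smul] at h6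
    have e1 : g₀ * g₀⁻¹ = 1 := mul_inv_cancel _
    have e2 : g₀ * (e * g₀⁻¹) = g₀ * e * g₀⁻¹ := by group
    have e3 : g₀ * (f * g₀⁻¹) = g₀ * f * g₀⁻¹ := by group
    have e4 : g₀ * (e * f * g₀⁻¹) = g₀ * (e * f) * g₀⁻¹ := by group
    rw [e1, e2, e3, e4, one_smul, key _ h3, key _ h4, key _ h5, tr_fix h2 hNodd hw] at h6
    simp only [add_zero] at h6
    exact hw0 h6
  have heN : e ∈ normalizer (N : Set K) := by
    rw [mem_normalizer_iff]
    have h3 : ∀ n ∈ N, e * n * e⁻¹ ∈ N := by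
      intro n hn'
      have := mul_mem (hle (ha n (hNZ hn'))) hn'
      have e1 : e * n * e⁻¹ * n⁻¹ * n = e * n * e⁻¹ := by group
      rwa [e1] at this
    intro n
    refine ⟨h3 n, fun h => ?_⟩
    have h4 := h3 _ h
    have e1 : e * (e * n * e⁻¹) * e⁻¹ = (e * e) * n * (e⁻¹ * e⁻¹) := by group
    rw [e1, einv, he] at h4
    simpa using h4
  have hfN : f ∈ normalizer (N : Set K) := by
    rw [mem_normalizer_iff]
    have h3 : ∀ n ∈ N, f * n * f⁻¹ ∈ N := by
      intro n hn'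
      have := mul_mem (inv_mem hn') (hle (hb n (hNZ hn')))
      have e1 : n⁻¹ * (n * (f * n * f⁻¹)) = f * n * f⁻¹ := by group
      rwa [e1] at this
    intro n
    refine ⟨h3 n, fun h => ?_⟩
    have h4 := h3 _ h
    have e1 : f * (f * n * f⁻¹) * f⁻¹ = (f * f) * n * (f⁻¹ * f⁻¹) := by group
    rw [e1, finv, hf] at h4
    simpa using h4
  have htop : normalizer (N : Set K) = ⊤ := by
    refine hgen _ (fun c hc => ?_) heN hfN hex
    rw [mem_normalizer_iff]
    have h3 : ∀ z ∈ Z, c * z * c⁻¹ = z := fun z hz => by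
      rw [← mem_centralizer_iff.1 hc z hz]; group
    intro n
    constructor
    · intro h
      rw [h3 n (hNZ h)]; exact h
    · intro h
      have h4 : c⁻¹ * (c * n * c⁻¹) * c = c * n * c⁻¹ := by
        rw [mul_assoc, mem_centralizer_iff.1 hc _ (hNZ h)]; group
      have e1 : c⁻¹ * (c * n * c⁻¹) * c = n := by group
      rw [← e1, h4]
      exact h
  have hNn : ∀ k : K, ∀ n ∈ N, k * n * k⁻¹ ∈ N := fun k n h => by
    have h3 : k ∈ normalizer (N : Set K) := by rw [htop]; exact mem_top k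
    exact (mem_normalizer_iff.1 h3 n).1 h
  -- the centraliser of `Z / N`
  let H : Subgroup K :=
    { carrier := {k | ∀ z ∈ Z, k * z * k⁻¹ * z⁻¹ ∈ N}
      one_mem' := fun z _ => by simp [one_mem]
      mul_mem' := by
        intro k l hk hl z hz
        have h3 := mul_mem (hk _ (conjZ l z hz)) (hl z hz)
        have e1 : k * (l * z * l⁻¹) * k⁻¹ * (l * z * l⁻¹)⁻¹ * (l * z * l⁻¹ * z⁻¹) =
          k * l * z * (k * l)⁻¹ * z⁻¹ := by group
        rwa [e1] at h3
      inv_mem' := by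
        intro k hk z hz
        have h3 := inv_mem (hk _ (conjZ k⁻¹ z hz))
        have e1 : (k * (k⁻¹ * z * k⁻¹⁻¹) * k⁻¹ * (k⁻¹ * z * k⁻¹⁻¹)⁻¹)⁻¹ = k⁻¹ * z * k⁻¹⁻¹ * z⁻¹ := by group
        rwa [e1] at h3 }
  have hHn : H.Normal := ⟨fun k hk g z hz => by
    have h3 := hNn g _ (hk _ (conjZ g⁻¹ z hz))
    have e1 : g * (k * (g⁻¹ * z * g⁻¹⁻¹) * k⁻¹ * (g⁻¹ * z * g⁻¹⁻¹)⁻¹) * g⁻¹ =
      g * k * g⁻¹ * z * (g * k * g⁻¹)⁻¹ * z⁻¹ := by group
    rwa [e1] at h3⟩
  have hfH : f ∈ H := by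
    refine hsim H hHn (fun c hc z hz => ?_) fun z hz => hle (ha z hz)
    have e1 : c * z * c⁻¹ * z⁻¹ = 1 := by
      rw [← mem_centralizer_iff.1 hc z hz]; group
    rw [e1]
    exact one_mem _
  apply hw0
  rw [← hwZ, tr_fix h2 hodd]
  intro z hz
  refine odd_fix hodd hz (hw _ ?_)
  have h3 := mul_mem (hle (hb z hz)) (inv_mem (hfH z hz))
  have e1 : z * (f * z * f⁻¹) * (f * z * f⁻¹ * z⁻¹)⁻¹ = z * ((f * z * f⁻¹) * z) * (f * z * f⁻¹)⁻¹ := by group
  rw [e1, hZ _ (conjZ f z hz) _ hz] at h3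
  have e2 : z * (z * (f * z * f⁻¹)) * (f * z * f⁻¹)⁻¹ = z * z := by group
  rwa [e2] at h3

/-- splitting of a square under an involution -/
theorem split_pm (hn : Z.Normal) (hZ : ∀ a ∈ Z, ∀ b ∈ Z, a * b = b * a) {k z : K} (hk : k * k = 1) (hz : z ∈ Z) :
    ∃ p ∈ Z, ∃ m ∈ Z, p * m = z * z ∧ k * p = p * k ∧ k * m = m⁻¹ * k ∧
      p = z * (k * z * k⁻¹) ∧ m = z * (k * z⁻¹ * k⁻¹) := by
  have kinv : k⁻¹ = k := inv_eq_of_mul_eq_one_left hk
  have h1 : k * z * k⁻¹ ∈ Z := hn.conj_mem _ hz k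
  have h2 : k * z⁻¹ * k⁻¹ ∈ Z := hn.conj_mem _ (inv_mem hz) k
  refine ⟨z * (k * z * k⁻¹), mul_mem hz h1, z * (k * z⁻¹ * k⁻¹), mul_mem hz h2, ?_, ?_, ?_, rfl, rfl⟩
  · have e1 : z * (k * z * k⁻¹) * (z * (k * z⁻¹ * k⁻¹)) = z * ((k * z * k⁻¹) * z) * (k * z⁻¹ * k⁻¹) := by group
    rw [e1, hZ _ h1 _ hz]; group
  · have e1 : k * (z * (k * z * k⁻¹)) = (k * z * k⁻¹) * (k * k * z * k⁻¹) := by group
    have e2 : z * (k * z * k⁻¹) * k = z * (k * z) := by group
    have h3 : k * z * k ∈ Z := by rw [kinv] at h1; exact h1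
    rw [e1, hk, one_mul, e2, kinv]
    have e3 : k * z * k * (z * k) = (k * z * k * z) * k := by group
    rw [e3, hZ _ h3 _ hz]
    have e4 : z * (k * z * k) * k = z * (k * z * (k * k)) := by group
    rw [e4, hk, mul_one]
  · have e1 : k * (z * (k * z⁻¹ * k⁻¹)) = (k * z * k⁻¹) * (k * k * z⁻¹ * k⁻¹) := by group
    have e2 : (z * (k * z⁻¹ * k⁻¹))⁻¹ * k = (k * z * k⁻¹) * z⁻¹ * k := by group
    rw [e1, e2, hk, one_mul, kinv]
    group

theorem inh_fix {e f z : K} (hef : e * f = f * e) (h : e * z = z * e) :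
    e * (z * (f * z * f⁻¹)) = z * (f * z * f⁻¹) * e ∧ e * (z * (f * z⁻¹ * f⁻¹)) = z * (f * z⁻¹ * f⁻¹) * e := by
  have c1 : Commute e z := h
  have c2 : Commute e f := hef
  exact ⟨(c1.mul_right ((c2.mul_right c1).mul_right c2.inv_right)).eq,
    (c1.mul_right ((c2.mul_right c1.inv_right).mul_right c2.inv_right)).eq⟩

theorem inh_inv (hn : Z.Normal) (hZ : ∀ a ∈ Z, ∀ b ∈ Z, a * b = b * a) {e f z : K} (hz : z ∈ Z)
    (hef : e * f = f * e) (h : e * z = z⁻¹ * e) :
    e * (z * (f * z * f⁻¹)) = (z * (f * z * f⁻¹))⁻¹ * e ∧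
      e * (z * (f * z⁻¹ * f⁻¹)) = (z * (f * z⁻¹ * f⁻¹))⁻¹ * e := by
  have h1 : e * z * e⁻¹ = z⁻¹ := by rw [h]; group
  have h1' : e * z⁻¹ * e⁻¹ = z := by
    have : (e * z * e⁻¹)⁻¹ = z⁻¹⁻¹ := by rw [h1]
    rw [inv_inv] at this
    have e1 : e * z⁻¹ * e⁻¹ = (e * z * e⁻¹)⁻¹ := by group
    rw [e1, this]
  have c : e⁻¹ * f⁻¹ = f⁻¹ * e⁻¹ := by
    have := congrArg (fun t => t⁻¹) hef
    simpa using this.symm
  have m1 : f * z⁻¹ * f⁻¹ ∈ Z := hn.conj_mem _ (inv_mem hz) f
  have m2 : f * z * f⁻¹ ∈ Z := hn.conj_mem _ hz f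
  constructor
  · have e1 : e * (z * (f * z * f⁻¹)) = (e * z * e⁻¹) * ((e * f) * z * (f⁻¹ * e⁻¹)) * e := by group
    rw [e1, hef, ← c, h1]
    have e2 : f * e * z * (e⁻¹ * f⁻¹) = f * (e * z * e⁻¹) * f⁻¹ := by group
    rw [e2, h1, hZ _ (inv_mem hz) _ m1]
    group
  · have e1 : e * (z * (f * z⁻¹ * f⁻¹)) = (e * z * e⁻¹) * ((e * f) * z⁻¹ * (f⁻¹ * e⁻¹)) * e := by group
    rw [e1, hef, ← c, h1]
    have e2 : f * e * z⁻¹ * (e⁻¹ * f⁻¹) = f * (e * z⁻¹ * e⁻¹) * f⁻¹ := by group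
    rw [e2, h1', hZ _ (inv_mem hz) _ m2]
    group

/-- **LEMMA QW.** -/
theorem fix_abelian (h2 : ∀ w : W, w + w = 0) (hn : Z.Normal) (hZ : ∀ a ∈ Z, ∀ b ∈ Z, a * b = b * a)
    (hodd : Odd (Nat.card Z)) (he : e * e = 1) (hf : f * f = 1) (hef : e * f = f * e)
    (quad : ∀ w : W, w + e • w + f • w + (e * f) • w = 0) (g₀ : K)
    (hgen : ∀ H : Subgroup K, centralizer (Z : Set K) ≤ H → e ∈ H → f ∈ H →
      (g₀ * e * g₀⁻¹ ∈ H ∨ g₀ * f * g₀⁻¹ ∈ H ∨ g₀ * (e * f) * g₀⁻¹ ∈ H) → H = ⊤)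
    (hsim : ∀ H : Subgroup K, H.Normal → centralizer (Z : Set K) ≤ H → (e ∈ H ∨ f ∈ H ∨ e * f ∈ H) →
      e ∈ H ∧ f ∈ H) {y : W}
    (hyC : ∀ z ∈ Z, z * e = e * z → z * f = f * z → z • y = y) : ∀ z ∈ Z, z • y = y := by
  have hfe := hef.symm
  -- the three cores
  have ce : ∀ d ∈ Z, e * d = d * e → f * d = d⁻¹ * f → d • y = y := fun d hd h3 h4 =>
    core h2 hn hZ hodd he hf hef quad g₀ hgen (fun H h5 h6 h7 => (hsim H h5 h6 (Or.inl h7)).2) hyC hd h3.symm h4
  have cf : ∀ d ∈ Z, f * d = d * f → e * d = d⁻¹ * e → d • y = y := fun d hd h3 h4 => by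
    refine core h2 hn hZ hodd hf he hfe (fun w => ?_) g₀ (fun H h5 h6 h7 h8 => hgen H h5 h7 h6 ?_)
      (fun H h5 h6 h7 => (hsim H h5 h6 (Or.inr (Or.inl h7))).1) (fun z hz h5 h6 => hyC z hz h6 h5) hd h3.symm h4
    · rw [← hef, ← quad w]; abel
    · rw [← hef] at h8
      rcases h8 with h8 | h8 | h8
      · exact Or.inr (Or.inl h8)
      · exact Or.inl h8
      · exact Or.inr (Or.inr h8)
  have cg : ∀ d ∈ Z, (e * f) * d = d * (e * f) → f * d = d⁻¹ * f → d • y = y := fun d hd h3 h4 => by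
    have hg1 : e * f * (e * f) = 1 := by
      rw [mul_assoc, ← mul_assoc f e f, ← hef, mul_assoc e f f, hf, mul_one, he]
    have hg2 : e * f * f = f * (e * f) := by rw [← mul_assoc f, ← hef]
    have hg3 : e * f * f = e := by rw [mul_assoc, hf, mul_one]
    refine core h2 hn hZ hodd hg1 hf hg2 (fun w => ?_) g₀ (fun H h5 h6 h7 h8 => hgen H h5 ?_ h7 ?_)
      (fun H h5 h6 h7 => (hsim H h5 h6 (Or.inr (Or.inr h7))).2) (fun z hz h5 h6 => hyC z hz ?_ h6) hd h3.symm h4
    · rw [hg3, ← quad w]; abel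
    · have := mul_mem h6 h7
      rwa [hg3] at this
    · rw [hg3] at h8
      rcases h8 with h8 | h8 | h8
      · exact Or.inr (Or.inr h8)
      · exact Or.inr (Or.inl h8)
      · exact Or.inl h8
    · have c1 : Commute z (e * f) := h5
      have c2 : Commute z f := h6
      have := c1.mul_right c2
      rw [hg3] at this
      exact this.eq
  -- elements fixed by `e`
  have he1 : ∀ z ∈ Z, e * z = z * e → z • y = y := by
    intro z hz h3
    obtain ⟨p, hp, m, hm, e1, h4, h5, rfl, rfl⟩ := split_pm hn hZ hf hz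
    obtain ⟨h6, h7⟩ := inh_fix hef h3
    refine odd_fix hodd hz ?_
    rw [← e1, mul_smul, ce _ hm h7 h5]
    exact hyC _ hp h6.symm h4.symm
  have he2 : ∀ z ∈ Z, e * z = z⁻¹ * e → z • y = y := by
    intro z hz h3
    obtain ⟨p, hp, m, hm, e1, h4, h5, rfl, rfl⟩ := split_pm hn hZ hf hz
    obtain ⟨h6, h7⟩ := inh_inv hn hZ hz hef h3
    refine odd_fix hodd hz ?_
    rw [← e1, mul_smul]
    rw [cg _ hm ?_ h5]
    · exact cf _ hp h4 h6
    · generalize z * (f * z⁻¹ * f⁻¹) = m at h5 h7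
      have e2 : e * m⁻¹ = m * e := by
        have : e * m * e⁻¹ = m⁻¹ := by rw [h7]; group
        have h8 : (e * m * e⁻¹)⁻¹ = m⁻¹⁻¹ := by rw [this]
        rw [inv_inv] at h8
        have e3 : e * m⁻¹ = (e * m * e⁻¹)⁻¹ * e := by group
        rw [e3, h8]
      rw [mul_assoc, h5, ← mul_assoc, e2, mul_assoc]
  intro z hz
  obtain ⟨p, hp, m, hm, e1, h4, h5, -, -⟩ := split_pm hn hZ he hz
  refine odd_fix hodd hz ?_
  rw [← e1, mul_smul, he2 _ hm h5, he1 _ hp h4]

end core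

/-- A vector centralised by a subgroup `N` of index 5 is centralised by `K` if a quadratic four-group is regular on the
other four points. -/
theorem fix_of_five {e f : K} (he : e * e = 1) (hf : f * f = 1) (hef : e * f = f * e)
    (quad : ∀ w : W, w + e • w + f • w + (e * f) • w = 0) {N : Subgroup K} (h5 : N.index = 5)
    (hreg : ∀ g : K, g ∉ N → g⁻¹ * e * g ∉ N ∧ g⁻¹ * f * g ∉ N ∧ g⁻¹ * (e * f) * g ∉ N)
    (heN : e ∈ N) (hfN : f ∈ N) {y : W} (hy : ∀ n ∈ N, n • y = y) (k : K) : k • y = y := by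
  classical
  have : Fintype (K ⧸ N) := Fintype.ofFinite _
  have hY : ∀ a b : K, (a : K ⧸ N) = b → a • y = b • y := by
    intro a b h
    have h3 := QuotientGroup.eq.1 h
    have h4 := hy _ h3
    have h6 : a • (a⁻¹ * b) • y = a • y := by rw [h4]
    rw [← mul_smul] at h6
    rw [← h6]
    congr 1
    group
  let Y : K ⧸ N → W := fun p => (Quotient.out p : K) • y
  have hYa : ∀ a : K, Y (a : K ⧸ N) = a • y := fun a => hY _ _ (QuotientGroup.out_eq' _)
  -- the total sum is fixed by `K`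
  have hsum : ∀ g : K, g • ∑ p : K ⧸ N, Y p = ∑ p : K ⧸ N, Y p := by
    intro g
    rw [Finset.smul_sum]
    refine Fintype.sum_equiv (MulAction.toPerm g) _ _ fun p => ?_
    obtain ⟨a, rfl⟩ := QuotientGroup.mk_surjective p
    rw [hYa]
    change g • a • y = Y (g • (a : K ⧸ N))
    have : g • (a : K ⧸ N) = ((g * a : K) : K ⧸ N) := rfl
    rw [this, hYa, mul_smul]
  -- it is `y`
  have hcard : Fintype.card (K ⧸ N) = 5 := by rw [← Nat.card_eq_fintype_card]; exact h5
  obtain ⟨g, hg⟩ : ∃ g : K, g ∉ N := by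
    by_contra hcon
    push Not at hcon
    have : N = ⊤ := (eq_top_iff' _).2 hcon
    rw [this, index_top] at h5
    norm_num at h5
  obtain ⟨r1, r2, r3⟩ := hreg g hg
  have einv : e⁻¹ = e := inv_eq_of_mul_eq_one_left he
  have finv : f⁻¹ = f := inv_eq_of_mul_eq_one_left hf
  have ne1 : ∀ t ∈ N, ((t * g : K) : K ⧸ N) ≠ ((1 : K) : K ⧸ N) := by
    intro t ht h
    have h3 := QuotientGroup.eq.1 h
    rw [mul_one] at h3
    have h4 := inv_mem h3
    rw [inv_inv] at h4
    apply hg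
    have h6 := mul_mem (inv_mem ht) h4
    rwa [← mul_assoc, inv_mul_cancel, one_mul] at h6
  have ne2 : ∀ s t : K, g⁻¹ * (s⁻¹ * t) * g ∉ N → ((s * g : K) : K ⧸ N) ≠ ((t * g : K) : K ⧸ N) := by
    intro s t hst h
    apply hst
    have h3 := QuotientGroup.eq.1 h
    have e1 : (s * g)⁻¹ * (t * g) = g⁻¹ * (s⁻¹ * t) * g := by group
    rwa [e1] at h3
  have hs : (Finset.univ : Finset (K ⧸ N)) =
      {((1 : K) : K ⧸ N), ((1 * g : K) : K ⧸ N), ((e * g : K) : K ⧸ N), ((f * g : K) : K ⧸ N),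
        ((e * f * g : K) : K ⧸ N)} := by
    symm
    apply Finset.eq_univ_of_card
    rw [hcard, Finset.card_insert_of_notMem, Finset.card_insert_of_notMem, Finset.card_insert_of_notMem,
      Finset.card_insert_of_notMem, Finset.card_singleton]
    · simp only [Finset.mem_singleton]
      refine ne2 _ _ ?_
      have e1 : g⁻¹ * (f⁻¹ * (e * f)) * g = g⁻¹ * e * g := by rw [hef]; group
      rwa [e1]
    · simp only [Finset.mem_insert, Finset.mem_singleton, not_or]
      refine ⟨ne2 _ _ ?_, ne2 _ _ ?_⟩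
      · rwa [einv]
      · have e1 : g⁻¹ * (e⁻¹ * (e * f)) * g = g⁻¹ * f * g := by group
        rwa [e1]
    · simp only [Finset.mem_insert, Finset.mem_singleton, not_or]
      refine ⟨ne2 _ _ ?_, ne2 _ _ ?_, ne2 _ _ ?_⟩ <;> rw [inv_one, one_mul]
      · exact r1
      · exact r2
      · exact r3
    · simp only [Finset.mem_insert, Finset.mem_singleton, not_or]
      exact ⟨(ne1 1 (one_mem _)).symm, (ne1 e heN).symm, (ne1 f hfN).symm, (ne1 _ (mul_mem heN hfN)).symm⟩
  have htot : ∑ p : K ⧸ N, Y p = y := by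
    rw [hs, Finset.sum_insert, Finset.sum_insert, Finset.sum_insert, Finset.sum_insert, Finset.sum_singleton,
      hYa, hYa, hYa, hYa, hYa, one_smul, one_mul]
    · have := quad (g • y)
      rw [← mul_smul, ← mul_smul, ← mul_smul] at this
      have e1 : g • y + ((e * g) • y + ((f * g) • y + (e * f * g) • y)) =
        g • y + (e * g) • y + (f * g) • y + (e * f * g) • y := by abel
      rw [e1, this, add_zero]
    · simp only [Finset.mem_singleton]
      refine ne2 _ _ ?_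
      have e1 : g⁻¹ * (f⁻¹ * (e * f)) * g = g⁻¹ * e * g := by rw [hef]; group
      rwa [e1]
    · simp only [Finset.mem_insert, Finset.mem_singleton, not_or]
      refine ⟨ne2 _ _ ?_, ne2 _ _ ?_⟩
      · rwa [einv]
      · have e1 : g⁻¹ * (e⁻¹ * (e * f)) * g = g⁻¹ * f * g := by group
        rwa [e1]
    · simp only [Finset.mem_insert, Finset.mem_singleton, not_or]
      refine ⟨ne2 _ _ ?_, ne2 _ _ ?_, ne2 _ _ ?_⟩ <;> rw [inv_one, one_mul]
      · exact r1
      · exact r2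
      · exact r3
    · simp only [Finset.mem_insert, Finset.mem_singleton, not_or]
      exact ⟨(ne1 1 (one_mem _)).symm, (ne1 e heN).symm, (ne1 f hfN).symm, (ne1 _ (mul_mem heN hfN)).symm⟩
  rw [← htot]
  exact hsum k

end Cfsg.Agent.Omega.OM.Lev.Low.QW
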