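import Cfsg.Agent.Omega.OM.Lev.Low.TwoBlk
import Cfsg.Agent.Omega.TC.UniLev

/-!
# TORUS, `k = 2 = q` (helper109 #23071, (C), (D)): the torus element, the lines, `N_S([V, B₀]) = B`

* `exists_tor` : `TwoBlk.exists_one` with a torus element `τ ∈ K ∩ N(B)` and (LINE);
* `line_c` : after the splitting `⁅V, K⁆ ∩ D = 1`: `c = ⁅V, K⁆ ∩ N₁ = [⁅V, K⁆, B]` and distinct `H`-conjugates of `c` meet
  trivially;
* `not_norm` : **(D)**.
-/

set_option autoImplicit false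
set_option linter.unusedSectionVars false

namespace Cfsg.Agent.Omega.OM.Lev.Low.Two

open Subgroup Cfsg Cfsg.Agent.ZN Cfsg.Agent.ZN.ChoiceBase Cfsg.Agent.ZN.ChoiceSit
open Cfsg.Agent.Omega.NatPair (ap ap_zero' ap_one' ap_one ap_mul ext2 ap_inv_ap ap_inj)
open Cfsg.Agent.Lib.SL2Mat
open Cfsg.Agent.Omega.SQ1.FFOne (MinH)
open Cfsg.Agent.Omega.NO3S.OneLine (NatC single_acts natC_of zc_elem)
open Cfsg.Agent.Omega.NO3S.OneLine.NatC (acts_mul acts_inv acts_one acts_unique)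
open Cfsg.Agent.Omega.OM.Lev.Nat (Wn mem_Wn Xn mem_Xn ap_z exists_up)
open Cfsg.Agent.Omega.OM.GLev
open Cfsg.Agent.Omega.FFThm (NatK NatKM ActsSL)
open Cfsg.Agent.Omega.SQ1.Bau (elem_comm elem_sq Mv)
open Cfsg.Agent.Omega.FrameFF (cv)
open Cfsg.Agent.Omega.OM.Lev.Low
open Cfsg.Agent.Omega.OM.Lev.Low.TwoBlk (exists_ldp norm_comm)
open scoped commutatorElement

universe u

variable {G : Type u} [Group G]

/-! ### (LINE) -/

section line

variable [Finite G] {F : Type} [Field F] [CharP F 2] {T H V D : Subgroup G} {k : ℕ} {M : NatC F T H V D k}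

/-- an element of `H` which moves the `i`-th summand to the `m`-th and maps a nonzero vector of the line to the line
maps the line to the line -/
theorem line_of {y : G} (hy : y ∈ H) {i m : Fin k} (hm : MvI M y i m) {v : G} (hv : v ∈ Low.Li M i) (hvD : v ∉ D)
    (h1 : M.nat.e (y * v * y⁻¹) m 1 = 0) {w : G} (hw : w ∈ V) (hw1 : M.nat.e w i 1 = 0) :
    M.nat.e (y * w * y⁻¹) m 1 = 0 := by
  classical
  obtain ⟨u, hu, hu1⟩ := M.nat.lift (Pi.mulSingle i (up 1))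
  have hU : Ons M i u (up 1) := ⟨hu, hu1⟩
  obtain ⟨A', hA'⟩ := hU.conj hy hm
  have hyu : y * u * y⁻¹ ∈ H := hA'.1
  -- `A'` fixes the image of the line
  have key : ∀ x ∈ V, M.nat.e x i 1 = 0 → ap A' (M.nat.e (y * x * y⁻¹) m) = M.nat.e (y * x * y⁻¹) m := by
    intro x hx hx1
    have hyx := M.Vn y hy x hx
    rw [← hA'.e_i hyx]
    have e : y * u * y⁻¹ * (y * x * y⁻¹) * (y * u * y⁻¹)⁻¹ = y * (u * x * u⁻¹) * y⁻¹ := by group
    have hux := M.Vn u hu x hx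
    have h2 : M.nat.e (u * x * u⁻¹ * x⁻¹) i = 0 := by
      rw [M.map_div hux hx, Pi.sub_apply, hU.e_i hx]
      apply ext2
      · rw [Pi.sub_apply, ap_zero', hx1]; simp
      · rw [Pi.sub_apply, ap_one', hx1]; simp
    have h3 := (hm _ (mul_mem hux (inv_mem hx))).2 h2
    have e2 : y * (u * x * u⁻¹ * x⁻¹) * y⁻¹ = y * (u * x * u⁻¹) * y⁻¹ * (y * x * y⁻¹)⁻¹ := by group
    rw [e2, M.map_div (M.Vn y hy _ hux) hyx, Pi.sub_apply, sub_eq_zero] at h3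
    rw [e, h3]
  -- `A'` is upper unitriangular
  have hyv := M.Vn y hy v hv.1
  have hne : M.nat.e (y * v * y⁻¹) m 0 ≠ 0 := by
    intro h0
    apply hvD
    have h2 : M.nat.e v i = 0 := (hm v hv.1).1 (ext2 h0 h1)
    exact Li_D hv (by rw [h2]; rfl)
  have h2 := key v hv.1 hv.2.2
  have h20 := congrFun h2 0
  have h21 := congrFun h2 1
  rw [ap_zero', h1, mul_zero, add_zero] at h20
  rw [ap_one', h1, mul_zero, add_zero] at h21
  have h10 : ent A' 1 0 = 0 := (mul_eq_zero.1 h21).resolve_right hne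
  have h00 : ent A' 0 0 = 1 := mul_right_cancel₀ hne (by rw [h20, one_mul])
  have h01 : ent A' 0 1 ≠ 0 := by
    intro h01
    have h11 := det_eq A'
    rw [h10, h00, mul_zero, sub_zero, one_mul] at h11
    -- `y u y⁻¹` acts trivially on the `m`-th summand, `u` on the `i`-th
    obtain ⟨x, hx, ex⟩ := exists_vec M i ![0, 1]
    have hyx := M.Vn y hy x hx.1
    have hux := M.Vn u hu x hx.1
    have h3 : M.nat.e (y * u * y⁻¹ * (y * x * y⁻¹) * (y * u * y⁻¹)⁻¹) m = M.nat.e (y * x * y⁻¹) m := by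
      rw [hA'.e_i hyx]
      apply ext2
      · rw [ap_zero', h00, h01]; simp
      · rw [ap_one', h10, h11]; simp
    have e : y * u * y⁻¹ * (y * x * y⁻¹) * (y * u * y⁻¹)⁻¹ = y * (u * x * u⁻¹) * y⁻¹ := by group
    rw [e] at h3
    have h4 : M.nat.e (y * (u * x * u⁻¹ * x⁻¹) * y⁻¹) m = 0 := by
      have e2 : y * (u * x * u⁻¹ * x⁻¹) * y⁻¹ = y * (u * x * u⁻¹) * y⁻¹ * (y * x * y⁻¹)⁻¹ := by group
      rw [e2, M.map_div (M.Vn y hy _ hux) hyx, Pi.sub_apply, h3, sub_self]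
    have h5 := (hm _ (mul_mem hux (inv_mem hx.1))).1 h4
    rw [M.map_div hux hx.1, Pi.sub_apply, hU.e_i hx.1, ex] at h5
    have h6 := congrFun h5 0
    rw [Pi.sub_apply, ap_zero'] at h6
    simp at h6
  have h3 := congrFun (key w hw hw1) 0
  rw [ap_zero', h00, one_mul] at h3
  have h4 : ent A' 0 1 * M.nat.e (y * w * y⁻¹) m 1 = 0 := by
    have h5 := h3
    rwa [add_eq_left] at h5
  exact (mul_eq_zero.1 h4).resolve_left h01

end line

/-! ### The torus element -/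

section main

variable [Finite G] {F : Type} [Field F] [Finite F] [CharP F 2] {T H X B ZJ : Subgroup G} {AA : Set (Subgroup G)}

/-- **One natural factor, `|F| > 2`**: `TwoBlk.exists_one` with a torus element `τ` and (LINE). -/
theorem exists_tor (h : GE T H X AA) (b : BZ T X AA B ZJ) (N : NatKM F T H (zl T H) (cv T H) 1)
    (hex : ∃ A ∈ AA, ¬ A ≤ o2 H) (hF : 2 < Nat.card F) :
    ∃ K N₁ c τ, B ≤ K ∧ K ≤ H ∧ PB B K (zl T H) N₁ (cv T H) (Nat.card F) ∧ H ≤ T ⊔ K ∧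
      T ≤ normalizer ((⁅zl T H, K⁆ : Subgroup G) : Set G) ∧
      YB T ZJ (fun _ : Fin 1 => ZJ ⊓ centralizer (K : Set G)) (fun _ => c) ∧ c ≤ N₁ ∧ N₁ ≤ c ⊔ cv T H ∧
      c ⊓ cv T H = ⊥ ∧ Nat.card c = Nat.card F ∧
      τ ∈ K ∧ τ ∈ normalizer (B : Set G) ∧ cj τ c = c ∧ (∀ x ∈ c, τ * x * τ⁻¹ = x → x = 1) ∧
      (∀ v ∈ zl T H, τ * v * τ⁻¹ * v⁻¹ ∈ cv T H → v ∈ cv T H) ∧ c ≤ ⁅⁅zl T H, K⁆, B⁆ ∧
      ∀ y ∈ H, ∀ v ∈ N₁, v ∉ cv T H → y * v * y⁻¹ ∈ N₁ → cj y N₁ = N₁ := by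
  classical
  obtain ⟨L, j, N₁, hLD, hPB, hHT, hup, hcov⟩ := exists_ldp h b N one_pos hex
  set M := natC_of h.hm one_pos N.toNatK with hM
  have hW : Wn M j = zl T H := by
    ext v
    rw [mem_Wn]
    exact ⟨fun hv => hv.1, fun hv => ⟨hv, fun i hi => absurd (Subsingleton.elim i j) hi⟩⟩
  rw [hW] at hPB hcov
  have hTH := h.TH
  obtain ⟨a, ha0, ha1⟩ : ∃ a : F, a ≠ 0 ∧ a ≠ 1 := by
    by_contra hcon
    push Not at hcon
    have h1 : (Set.univ : Set F) ⊆ {0, 1} := by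
      intro x _
      by_cases hx : x = 0
      · exact Or.inl hx
      · exact Or.inr (hcon x hx)
    have h2 := Set.ncard_le_ncard h1 (Set.toFinite _)
    rw [Set.ncard_univ] at h2
    have h4 := Set.ncard_insert_le (0 : F) {1}
    rw [Set.ncard_singleton] at h4
    omega
  have hc := hLD.co_tor ha0 ha1
  set c : Fin 1 → Subgroup G := fun i => ⨆ (l : G) (hl : Tor M i l), Cl M i l hl.memH with hcdef
  have hy := hLD.yb_aux hc fun i s hs t ht hsm htm => cyc_line h.hm N one_pos hs hsm ht htm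
  have hZB : zc B = ZJ := b.zcB
  have hN1 : ∀ v, v ∈ N₁ ↔ v ∈ Low.Li M j := by
    intro v
    constructor
    · intro hv
      have hvV := hPB.N1N hv
      have h1 := (BlOf.line_iff hPB hvV).1 hv
      rw [hZB] at h1
      exact ⟨hvV, fun i hi => absurd (Subsingleton.elim i j) hi, (hLD.mem v hvV).1 h1 j⟩
    · intro hv
      have h1 := hLD.LiZ j hv
      rw [← hZB] at h1
      exact (BlOf.line_iff hPB hv.1).2 h1
  have hNi : ∀ i, Ni M ZJ L j i = ZJ ⊓ centralizer (L : Set G) := by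
    intro i
    rw [Subsingleton.elim i j]
    ext x
    constructor
    · intro hx
      obtain ⟨hxZ, hx'⟩ := mem_Ni.1 hx
      refine mem_inf.2 ⟨hxZ, mem_centralizer_iff.2 fun l hl => ?_⟩
      have h1 := hx' 1 (one_mem _) (MvI.one j) l hl
      simpa using h1
    · intro hx
      obtain ⟨hxZ, hx'⟩ := mem_inf.1 hx
      refine hLD.mem_Ni_of (one_mem _) (MvI.one j) hxZ fun l hl => ?_
      simpa using mem_centralizer_iff.1 hx' l hl
  have hci : ∀ i, c i = c j := fun i => by rw [Subsingleton.elim i j]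
  have hy' : YB T ZJ (fun _ : Fin 1 => ZJ ⊓ centralizer (L : Set G)) (fun _ => c j) := by
    have e1 : (fun _ : Fin 1 => ZJ ⊓ centralizer (L : Set G)) = Ni M ZJ L j := funext fun i => (hNi i).symm
    have e2 : (fun _ : Fin 1 => c j) = c := funext fun i => (hci i).symm
    rw [e1, e2]
    exact hy
  have hle : c j ≤ N₁ := fun v hv => (hN1 v).2 (hc.le j hv)
  have hdis : c j ⊓ cv T H = ⊥ := by
    rw [eq_bot_iff]
    rintro v ⟨hv, hv'⟩
    exact mem_bot.2 (hc.dis j v hv hv')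
  have hsup : N₁ ≤ c j ⊔ cv T H := by
    intro v hv
    obtain ⟨a, ha, d, hd, rfl⟩ := hc.cov j v ((hN1 v).1 hv)
    exact mul_mem (mem_sup_left ha) (mem_sup_right hd)
  -- the torus element
  obtain ⟨τ, hτL, hτB, hτ⟩ : ∃ τ ∈ L, τ ∈ normalizer (B : Set G) ∧ Tor M j τ := by
    obtain ⟨l0, hl0, hl0A⟩ := hcov (dg a ha0)
    obtain ⟨z, hz, ez⟩ := exists_line M j 1
    have hz' : l0 * z * l0⁻¹ ∈ zl T H := M.Vn l0 (hLD.LH hl0) z hz.1
    have e0 : M.nat.e (l0 * z * l0⁻¹) j = ap (dg a ha0) (M.nat.e z j) := hl0A z hz.1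
    have e00 : M.nat.e (l0 * z * l0⁻¹) j 0 = a := by rw [e0, ap_zero', ez, hz.2.2]; simp
    have e01 : M.nat.e (l0 * z * l0⁻¹) j 1 = 0 := by rw [e0, ap_one', ez, hz.2.2]; simp
    have hzD : z ∉ cv T H := by
      intro hzD
      have := D_e (M := M) hzD
      rw [this] at ez
      exact zero_ne_one ez
    have hz'D : l0 * z * l0⁻¹ ∉ cv T H := by
      intro hzD
      have := D_e (M := M) hzD
      rw [this] at e00
      exact ha0 e00.symm
    have hz'N : l0 * z * l0⁻¹ ∈ N₁ := (hN1 _).2 ⟨hz', fun i hi => absurd (Subsingleton.elim i j) hi, e01⟩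
    obtain ⟨τ, hτ, hτB, hτD⟩ := hPB.tor z ((hN1 z).2 hz) hzD _ hz'N hz'D
    have hτz := M.Vn τ (hLD.LH hτ) z hz.1
    have e2 := D_e (M := M) hτD
    rw [M.map_div hτz hz', sub_eq_zero] at e2
    obtain ⟨A, hA, -⟩ := hup τ hτ
    have e3 : M.nat.e (τ * z * τ⁻¹) j = ap (A j) (M.nat.e z j) := hA z hz.1 j
    have h00 : ent (A j) 0 0 = a := by
      have h1 := congrFun e3 0
      rw [e2, e00, ap_zero', ez, hz.2.2] at h1
      simpa using h1.symm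
    have h10 : ent (A j) 1 0 = 0 := by
      have h1 := congrFun e3 1
      rw [e2, e01, ap_one', ez, hz.2.2] at h1
      simpa using h1.symm
    refine ⟨τ, hτ, hτB, A j, ⟨hLD.LH hτ, fun v hv i => ?_, fun d hd => hLD.cD τ hτ d hd⟩, h10, by rw [h00]; exact ha1⟩
    rw [Subsingleton.elim i j, Pi.mulSingle_eq_same]
    exact hA v hv j
  have hcj : c j = Cl M j τ hτ.memH := by
    apply le_antisymm
    · exact iSup_le fun l' => iSup_le fun hl' => hl'.Cl_le_Cl hLD hτ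
    · exact le_iSup_of_le τ (le_iSup_of_le hτ le_rfl)
  refine ⟨L, N₁, c j, τ, hLD.BL, hLD.LH, hPB, hHT,
    fun t ht => mem_normalizer_of_cj_le (norm_comm ?_ fun l hl => ?_), hy',
    hle, hsup, hdis, ?_, hτL, hτB, ?_, fun x hx hfx => ?_, fun v hv hvD => ?_, ?_, ?_⟩
  · exact MinSimple.VModule.le_normalizer_zl T H (hTH ht)
  · -- `t l t⁻¹` acts as some `l' ∈ L`
    obtain ⟨A₁, hA₁, -⟩ := hup l hl
    obtain ⟨A₂, hA₂⟩ := N.norm t (hTH ht) l (hLD.LH hl) A₁ hA₁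
    obtain ⟨l', hl', hl'A⟩ := hcov (A₂ j)
    refine ⟨l', hl', fun v hv => ?_⟩
    have hl'' : M.Acts l' A₂ := by
      intro w hw i
      rw [Subsingleton.elim i j]
      exact hl'A w hw
    have htl : t * l * t⁻¹ ∈ H := mul_mem (mul_mem (hTH ht) (hLD.LH hl)) (inv_mem (hTH ht))
    have hs : l'⁻¹ * (t * l * t⁻¹) ∈ M.stab := by
      refine ⟨mul_mem (inv_mem (hLD.LH hl')) htl, ?_, fun d hd => ?_⟩
      · have h1 := acts_mul (M := M) htl (acts_inv (M := M) (hLD.LH hl') hl'') hA₂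
        rwa [inv_mul_cancel] at h1
      · have h1 : Commute l' d := hLD.cD l' hl' d hd
        have h2 : Commute (t * l * t⁻¹) d := by
          have hd' : t⁻¹ * d * t ∈ cv T H := by
            have := M.Dn t⁻¹ (inv_mem (hTH ht)) d hd
            rwa [inv_inv] at this
          have h3 := hLD.cD l hl _ hd'
          show t * l * t⁻¹ * d = d * (t * l * t⁻¹)
          calc t * l * t⁻¹ * d = t * (l * (t⁻¹ * d * t)) * t⁻¹ := by group
            _ = t * (t⁻¹ * d * t * l) * t⁻¹ := by rw [h3]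
            _ = _ := by group
        exact (h1.inv_left.mul_left h2).eq
    have h3 := M.cent_of_stab h.hm hs hv
    have e : t * l * t⁻¹ = l' * (l'⁻¹ * (t * l * t⁻¹)) := by group
    rw [e]
    set s := l'⁻¹ * (t * l * t⁻¹)
    calc l' * s * v * (l' * s)⁻¹ = l' * (s * v * s⁻¹) * l'⁻¹ := by group
      _ = l' * v * l'⁻¹ := by rw [h3]; group
  · -- `|c| = |F|`
    have hc1 : ∀ a ∈ c j, ∀ d ∈ cv T H, a * d = d * a := fun a ha d hd =>
      M.Vcomm (hc.le j ha).1 (M.DV hd)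
    have h1 := Cfsg.Agent.Omega.SQ1.Bau.card_sup_comm hc1
    have e : c j ⊔ cv T H = N₁ := le_antisymm (sup_le hle hPB.N01) hsup
    rw [e, hdis, Subgroup.card_bot, mul_one, hPB.card1, mul_comm (Nat.card (c j))] at h1
    exact (Nat.eq_of_mul_eq_mul_left Nat.card_pos h1).symm
  · -- `τ` normalises `c`
    refine cj_eq_of_mem_normalizer (mem_normalizer_of_cj_le ?_)
    rw [hcj]
    rintro _ ⟨_, ⟨v, hv, rfl⟩, rfl⟩
    refine ⟨τ * v * τ⁻¹, hτ.Li hv, ?_⟩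
    show τ * (τ * v * τ⁻¹ * v⁻¹) * τ⁻¹ = _
    group
  · -- no fixed points on `c`
    have h1 : x ∈ cv T H := hτ.fix (hc.le j hx) (by rw [hfx, mul_inv_cancel]; exact one_mem _)
    exact hc.dis j x hx h1
  · -- no fixed points on `V / D`
    obtain ⟨A, hA, h0, h1⟩ := id hτ
    have hτv := M.Vn τ hτ.memH v hv
    have e1 := D_e (M := M) hvD
    rw [M.map_div hτv hv, sub_eq_zero] at e1
    have e2 := hA.e_i hv
    rw [e1] at e2
    have e3 := congrFun e2 1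
    rw [ap_one', h0, zero_mul, zero_add] at e3
    have h11 : ent A 1 1 ≠ 1 := by
      intro h11
      apply h1
      have h2 := det_eq A
      rw [h0, mul_zero, sub_zero, h11, mul_one] at h2
      exact h2
    have e4 : M.nat.e v j 1 = 0 := by
      have e5 : (ent A 1 1 - 1) * M.nat.e v j 1 = 0 := by rw [sub_mul, one_mul, ← e3, sub_self]
      rcases mul_eq_zero.1 e5 with h6 | h6
      · exact absurd (sub_eq_zero.1 h6) h11
      · exact h6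
    exact hτ.fix ⟨hv, fun i hi => absurd (Subsingleton.elim i j) hi, e4⟩ hvD
  · -- `c ≤ [V, K, B]`
    rw [hcj]
    rintro _ ⟨v, hv, rfl⟩
    obtain ⟨w0, hw0, hw01⟩ := hPB.exists_v
    obtain ⟨w, hw, n, hn, rfl⟩ := hPB.exists_V hw0
    have hw1 : w ∉ N₁ := fun h1 => hw01 (mul_mem h1 (hPB.N01 hn))
    obtain ⟨b1, hb1, n0, hn0, e⟩ := hPB.line (hPB.VN hw) hw1 ((hN1 v).2 hv)
    have he : b1 * w * b1⁻¹ * w⁻¹ ∈ ⁅⁅zl T H, L⁆, B⁆ := by
      have h1 := inv_mem (commutator_mem_commutator hw hb1)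
      have e1 : (⁅w, b1⁆)⁻¹ = b1 * w * b1⁻¹ * w⁻¹ := by rw [commutatorElement_def]; group
      rwa [e1] at h1
    have hn' : τ ∈ normalizer ((⁅⁅zl T H, L⁆, B⁆ : Subgroup G) : Set G) := by
      refine mem_normalizer_iff_cj.2 ?_
      rw [NO3S.ThmB.cj_comm, cj_eq_of_mem_normalizer (hPB.LV hτL), cj_eq_of_mem_normalizer hτB]
    have h2 : τ * v * τ⁻¹ * v⁻¹ = τ * (b1 * w * b1⁻¹ * w⁻¹) * τ⁻¹ * (b1 * w * b1⁻¹ * w⁻¹)⁻¹ := by
      rw [e]
      exact hPB.comm_eq hn0 hτL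
    rw [h2]
    exact mul_mem ((mem_normalizer_iff.1 hn' _).1 he) (inv_mem he)
  · -- (LINE)
    intro y hy v hv hvD hyv
    obtain ⟨m, hm⟩ := MvI.ex M hy j
    rw [Subsingleton.elim m j] at hm
    refine cj_eq_of_mem_normalizer (mem_normalizer_of_cj_le ?_)
    rintro _ ⟨w, hw, rfl⟩
    have hw' := (hN1 w).1 hw
    refine (hN1 _).2 ⟨M.Vn y hy w hw'.1, fun i hi => absurd (Subsingleton.elim i j) hi, ?_⟩
    exact line_of hy hm ((hN1 v).1 hv) hvD ((hN1 _).1 hyv).2.2 hw'.1 hw'.2.2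

end main

/-! ### After the splitting -/

section split

variable [Finite G] {T H B K V N₁ D c : Subgroup G} {q : ℕ}

/-- `⁅V, K⁆ ∩ D = 1`: `c = ⁅V, K⁆ ∩ N₁ = [⁅V, K⁆, B]`; distinct conjugates of `c` meet trivially. -/
theorem line_c (hPB : PB B K V N₁ D q) (hHT : H ≤ T ⊔ K) (hTV : T ≤ normalizer ((⁅V, K⁆ : Subgroup G) : Set G))
    (hcN : c ≤ N₁) (hsup : N₁ ≤ c ⊔ D) (hcB : c ≤ ⁅⁅V, K⁆, B⁆) (hs : ⁅V, K⁆ ⊓ D = ⊥)
    (hl : ∀ y ∈ H, ∀ v ∈ N₁, v ∉ D → y * v * y⁻¹ ∈ N₁ → cj y N₁ = N₁) :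
    c = ⁅V, K⁆ ⊓ N₁ ∧ c = ⁅⁅V, K⁆, B⁆ ∧ ∀ y ∈ H, c ⊓ cj y c ≠ ⊥ → cj y c = c := by
  have h1 : ⁅⁅V, K⁆, B⁆ ≤ ⁅V, K⁆ ⊓ N₁ := by
    rw [Subgroup.commutator_le]
    intro v hv b hb
    have hbL := (mem_normalizer_iff.1 (hPB.LV (hPB.BL hb)) v⁻¹).1 (inv_mem hv)
    have hq := hPB.quad b hb v⁻¹ (inv_mem (hPB.VN hv))
    have e : ⁅v, b⁆ = v * (b * v⁻¹ * b⁻¹) := by rw [commutatorElement_def]; group
    refine mem_inf.2 ⟨by rw [e]; exact mul_mem hv hbL, ?_⟩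
    have e2 : ⁅v, b⁆ = b * v⁻¹ * b⁻¹ * v⁻¹⁻¹ := by
      rw [e, inv_inv]
      exact hPB.comm (hPB.VN hv) (hPB.VN hbL)
    rw [e2]
    exact hq
  have h2 : ⁅V, K⁆ ⊓ N₁ ≤ c := by
    rintro x ⟨hx1, hx2⟩
    obtain ⟨a, ha, d, hd, rfl⟩ := SQ1.Bau.mem_sup_comm (fun a ha d hd =>
      hPB.comm (hPB.N1N (hcN ha)) (hPB.N1N (hPB.N01 hd))) (hsup hx2)
    have haV : a ∈ ⁅V, K⁆ := (mem_inf.1 (h1 (hcB ha))).1
    have hd1 : d ∈ ⁅V, K⁆ ⊓ D := by
      refine mem_inf.2 ⟨?_, hd⟩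
      have h3 := mul_mem (inv_mem haV) hx1
      rwa [inv_mul_cancel_left] at h3
    rw [hs, mem_bot] at hd1
    rw [hd1, mul_one]
    exact ha
  have hc1 : c = ⁅V, K⁆ ⊓ N₁ := le_antisymm (hcB.trans h1) h2
  refine ⟨hc1, le_antisymm hcB (h1.trans h2), fun y hy hne => ?_⟩
  have hyV : cj y ⁅V, K⁆ = ⁅V, K⁆ := by
    have h3 : H ≤ normalizer ((⁅V, K⁆ : Subgroup G) : Set G) := hHT.trans (sup_le hTV hPB.LV)
    exact cj_eq_of_mem_normalizer (h3 hy)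
  obtain ⟨⟨x, hx⟩, hx1⟩ := (Subgroup.ne_bot_iff_exists_ne_one).1 hne
  obtain ⟨hxc, hxy⟩ := mem_inf.1 hx
  obtain ⟨v, hv, rfl⟩ := NO3S.ThmB.exists_of_mem_cj hxy
  have hvD : v ∉ D := by
    intro hvD
    have h3 : v ∈ ⁅V, K⁆ ⊓ D := ⟨(mem_inf.1 (h1 (hcB hv))).1, hvD⟩
    rw [hs, mem_bot] at h3
    apply hx1
    apply Subtype.ext
    show y * v * y⁻¹ = 1
    rw [h3]; group
  have h3 := hl y hy v (hcN hv) hvD (hcN hxc)
  rw [hc1, cj_inf, hyV, h3]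

/-- **(D)** -/
theorem not_norm_aux (hPB : PB B K V N₁ D q) {W₁ W₂ P : Subgroup G} {t : G} (hc : W₁ ≤ ⁅⁅V, K⁆, B⁆) (ht : cj t W₁ = W₂)
    (hK : W₂ ≤ centralizer (K : Set G)) (hD : D ≤ centralizer (P : Set G)) (hne : ∃ b ∈ P, ∃ v ∈ W₂, b * v ≠ v * b) :
    cj t ⁅⁅V, K⁆, B⁆ ≠ ⁅⁅V, K⁆, B⁆ := by
  intro he
  obtain ⟨b, hb, v, hv, hbv⟩ := hne
  apply hbv
  have h1 : ⁅⁅V, K⁆, B⁆ ≤ N₁ := by
    rw [Subgroup.commutator_le]
    intro v hv b hb
    have hq := inv_mem (hPB.quad b hb v (hPB.VN hv))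
    have e : (b * v * b⁻¹ * v⁻¹)⁻¹ = ⁅v, b⁆ := by rw [commutatorElement_def]; group
    rwa [e] at hq
  have h2 : v ∈ N₁ := by
    apply h1
    rw [← he]
    refine cj_mono t hc ?_
    rw [ht]
    exact hv
  have h3 : v ∈ D := BlOf.mem_N0 hPB h2 fun l hl => mem_centralizer_iff.1 (hK hv) l hl
  exact mem_centralizer_iff.1 (hD h3) b hb

end split

/-! ### (D) over the frame of `P`, `k = 2` -/

section frame

open Cfsg.Agent.Omega.NO3S.EThree.Frame (Bg)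

variable [Finite G] {S : Sylow 2 G} {P B ZJ : Subgroup G} {L W Z C : Fin 2 → Subgroup G}

/-- `t ∈ S - B` swaps `W 0`, `W 1` -/
theorem swap (h : Bg S P B ZJ L W Z C 2) {t : G} (ht : t ∈ (S : Subgroup G)) (htB : t ∉ B) {l m : Fin 2}
    (hlm : l ≠ m) : cj t (W l) = W m := by
  obtain ⟨σ, hσ⟩ := h.perm_S ht
  have h0 : σ 0 ≠ 0 := by
    intro e
    apply htB
    rw [← TC.UniLev.T_eq h]
    refine ⟨ht, mem_normalizer_iff_cj.2 ?_⟩
    rw [(hσ 0).2.1, e]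
  have h1 : σ 1 ≠ 1 := by
    intro e
    have h2 : ∀ a : Fin 2, a ≠ 0 → a = 1 := by decide
    have h3 := σ.injective ((h2 _ h0).trans e.symm)
    exact absurd h3 (by decide)
  have h2 : σ l = m := by
    have h3 : ∀ l m : Fin 2, l ≠ m → (l = 0 ∧ m = 1) ∨ (l = 1 ∧ m = 0) := by decide
    have h4 : ∀ a : Fin 2, a ≠ 0 → a = 1 := by decide
    have h5 : ∀ a : Fin 2, a ≠ 1 → a = 0 := by decide
    rcases h3 l m hlm with ⟨rfl, rfl⟩ | ⟨rfl, rfl⟩
    · exact h4 _ h0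
    · exact h5 _ h1
  rw [(hσ l).1, h2]

/-- **(D)**: `c^ = [⁅V, K⁆, B₀]` is normalised by no `t ∈ S - B`; `W l ≤ c^`, `W m` centralised by `K`, `D ≤ C(B)`. -/
theorem not_norm (h : Bg S P B ZJ L W Z C 2) {B₀ K V N₁ D : Subgroup G} {q : ℕ} (hPB : PB B₀ K V N₁ D q)
    {l m : Fin 2} (hlm : l ≠ m) (hc : W l ≤ ⁅⁅V, K⁆, B₀⁆) (hK : W m ≤ centralizer (K : Set G))
    (hD : D ≤ centralizer (B : Set G)) {t : G} (ht : t ∈ (S : Subgroup G)) (htB : t ∉ B) :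
    cj t ⁅⁅V, K⁆, B₀⁆ ≠ ⁅⁅V, K⁆, B₀⁆ :=
  not_norm_aux hPB hc (swap h ht htB hlm) hK hD (h.fr.blk m).ne

end frame

end Cfsg.Agent.Omega.OM.Lev.Low.Two
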