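import Cfsg.Agent.Omega.OM.Lev.Low.Two

/-!
# TORUS, `k = 2 = q`: `K` is transitive on the lines

* `exists_line` : every vector of `V` lies on a line `N₁ ^ k`, `k ∈ K` (`PB B K V N₁ D q`);
* `line_tr` : with (LINE) and the splitting, every `H`-conjugate of `c` is a `K`-conjugate.
-/

set_option autoImplicit false
set_option linter.unusedSectionVars false

namespace Cfsg.Agent.Omega.OM.Lev.Low.Two

open Subgroup Cfsg Cfsg.Agent.ZN Cfsg.Agent.ZN.ChoiceBase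
open Cfsg.Agent.Omega.SQ1.Bau (Mv)
open scoped commutatorElement

universe u

variable {G : Type u} [Group G] [Finite G] {T H B K V N₁ D c : Subgroup G} {q : ℕ}

/-- every element of `V` lies on a line -/
theorem exists_line' (hPB : PB B K V N₁ D q) {v : G} (hv : v ∈ V) : ∃ k ∈ K, k⁻¹ * v * k ∈ N₁ := by
  by_cases hv1 : v ∈ N₁
  · exact ⟨1, one_mem _, by simpa using hv1⟩
  obtain ⟨l, hl, hm⟩ := hPB.mv
  obtain ⟨a, ha, b, hb, e⟩ := hPB.pl.split hl hm hv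
  have hlb : l * b * l⁻¹ ∈ V := hPB.Nn l hl b (hPB.N1N hb)
  have hw : l * b * l⁻¹ ∉ N₁ := fun h1 => hv1 (by rw [e]; exact mul_mem ha h1)
  obtain ⟨x, hx, n0, hn0, e1⟩ := hPB.line hlb hw ha
  have hxK := hPB.BL hx
  refine ⟨x * l, mul_mem hxK hl, ?_⟩
  have hlD : (x * l)⁻¹ * n0 * (x * l) = n0 := by
    have h1 := hPB.N0c _ (inv_mem (mul_mem hxK hl)) n0 hn0
    rw [h1]; group
  have hcom : n0 * (l * b * l⁻¹) = (l * b * l⁻¹) * n0 := hPB.comm (hPB.N1N (hPB.N01 hn0)) hlb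
  have e2 : v = x * (l * b * l⁻¹) * x⁻¹ * n0 := by
    rw [e, e1]
    calc x * (l * b * l⁻¹) * x⁻¹ * (l * b * l⁻¹)⁻¹ * n0 * (l * b * l⁻¹)
        = x * (l * b * l⁻¹) * x⁻¹ * (l * b * l⁻¹)⁻¹ * (n0 * (l * b * l⁻¹)) := by group
      _ = x * (l * b * l⁻¹) * x⁻¹ * (l * b * l⁻¹)⁻¹ * ((l * b * l⁻¹) * n0) := by rw [hcom]
      _ = _ := by group
  have e3 : (x * l)⁻¹ * v * (x * l) = b * ((x * l)⁻¹ * n0 * (x * l)) := by rw [e2]; group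
  rw [e3, hlD]
  exact mul_mem hb (hPB.N01 hn0)

/-- every `H`-conjugate of `c` is a `K`-conjugate -/
theorem line_tr (hPB : PB B K V N₁ D q) (hKH : K ≤ H) (hHV : H ≤ normalizer (V : Set G))
    (hHn : H ≤ normalizer ((⁅V, K⁆ : Subgroup G) : Set G)) (hc : c = ⁅V, K⁆ ⊓ N₁) (hs : ⁅V, K⁆ ⊓ D = ⊥) (hne : c ≠ ⊥)
    (hl : ∀ y ∈ H, ∀ v ∈ N₁, v ∉ D → y * v * y⁻¹ ∈ N₁ → cj y N₁ = N₁) {y : G} (hy : y ∈ H) :
    ∃ k ∈ K, cj y c = cj k c := by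
  obtain ⟨⟨v, hv⟩, hv1⟩ := (Subgroup.ne_bot_iff_exists_ne_one).1 hne
  have hv' := hv
  rw [hc] at hv'
  obtain ⟨hvV, hvN⟩ := mem_inf.1 hv'
  have hyv : y * v * y⁻¹ ∈ V := (mem_normalizer_iff.1 (hHV hy) v).1 (hPB.VN hvV)
  obtain ⟨k, hk, hkv⟩ := exists_line' hPB hyv
  have hkH := hKH hk
  have h1 : k⁻¹ * y ∈ H := mul_mem (inv_mem hkH) hy
  have h2 : cj (k⁻¹ * y) N₁ = N₁ := by
    refine hl _ h1 v hvN (fun hvD => hv1 (Subtype.ext ?_)) ?_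
    · have h3 : v ∈ ⁅V, K⁆ ⊓ D := ⟨hvV, hvD⟩
      rw [hs, mem_bot] at h3
      exact h3
    · have e : k⁻¹ * y * v * (k⁻¹ * y)⁻¹ = k⁻¹ * (y * v * y⁻¹) * k := by group
      rw [e]
      exact hkv
  have h4 : cj (k⁻¹ * y) c = c := by
    rw [hc, cj_inf, cj_eq_of_mem_normalizer (hHn h1), h2]
  refine ⟨k, hk, ?_⟩
  have h5 := congrArg (cj k) h4
  rw [cj_cj] at h5
  rwa [show k * (k⁻¹ * y) = y by group] at h5

end Cfsg.Agent.Omega.OM.Lev.Low.Two
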