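import Cfsg.Agent.Omega.OM.Lev.Low.TwoInst

/-!
# TORUS, `k = 2 = q`: the splitting of the block

Over `TwoRes.Res`: if `[[M, K], B0]^(s⁻¹) ≤ C(K)` for some `s ∈ S - B`, then `c^ := [[M, K], B0] = c`, `[M, K] ∩ D = 1`,
`|[M, K]| = 16`, `[M, K] ∩ N1 = c` (`split`).
-/

set_option autoImplicit false
set_option linter.unusedSectionVars false

namespace Cfsg.Agent.Omega.OM.Lev.Low.TwoRes.Res

open Subgroup Cfsg Cfsg.Agent.ZN Cfsg.Agent.ZN.ChoiceBase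
open Cfsg.Agent.Omega.SQ1.Bau (elem_comm elem_sq card_sup_comm mem_sup_comm Mv not_mv_iff mv_inv)
open Cfsg.Agent.Omega.MinPar (IsLoc)
open scoped commutatorElement

universe u

variable {G : Type u} [Group G] [Finite G] {S : Sylow 2 G} {B B0 X M N1 D K c : Subgroup G} {z z1 z2 : G}
  (h : Res S B B0 X M N1 D K c z z1 z2)
include h

theorem chat_N1 : ⁅(⁅M, K⁆ : Subgroup G), B0⁆ ≤ N1 := by
  rw [commutator_le]
  intro v hv b hb
  have h1 := inv_mem (h.pb.quad b hb v (h.pb.VN hv))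
  have e : (b * v * b⁻¹ * v⁻¹)⁻¹ = ⁅v, b⁆ := by rw [commutatorElement_def]; group
  rwa [e] at h1

theorem chat_V : ⁅(⁅M, K⁆ : Subgroup G), B0⁆ ≤ ⁅M, K⁆ := by
  rw [commutator_le]
  intro v hv b hb
  have h1 := mul_mem hv ((mem_normalizer_iff.1 (h.pb.LV (h.pb.BL hb)) _).1 (inv_mem hv))
  have e : v * (b * v⁻¹ * b⁻¹) = ⁅v, b⁆ := by rw [commutatorElement_def]; group
  rwa [e] at h1

theorem N1_X (hZB : zc B0 = X) : N1 ≤ X := fun n hn => by
  rw [← hZB]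
  exact (BlOf.line_iff h.pb (h.pb.N1N hn)).1 hn

theorem chat_inf (hZB : zc B0 = X) {s : G} (hs : s ∈ (S : Subgroup G)) (hsB : s ∉ B)
    (h5 : cj s⁻¹ ⁅(⁅M, K⁆ : Subgroup G), B0⁆ ≤ centralizer (K : Set G)) {x : G}
    (hx : x ∈ ⁅(⁅M, K⁆ : Subgroup G), B0⁆) (hxK : ∀ k ∈ K, k * x = x * k) : x = 1 := by
  have hxX := h.N1_X hZB (h.chat_N1 hx)
  have h1 : x ∈ (X ⊓ centralizer (K : Set G)) ⊓ cj s (X ⊓ centralizer (K : Set G)) := by
    refine mem_inf.2 ⟨mem_inf.2 ⟨hxX, mem_centralizer_iff.2 hxK⟩, ?_⟩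
    rw [mem_cj]
    refine mem_inf.2 ⟨?_, h5 ⟨x, hx, by simp⟩⟩
    have h2 := (mem_normalizer_iff.1 (inv_mem (h.SX hs)) x).1 hxX
    rwa [inv_inv] at h2
  rw [h.inter hs hsB] at h1
  exact mem_bot.1 h1

/-- **The splitting.** -/
theorem split (hZB : zc B0 = X) {s : G} (hs : s ∈ (S : Subgroup G)) (hsB : s ∉ B)
    (h5 : cj s⁻¹ ⁅(⁅M, K⁆ : Subgroup G), B0⁆ ≤ centralizer (K : Set G)) :
    ⁅(⁅M, K⁆ : Subgroup G), B0⁆ = c ∧ ⁅M, K⁆ ⊓ D = ⊥ ∧ ⁅M, K⁆ ⊓ N1 = c ∧ Nat.card (⁅M, K⁆ : Subgroup G) = 16 := by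
  have hpb := h.pb
  obtain ⟨l, hl, hm⟩ := hpb.mv
  have hsup := hpb.V_sup hl hm
  rw [← hpb.VB_eq] at hsup
  have hone := fun {x : G} => h.chat_inf hZB hs hsB h5 (x := x)
  have hcN1 := h.chat_N1
  set F : Subgroup G := ⁅M, K⁆ with hF
  set ch : Subgroup G := ⁅F, B0⁆ with hch
  have hchM : ch ≤ M := hcN1.trans hpb.N1N
  have hcjM : cj l ch ≤ M := by
    rintro _ ⟨x, hx, rfl⟩
    exact hpb.Nn l hl x (hchM hx)
  -- `F ∩ D = 1`
  have hFD : F ⊓ D = ⊥ := by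
    rw [eq_bot_iff]
    rintro x ⟨hxF, hxD⟩
    obtain ⟨a, ha, b, hb, rfl⟩ := mem_sup_comm (A := ch) (B := cj l ch)
      (fun a ha b hb => hpb.comm (hchM ha) (hcjM hb)) (hsup hxF)
    have hb' : l⁻¹ * b * l ∈ ch := mem_cj.1 hb
    have hbN : b ∈ N1 := by
      have h1 := mul_mem (inv_mem (hcN1 ha)) (hpb.N01 hxD)
      rwa [inv_mul_cancel_left] at h1
    have hbD : b ∈ D := by
      have h1 := hpb.opp l hl hm _ (hcN1 hb') (by
        have e : l * (l⁻¹ * b * l) * l⁻¹ = b := by group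
        rwa [e])
      have e : l * (l⁻¹ * b * l) * l⁻¹ = b := by group
      rwa [e] at h1
    have hbK := fun k hk => hpb.N0c k hk b hbD
    have hb1 : b = 1 := by
      have e : l⁻¹ * b * l = b := by
        rw [mul_assoc, ← hbK l hl, inv_mul_cancel_left]
      rw [e] at hb'
      exact hone hb' hbK
    rw [hb1, mul_one] at hxD ⊢
    exact mem_bot.2 (hone ha fun k hk => hpb.N0c k hk a hxD)
  -- cards
  have hM : F ⊔ D = M := by
    apply le_antisymm (sup_le hpb.VN (hpb.N01.trans hpb.N1N))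
    intro v hv
    obtain ⟨u, hu, n, hn, rfl⟩ := hpb.exists_V hv
    exact mul_mem (mem_sup_left hu) (mem_sup_right hn)
  have hD : D ≤ M := hpb.N01.trans hpb.N1N
  have hcard : Nat.card F = 16 := by
    have h1 := card_sup_comm (A := F) (B := D) fun a ha b hb => hpb.comm (hpb.VN ha) (hD hb)
    rw [hM, hFD, Subgroup.card_bot, mul_one, hpb.card, hpb.card1] at h1
    have h2 : 0 < Nat.card D := Nat.card_pos
    refine Nat.eq_of_mul_eq_mul_right h2 ?_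
    rw [← h1]; ring
  have hFN : F ⊓ N1 = c := by
    symm
    refine Subgroup.eq_of_le_of_card_ge (le_inf h.cV h.cN1) ?_
    rw [h.c4]
    have h1 := card_sup_comm (A := F ⊓ N1) (B := D) fun a ha b hb =>
      hpb.comm (hpb.N1N (mem_inf.1 ha).2) (hD hb)
    have e1 : (F ⊓ N1) ⊔ D = N1 := by
      apply le_antisymm (sup_le inf_le_right hpb.N01)
      intro v hv
      obtain ⟨u, hu, n, hn, rfl⟩ := hpb.exists_V (hpb.N1N hv)
      refine mul_mem (mem_sup_left (mem_inf.2 ⟨hu, ?_⟩)) (mem_sup_right hn)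
      have h2 := mul_mem hv (inv_mem (hpb.N01 hn))
      rwa [mul_inv_cancel_right] at h2
    have e2 : (F ⊓ N1) ⊓ D = ⊥ := by
      rw [eq_bot_iff, ← hFD]
      exact fun x hx => ⟨(mem_inf.1 (mem_inf.1 hx).1).1, (mem_inf.1 hx).2⟩
    rw [e1, e2, Subgroup.card_bot, mul_one, hpb.card1] at h1
    have h2 : 0 < Nat.card D := Nat.card_pos
    have h3 : Nat.card ↥(F ⊓ N1) = 4 := Nat.eq_of_mul_eq_mul_right h2 (by rw [← h1]; ring)
    exact h3.le
  refine ⟨?_, hFD, hFN, hcard⟩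
  have hle : ch ≤ c := by
    rw [← hFN]
    exact le_inf h.chat_V hcN1
  refine Subgroup.eq_of_le_of_card_ge hle ?_
  rw [h.c4]
  have h1 := card_sup_comm (A := ch) (B := cj l ch) fun a ha b hb => hpb.comm (hchM ha) (hcjM hb)
  have h2 : Nat.card F ≤ Nat.card ↥(ch ⊔ cj l ch) := Subgroup.card_le_of_le hsup
  have h3 : 0 < Nat.card ↥(ch ⊓ cj l ch) := Nat.card_pos
  rw [card_cj] at h1
  rw [hcard] at h2
  by_contra hcon
  push Not at hcon
  have h4 : Nat.card ch ≤ 3 := by omega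
  have h5' : Nat.card ch * Nat.card ch ≤ 9 := Nat.mul_le_mul h4 h4 |>.trans (by norm_num)
  nlinarith

end Cfsg.Agent.Omega.OM.Lev.Low.TwoRes.Res
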