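import Cfsg.Agent.Omega.OM.Lev.Low.End
import Cfsg.Agent.Omega.OM.Lev.Low.TwoSplit
import Cfsg.Agent.Omega.OM.Lev.Low.TwoSet
import Cfsg.Agent.Omega.OM.Lev.Low.TwoLn

/-!
# TORUS, `k = 2 = q` (helper109 #23071): the end over the frame `Res`

* `dat_of` : helper236's `End.Dat` from `Res`, (D), `U`, `A`, (five), the torus element and (LINE);
* `false_of` : **`⟨K, S⟩` is not local.**
-/

set_option autoImplicit false
set_option linter.unusedSectionVars false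

namespace Cfsg.Agent.Omega.OM.Lev.Low.TwoEnd

open Subgroup Cfsg Cfsg.Agent.ZN Cfsg.Agent.ZN.ChoiceBase
open Cfsg.Agent.Omega.SQ1.Bau (elem_comm elem_sq mem_sup_comm Mv not_mv_iff)
open Cfsg.Agent.Omega.MinPar (IsLoc)
open Cfsg.Agent.Omega.NO3S.Level (lev)
open Cfsg.Agent.Omega.NO3S.Level.Claim (cB mem_cB)
open Cfsg.Agent.Omega.OM.LevB (BL zc_B)
open Cfsg.Agent.Omega.OM.Lev.Low.TwoRes (Res)
open Cfsg.Agent.Omega.OM.Lev.Low.End (Dat)
open scoped commutatorElement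

universe u

variable {G : Type u} [Group G] [Finite G] {S : Sylow 2 G} {B B0 X M N1 D K c H U A : Subgroup G} {z z1 z2 s τ : G}

/-- **The instance of `End.Dat`.** -/
theorem dat_of (R : Res S B B0 X M N1 D K c z z1 z2) (hZB : zc B0 = X)
    (hBH : B ≤ H) (hKH : K ≤ H) (hH : H ≤ B ⊔ K) (hHM : H ≤ normalizer (M : Set G))
    (hl : ∀ y ∈ H, ∀ v ∈ N1, v ∉ D → y * v * y⁻¹ ∈ N1 → cj y N1 = N1)
    (hτ : τ ∈ K) (hτc : cj τ c = c) (hτM : ∀ v ∈ M, τ * v * τ⁻¹ * v⁻¹ ∈ D → v ∈ D)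
    (hs : s ∈ (S : Subgroup G)) (hsB : s ∉ B)
    (hUn : K ⊔ (S : Subgroup G) ≤ normalizer (U : Set G)) (hU2 : IsElementaryAbelian 2 U) (hVU : ⁅M, K⁆ ≤ U)
    (hAB : A ≤ B0) (hdec : ∀ b ∈ B0, ∃ a ∈ A, ∃ p ∈ cB B0 ⁅M, K⁆, b = a * p)
    (hfull : ∀ u ∈ U, ∃ v ∈ ⁅M, K⁆, ∃ w ∈ U, (∀ a ∈ A, a * w = w * a) ∧ u = v * w)
    (h5 : ∀ t ∈ (S : Subgroup G), t ∉ B → cj t ⁅⁅M, K⁆, B0⁆ ≤ centralizer (K : Set G)) :
    Dat (S : Subgroup G) B B0 X K ⁅M, K⁆ c U A s := by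
  have hpb := R.pb
  have hsi : s⁻¹ ∉ B := fun h1 => hsB (by simpa using inv_mem h1)
  obtain ⟨e1, e2, e3, -⟩ := R.split hZB hs hsB (h5 s⁻¹ (inv_mem hs) hsi)
  have hHF : H ≤ normalizer ((⁅M, K⁆ : Subgroup G) : Set G) := hH.trans (sup_le R.BN hpb.LV)
  have hcne : c ≠ ⊥ := by
    intro h1
    have h2 := R.c4
    rw [h1, Subgroup.card_bot] at h2
    omega
  have hFcomm : ∀ a ∈ ⁅M, K⁆, ∀ b ∈ ⁅M, K⁆, a * b = b * a := fun a ha b hb => hpb.comm (hpb.VN ha) (hpb.VN hb)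
  refine
    { syl := SetS.syl_of S _ le_sup_right
      BS := R.BS
      nB := R.SB
      sS := hs
      sB := fun g hg => by
        by_cases hgB : g ∈ B
        · exact Or.inl hgB
        · exact Or.inr (R.idx s hs hsB g hg hgB)
      SX := R.SX
      Xc := fun x hx y hy => R.Xcomm hx hy
      X2 := fun x hx => by rw [← pow_two]; exact elem_sq R.X2 x hx
      eB := R.B0eq
      cardX := by rw [R.card_X', R.c4]
      BL := fun b hb k hk => Two.line_tr hpb hKH hHM hHF e3.symm e2 hcne hl (mul_mem (hBH hb) (hKH hk))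
      B0K := hpb.BL
      KF := hpb.LV
      BF := R.BN
      KP := ?_
      cF := R.cV
      cX := R.cX
      com := ?_
      split := ?_
      gen := ?_
      ex := ?_
      Uc := elem_comm hU2
      FU := hVU
      KU := le_sup_left.trans hUn
      SU := le_sup_right.trans hUn
      AB := hAB
      dec := fun b hb => by
        obtain ⟨a, ha, p, hp, e⟩ := hdec b hb
        exact ⟨a, ha, p, (mem_cB.1 hp).1, (mem_cB.1 hp).2, e⟩
      full := hfull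
      cs := ?_
      tor := ⟨τ, hτ, hτc, fun f hf hcom => ?_⟩ }
  · -- `KP`
    intro k hk
    refine mem_normalizer_of_cj_le ?_
    rintro _ ⟨p, hp, rfl⟩
    obtain ⟨hpB, hpF⟩ := mem_inf.1 hp
    refine mem_inf.2 ⟨hpb.cor k hk p hpB (hpb.cent_N (hpb.BL hpB) fun v hv => (mem_centralizer_iff.1 hpF v hv).symm), ?_⟩
    show k * p * k⁻¹ ∈ _
    rw [mem_centralizer_iff]
    intro v hv
    have hv' : k⁻¹ * v * k ∈ ⁅M, K⁆ := by
      have := (mem_normalizer_iff.1 (hpb.LV (inv_mem hk)) v).1 hv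
      rwa [inv_inv] at this
    have h2 := mem_centralizer_iff.1 hpF _ hv'
    calc v * (k * p * k⁻¹) = k * ((k⁻¹ * v * k) * p) * k⁻¹ := by group
      _ = k * (p * (k⁻¹ * v * k)) * k⁻¹ := by rw [h2]
      _ = _ := by group
  · -- `com`
    intro f hf b hb
    rw [← e1]
    have h1 := inv_mem (commutator_mem_commutator hf hb)
    have e : (⁅f, b⁆)⁻¹ = b * f * b⁻¹ * f⁻¹ := by rw [commutatorElement_def]; group
    rwa [e] at h1
  · -- `split`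
    intro x hx
    rw [R.X_eq] at hx
    obtain ⟨a, ha, y, hy, e⟩ := mem_sup_comm (fun a ha y hy => R.Xcomm (R.cX ha) (mem_inf.1 hy).1) hx
    exact ⟨a, ha, y, (mem_inf.1 hy).1, fun k hk => mem_centralizer_iff.1 (mem_inf.1 hy).2 k hk, e⟩
  · -- `gen`
    intro x hx hxc Y hY1 hY2
    refine hpb.gen x hx ?_ Y hY1 fun b hb => hY2 ⟨b, hb, rfl⟩
    by_contra hcon
    apply hxc
    rw [← e3, cj_inf, cj_eq_of_mem_normalizer (hpb.LV hx), cj_eq_of_mem_normalizer (not_mv_iff.1 hcon)]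
  · -- `ex`
    obtain ⟨l, hlK, hm⟩ := hpb.mv
    refine ⟨l, hlK, fun hlc => ?_, fun f hf => ?_⟩
    · obtain ⟨v, hv, hv'⟩ := hm
      apply hv'
      obtain ⟨a, ha, d, hd, rfl⟩ := mem_sup_comm (fun a ha d hd =>
        hpb.comm (hpb.N1N (R.cN1 ha)) (hpb.N1N (hpb.N01 hd))) (R.N1c hv)
      have h1 : l * a * l⁻¹ ∈ c := by
        rw [← hlc]
        exact ⟨a, ha, rfl⟩
      have h2 : l * d * l⁻¹ = d := by rw [hpb.N0c l hlK d hd, mul_inv_cancel_right]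
      have e : l * (a * d) * l⁻¹ = (l * a * l⁻¹) * (l * d * l⁻¹) := by group
      rw [e, h2]
      exact mul_mem (R.cN1 h1) (hpb.N01 hd)
    · have h1 := hpb.V_sup hlK hm hf
      rw [← hpb.VB_eq, e1] at h1
      obtain ⟨a, ha, b, hb, rfl⟩ := mem_sup_comm (fun a ha b hb => hFcomm a (R.cV ha) b (by
        have h2 := cj_mono l R.cV hb
        rwa [cj_eq_of_mem_normalizer (hpb.LV hlK)] at h2)) h1
      obtain ⟨b, hb, rfl⟩ := hb
      exact ⟨a, ha, b, hb, rfl⟩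
  · -- `cs`
    intro y hy k hk
    rw [← e1] at hy
    exact mem_centralizer_iff.1 (h5 s hs hsB ⟨y, hy, rfl⟩) k hk
  · -- `tor`
    have h1 : f ∈ D := hτM f (hpb.VN hf) (by rw [hcom, mul_inv_cancel_right, mul_inv_cancel]; exact one_mem _)
    have h2 : f ∈ ⁅M, K⁆ ⊓ D := ⟨hf, h1⟩
    rw [e2] at h2
    exact mem_bot.1 h2

/-- **The end of TORUS for `k = 2`**: `⟨K, S⟩` is not local. -/
theorem false_of {j : ℕ} (R : Res S B (BL (S : Subgroup G) j) (zc (lev (S : Subgroup G) j)) M N1 D K c z z1 z2)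
    (hBH : B ≤ H) (hKH : K ≤ H) (hH : H ≤ B ⊔ K) (hHM : H ≤ normalizer (M : Set G))
    (hl : ∀ y ∈ H, ∀ v ∈ N1, v ∉ D → y * v * y⁻¹ ∈ N1 → cj y N1 = N1)
    (hτ : τ ∈ K) (hτc : cj τ c = c) (hτM : ∀ v ∈ M, τ * v * τ⁻¹ * v⁻¹ ∈ D → v ∈ D)
    (hK : ∀ n, j = n + 1 → K ≤ normalizer (lev (S : Subgroup G) n : Set G)) (hG : IsCharacteristicTwoType G)
    (hL : IsLoc (S : Subgroup G) (K ⊔ (S : Subgroup G)))
    (hD : ∀ t ∈ (S : Subgroup G), t ∉ B →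
      cj t ⁅⁅M, K⁆, BL (S : Subgroup G) j⁆ ≠ ⁅⁅M, K⁆, BL (S : Subgroup G) j⁆)
    (hgen : K ⊔ (S : Subgroup G) ≤ closure {g | (g ∈ K ⊔ (S : Subgroup G) ∧ g * z = z * g) ∨
      cj g (zc (lev (S : Subgroup G) j)) = zc (lev (S : Subgroup G) j)}) : False := by
  obtain ⟨U, A, hUn, hU2, hVU, -, hAB, -, hdec, hfull, -, h5⟩ := SetS.exists_UA R hK hG hL
  obtain ⟨s, hs, hsB⟩ := R.ne
  have d := dat_of R (zc_B S j) hBH hKH hH hHM hl hτ hτc hτM hs hsB hUn hU2 hVU hAB hdec hfull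
    fun t ht htB => (h5 t ht).resolve_left (hD t ht htB)
  refine d.not_le ((le_sup_left.trans hgen).trans ?_)
  rw [closure_le]
  rintro g (⟨hg, hgz⟩ | hg)
  · refine d.cz_le R.zX (fun h1 => R.zK ?_) (ChoiceBase.mem_zc.1 R.zz).2.2 hg hgz
    rw [h1]
    exact one_mem _
  · exact mem_normalizer_iff_cj.2 hg

end Cfsg.Agent.Omega.OM.Lev.Low.TwoEnd
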