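import Cfsg.Agent.Omega.OM.Lev.Low.TwoSet
import Cfsg.Agent.Omega.OM.Lev.Low.TwoLn
import Cfsg.Agent.Omega.OM.Lev.Low.TwoSplit
import Cfsg.Agent.Omega.OM.Lev.Low.TwoEnd
import Cfsg.Agent.Omega.OM.Lev.Low.LinOut
import Cfsg.Agent.Omega.OM.Lev.Low.OneOf
import Cfsg.Agent.Omega.OM.Lev.Low.CenHat

/-!
# TORUS, `k = 2 = q`: the assembly

* `Tor` : the block with its torus and the frame `Res`; `exists_tor` : one natural factor over `𝔽₄`.
-/

set_option autoImplicit false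
set_option linter.unusedSectionVars false

namespace Cfsg.Agent.Omega.OM.Lev.Low.TwoMain

open Subgroup Cfsg Cfsg.Agent.ZN Cfsg.Agent.ZN.ChoiceBase
open Cfsg.Agent.ZN.ChoiceSit (Syl)
open Cfsg.Agent.MinSimple.MinParabolic (IsMinPar)
open Cfsg.Agent.Omega.MinPar (IsLoc IsPar IsParS)
open Cfsg.Agent.Omega.NO3S.EThree.Frame (Bg)
open Cfsg.Agent.Omega.NO3S.Level (lev lev_mono lev_isLev lev_le)
open Cfsg.Agent.Omega.OM.SwapL (Ln ZL)
open Cfsg.Agent.Omega.OM.GLev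
open Cfsg.Agent.Omega.OM.Lev.Low
open Cfsg.Agent.Omega.FFThm (NatKM)
open Cfsg.Agent.Omega.FrameFF (cv)
open scoped commutatorElement

universe u

variable {G : Type u} [Group G] [Finite G]

/-- The block with its torus. -/
structure Tor (S : Sylow 2 G) (P : Subgroup G) (n : ℕ) (L W Z C A : Fin 2 → Subgroup G) (R : Subgroup G) (j : ℕ)
    (K N₁ c : Subgroup G) (τ : G) : Prop where
  inp : Inp S P n L W Z C A (SwapL.BL (S : Subgroup G) n) R j (fun _ : Fin 1 => K)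
    (fun _ => zl (SwapL.BL (S : Subgroup G) n) R)
    (fun _ => zc (lev (S : Subgroup G) j) ⊓ centralizer (K : Set G)) (fun _ => c)
  pb : PB (LevB.BL (S : Subgroup G) j) K (zl (SwapL.BL (S : Subgroup G) n) R) N₁
    (cv (SwapL.BL (S : Subgroup G) n) R) 4
  TV : SwapL.BL (S : Subgroup G) n ≤ normalizer ((⁅zl (SwapL.BL (S : Subgroup G) n) R, K⁆ : Subgroup G) : Set G)
  cN1 : c ≤ N₁
  N1c : N₁ ≤ c ⊔ cv (SwapL.BL (S : Subgroup G) n) R
  cD : c ⊓ cv (SwapL.BL (S : Subgroup G) n) R = ⊥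
  c4 : Nat.card c = 4
  τK : τ ∈ K
  τB : τ ∈ normalizer (LevB.BL (S : Subgroup G) j : Set G)
  τc : cj τ c = c
  τ1 : ∀ x ∈ c, τ * x * τ⁻¹ = x → x = 1
  τD : ∀ v ∈ zl (SwapL.BL (S : Subgroup G) n) R, τ * v * τ⁻¹ * v⁻¹ ∈ cv (SwapL.BL (S : Subgroup G) n) R →
    v ∈ cv (SwapL.BL (S : Subgroup G) n) R
  cl : c ≤ ⁅⁅zl (SwapL.BL (S : Subgroup G) n) R, K⁆, LevB.BL (S : Subgroup G) j⁆
  line : ∀ y ∈ R, ∀ v ∈ N₁, v ∉ cv (SwapL.BL (S : Subgroup G) n) R → y * v * y⁻¹ ∈ N₁ → cj y N₁ = N₁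
  hat : ∀ u ∈ SwapL.BL (S : Subgroup G) n, (∀ x ∈ c, u * x = x * u) →
    ∀ x ∈ ⁅(⁅zl (SwapL.BL (S : Subgroup G) n) R, K⁆ : Subgroup G), LevB.BL (S : Subgroup G) j⁆, u * x = x * u
  sub : YB.Sub (SwapL.BL (S : Subgroup G) n)
    (fun _ : Fin 1 => zc (lev (S : Subgroup G) j) ⊓ centralizer (K : Set G)) (fun _ => c)

theorem exists_tor {S : Sylow 2 G} {P : Subgroup G} {n : ℕ} {L W Z C A : Fin 2 → Subgroup G}
    (hln : Ln S P n L W Z C A 2) {R : Subgroup G} (hR : Syl (SwapL.BL (S : Subgroup G) n) R)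
    (hc : R ⊓ centralizer (o2 R : Set G) ≤ o2 R) {j : ℕ} (hj : j ≤ n)
    (hlow : ∀ i < j, lev (S : Subgroup G) i ≤ o2 R) {F : Type} [Field F] [Finite F] [CharP F 2]
    (hF : Nat.card F = 4) {X : Subgroup G} {AA' : Set (Subgroup G)} (hge : GE (SwapL.BL (S : Subgroup G) n) R X AA')
    (hbz : BZ (SwapL.BL (S : Subgroup G) n) X AA' (LevB.BL (S : Subgroup G) j) (zc (lev (S : Subgroup G) j)))
    (hex : ∃ A ∈ AA', ¬ A ≤ o2 R)
    (N : NatKM F (SwapL.BL (S : Subgroup G) n) R (zl (SwapL.BL (S : Subgroup G) n) R)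
      (cv (SwapL.BL (S : Subgroup G) n) R) 1) :
    ∃ K N₁ c τ, Tor S P n L W Z C A R j K N₁ c τ := by
  obtain ⟨K, N₁, c, τ, hBK, hKR, hpb, hRT, hTV, hyb, hcN, hNc, hcD, hcF, hτK, hτB, hτc, hτ1, hτD, hcl, hline⟩ :=
    Two.exists_tor hge hbz N hex (by omega)
  have hsub := sub_one hge hbz N hex hpb hyb hcN hNc hcD
  rw [hF] at hpb hcF
  refine ⟨K, N₁, c, τ, ?_, hpb, hTV, hcN, hNc, hcD, hcF, hτK, hτB, hτc, hτ1, hτD, hcl, hline,
    fun u hu huc x hx => ?_, hsub⟩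
  swap
  · refine cen_hat hge hbz N hex hu (fun v hv hvZ => ?_) x (commutator_mono hpb.VN le_rfl hx)
    have hvN : v ∈ N₁ := by
      refine (BlOf.line_iff hpb hv).2 ?_
      rw [hbz.zcB]
      exact hvZ
    obtain ⟨a, ha, d, hd, rfl⟩ := Cfsg.Agent.Omega.SQ1.Bau.mem_sup_comm
      (fun a ha b hb => hpb.comm (hpb.N1N (hcN ha)) (hpb.N1N (hpb.N01 hb))) (hNc hvN)
    have hdu : u * d * u⁻¹ ∈ cv (SwapL.BL (S : Subgroup G) n) R :=
      (NO3S.OneLine.natC_of hge.hm one_pos N.toNatK).Dn u (hR.1 hu) d hd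
    have hdd := mul_mem hdu (inv_mem hd)
    have e1 : a * (u * d * u⁻¹ * d⁻¹) = u * d * u⁻¹ * d⁻¹ * a :=
      hpb.comm (hpb.N1N (hcN ha)) (hpb.N1N (hpb.N01 hdd))
    have e2 : u * (a * d) * u⁻¹ * (a * d)⁻¹ = u * d * u⁻¹ * d⁻¹ := by
      calc u * (a * d) * u⁻¹ * (a * d)⁻¹ = (u * a) * d * u⁻¹ * d⁻¹ * a⁻¹ := by group
        _ = (a * u) * d * u⁻¹ * d⁻¹ * a⁻¹ := by rw [huc a ha]
        _ = a * (u * d * u⁻¹ * d⁻¹) * a⁻¹ := by group
        _ = _ := by rw [e1]; group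
    rw [e2]
    exact hdd
  refine ⟨hln, hR, le_rfl, hj, hc, hlow, ?_⟩
  exact
    { yb := hyb
      pb := fun _ => ⟨_, _, _, hpb⟩
      KY := fun _ => hKR
      EY := fun _ => le_rfl
      memN := fun _ x hx => ⟨fun h1 => mem_centralizer_iff.1 h1.2, fun h1 => ⟨hx, mem_centralizer_iff.2 h1⟩⟩
      mv := fun t ht _ _ _ => cj_eq_of_mem_normalizer (hTV ht)
      line := fun _ => hcl.trans (commutator_mono hpb.VN le_rfl)
      cross := fun l m hlm => absurd (Subsingleton.elim l m) hlm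
      tr := fun l m => ⟨1, one_mem _, by
        rw [Subsingleton.elim l m]
        exact Mv.one m⟩
      sup := fun _ => hRT }

namespace Tor

variable {S : Sylow 2 G} {P : Subgroup G} {n : ℕ} {L W Z C A : Fin 2 → Subgroup G} {R : Subgroup G} {j : ℕ}
  {K N₁ c : Subgroup G} {τ : G} (h : Tor S P n L W Z C A R j K N₁ c τ)
  (hbg : Bg S P (SwapL.BL (S : Subgroup G) n) (ZL (S : Subgroup G) n) L W Z C 2)
include h

theorem oR : o2 R ≤ (S : Subgroup G) :=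
  (ChoiceSit.o2_le_syl h.inp.syl).trans (SwapL.lb S n).BS

/-- `K ≤ N(lev S i)`, `i < j` -/
theorem K_norm : ∀ i, j = i + 1 → K ≤ normalizer (lev (S : Subgroup G) i : Set G) := fun i hi =>
  (h.inp.yk.KY 0).trans ((lev_isLev (S : Subgroup G) i).le_norm_of_o2 (h.inp.low i (by omega)) h.oR)

/-- (L) -/
theorem line_eq (hbg : Bg S P (SwapL.BL (S : Subgroup G) n) (ZL (S : Subgroup G) n) L W Z C 2)
    (hZ : ¬ R ≤ centralizer (zc (SwapL.BL (S : Subgroup G) n) : Set G)) (hV : c ≤ zl (S : Subgroup G) P) :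
    ∃ i, c = W i ∧ (∀ m, m ≠ i → W m ≤ centralizer (K : Set G)) ∧ ∀ m, m ≠ i → Z m ≤ centralizer (K : Set G) := by
  obtain ⟨i, h1, h2, h3⟩ := Line.line_yb h.inp.ln hbg h.inp.jn h.inp.yk.yb (l := 0)
    (fun b hb => by
      obtain ⟨m, hm⟩ := h.inp.yk.yb.perm b hb 0
      rwa [Subsingleton.elim m 0] at hm) hV h.c4
    (fun hle => hZ ((h.inp.yk.sup 0).trans (sup_le (NO3S.Level.le_centralizer_zc _) (by
      have e : zc (SwapL.BL (S : Subgroup G) n) = ZL (S : Subgroup G) n := LevB.zc_B S (n + 1)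
      rw [e]
      exact le_centralizer_iff.1 (hle.trans inf_le_right))))) (τ := τ)
    (fun x hx => by
      have h4 : τ * x * τ⁻¹ ∈ cj τ c := ⟨x, hx, rfl⟩
      rwa [h.τc] at h4) h.τ1
    (fun x hx => by
      have h4 : τ * x = x * τ := mem_centralizer_iff.1 (mem_inf.1 hx).2 τ h.τK
      rw [h4, mul_inv_cancel_right])
  exact ⟨i, h1, fun m hm => (h2 m hm).trans inf_le_right, fun m hm => (h3 m hm).trans inf_le_right⟩

/-- **`Res`, and (D)** -/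
theorem exists_res (hbg : Bg S P (SwapL.BL (S : Subgroup G) n) (ZL (S : Subgroup G) n) L W Z C 2)
    (hZ : ¬ R ≤ centralizer (zc (SwapL.BL (S : Subgroup G) n) : Set G)) (hV : c ≤ zl (S : Subgroup G) P) :
    ∃ z z1 z2, TwoRes.Res S (SwapL.BL (S : Subgroup G) n) (LevB.BL (S : Subgroup G) j) (zc (lev (S : Subgroup G) j))
        (zl (SwapL.BL (S : Subgroup G) n) R) N₁ (cv (SwapL.BL (S : Subgroup G) n) R) K c z z1 z2 ∧
      ∀ t ∈ (S : Subgroup G), t ∉ SwapL.BL (S : Subgroup G) n →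
        cj t ⁅(⁅zl (SwapL.BL (S : Subgroup G) n) R, K⁆ : Subgroup G), LevB.BL (S : Subgroup G) j⁆ ≠
          ⁅(⁅zl (SwapL.BL (S : Subgroup G) n) R, K⁆ : Subgroup G), LevB.BL (S : Subgroup G) j⁆ := by
  obtain ⟨i, hcW, hWm, hZm⟩ := h.line_eq hbg hZ hV
  obtain ⟨i', hii⟩ : ∃ i', i ≠ i' := by
    have h5 : ∀ i : Fin 2, ∃ i', i ≠ i' := by decide
    exact h5 i
  obtain ⟨v, hv1, hv, -⟩ := TC.OfBg.exists_sit hbg
  have hcl : c ≤ ⁅zl (SwapL.BL (S : Subgroup G) n) R, K⁆ := by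
    refine h.cl.trans ?_
    rw [commutator_le]
    intro x hx b hb
    have h1 := mul_mem hx ((mem_normalizer_iff.1 (h.pb.LV (h.pb.BL hb)) _).1 (inv_mem hx))
    have e : x * (b * x⁻¹ * b⁻¹) = ⁅x, b⁆ := by rw [commutatorElement_def]; group
    rwa [e] at h1
  refine ⟨_, _, _, TwoInst.res_of h.inp.ln hbg hv1 hv h.inp.jn h.pb h.TV h.inp.yk.yb h.cN1 h.N1c h.cD h.c4 hcl hii
    ?_ ?_, fun t ht htB => ?_⟩
  · rw [hcW]
    exact (hbg.fr.blk i).ZV ((hv i _).2 (Or.inr rfl))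
  · exact hZm i' (Ne.symm hii) ((hv i' _).2 (Or.inr rfl))
  · intro he
    have hne := h.inp.ln.fr.Ane i'
    push Not at hne
    obtain ⟨a, ha, w, hw, hne⟩ := hne
    apply hne
    have haB := h.inp.ln.fr.AB i' ha
    refine h.hat a haB (fun x hx => h.inp.ln.fr.AC i' a ha x (h.inp.ln.fr.WjC i' i (Ne.symm hii) (hcW ▸ hx))) w ?_
    rw [← he]
    refine cj_mono t h.cl ?_
    rw [hcW, Two.swap hbg ht htB hii]
    exact hw

theorem zT (hZ : ¬ R ≤ centralizer (zc (SwapL.BL (S : Subgroup G) n) : Set G)) :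
    ¬ zc (SwapL.BL (S : Subgroup G) n) ≤ zc (lev (S : Subgroup G) j) ⊓ centralizer (K : Set G) := fun hle =>
  hZ ((h.inp.yk.sup 0).trans (sup_le (NO3S.Level.le_centralizer_zc _)
    (le_centralizer_iff.1 (hle.trans inf_le_right))))

/-- `c ≤ V_P` -/
theorem le_V (hZ : ¬ R ≤ centralizer (zc (SwapL.BL (S : Subgroup G) n) : Set G)) : c ≤ zl (S : Subgroup G) P :=
  (h.inp.lin h.sub ⟨0, h.zT hZ⟩ 0).2.2

/-- `⟨K, S⟩` is local at the stages `j > 0` -/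
theorem loc_succ {z : G} (hz : z ∈ zc (S : Subgroup G)) (hz1 : z ≠ 1) (hj : 0 < j) :
    IsLoc (S : Subgroup G) (K ⊔ (S : Subgroup G)) := by
  obtain ⟨i, rfl⟩ : ∃ i, j = i + 1 := ⟨j - 1, by omega⟩
  have hl := lev_isLev (S : Subgroup G) i
  have h2 : IsPGroup 2 (lev (S : Subgroup G) i) := S.isPGroup'.to_le (lev_le _ i)
  refine MinPar.isLoc_of_le_normalizer S le_sup_right h2 (fun e => hz1 ?_) (sup_le (h.K_norm i rfl) hl.S_norm)
  have h3 := (ChoiceBase.mem_zc.1 (hl.zc_le hz)).1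
  rw [e] at h3
  exact mem_bot.1 h3

/-- **`⟨K, S⟩` is not local.** -/
theorem not_loc (hbg : Bg S P (SwapL.BL (S : Subgroup G) n) (ZL (S : Subgroup G) n) L W Z C 2)
    (hall : ∀ R, IsParS (S : Subgroup G) R → lev (S : Subgroup G) n ≤ o2 R)
    (hZ : ¬ R ≤ centralizer (zc (SwapL.BL (S : Subgroup G) n) : Set G)) :
    ¬ IsLoc (S : Subgroup G) (K ⊔ (S : Subgroup G)) := by
  intro hL
  obtain ⟨z, z1, z2, hR, hD⟩ := h.exists_res hbg hZ (h.le_V hZ)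
  have hz1 : z ≠ 1 := fun e => hR.zK (by rw [e]; exact one_mem _)
  exact TwoEnd.false_of hR (H := R) h.inp.syl.1 (h.inp.yk.KY 0) (h.inp.yk.sup 0)
    (MinSimple.VModule.le_normalizer_zl _ R) h.line h.τK h.τc h.τD h.K_norm h.inp.ln.hyp.ctx.char2 hL hD
    (TwoInst.gen_le S hL h.inp.jn hall hR.zz hz1 hR.zS)

/-- **Only the stage `j = 0` remains, and `⟨K, S⟩` is not local.** -/
theorem j_eq (hbg : Bg S P (SwapL.BL (S : Subgroup G) n) (ZL (S : Subgroup G) n) L W Z C 2)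
    (hall : ∀ R, IsParS (S : Subgroup G) R → lev (S : Subgroup G) n ≤ o2 R)
    (hZ : ¬ R ≤ centralizer (zc (SwapL.BL (S : Subgroup G) n) : Set G)) : j = 0 := by
  by_contra hj
  obtain ⟨z, z1, z2, hR, -⟩ := h.exists_res hbg hZ (h.le_V hZ)
  have hz1 : z ≠ 1 := fun e => hR.zK (by rw [e]; exact one_mem _)
  exact h.not_loc hbg hall hZ (h.loc_succ hR.zz hz1 (by omega))

end Tor

/-- **The torus block of a parabolic over `B` of smaller stage.** -/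
theorem exists_tor' {S : Sylow 2 G} {P : Subgroup G} {n : ℕ} {L W Z C A : Fin 2 → Subgroup G}
    (hln : Ln S P n L W Z C A 2) {R : Subgroup G} (hR : Syl (SwapL.BL (S : Subgroup G) n) R)
    (hP : IsMinPar (SwapL.BL (S : Subgroup G) n) R)
    (hc : R ⊓ centralizer (o2 R : Set G) ≤ o2 R) (hn : ¬ lev (S : Subgroup G) n ≤ o2 R)
    (hZ : ¬ R ≤ centralizer (zc (SwapL.BL (S : Subgroup G) n) : Set G)) :
    ∃ j K N₁ c τ, Tor S P n L W Z C A R j K N₁ c τ := by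
  obtain ⟨j, hj, hlow, hnj⟩ := exists_stg (S : Subgroup G) hn
  obtain ⟨X, AA', hge, hbz, hex, F, _, _, _, k, hk, N, K, Nn, c, ho⟩ := exists_out hln hR le_rfl hP hc hZ hj hlow hnj
  have hF := ho.cardF
  have hfix := Line.fix_all hln.fr ho.inp.yk.yb (fun x hx l => (ho.lin l).1 x hx) (fun l => (ho.lin l).2.2)
    fun l => by rw [(ho.lin l).2.1]; omega
  have hsub : ∀ l m : Fin k, l = m := by
    intro l m
    obtain ⟨t, ht, h1⟩ := ho.inp.yk.tr l m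
    exact ho.inp.yk.yb.uniq (hfix t ht l) h1
  obtain rfl : k = 1 := by
    have h1 : Fintype.card (Fin k) = 1 := Fintype.card_eq_one_iff.2 ⟨⟨0, hk⟩, fun y => hsub y _⟩
    rwa [Fintype.card_fin] at h1
  obtain ⟨K', N₁, c', τ, ht⟩ := exists_tor hln hR hc hj hlow hF hge hbz hex N
  exact ⟨j, K', N₁, c', τ, ht⟩

end Cfsg.Agent.Omega.OM.Lev.Low.TwoMain
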