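import Cfsg.Agent.Omega.OM.Lev.Low.Five

/-!
# TEXT LL v2 (helper584 #20624), (6) and (7)(W): two `Q`-orbits in the support of `z` are impossible

A set `CC` of subgroups ("lines") which `P` permutes transitively; `Rr CC C` is generated by the lines `≠ C`; a line
`C` is in the support of `x` iff `x ∉ Rr CC C`.  Three elements `w 0, w 1, w 2` with product `1`, permuted by `P` as by
the full symmetric group.

* `tri` : every line is in all three supports, or every line is in exactly two of them;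
* `w_dead` : the support of `z = w 2` is not the union of two `Q`-orbits `p`, `p'` with `z = y y₁`, `y` over `p`,
  `y₁` over `p'`, and `y ∈ (w 0 or w 1) C(P)`;
* `f_one` : if the support of `z` is one `Q`-orbit, then it is `CC`.

(helper12 #20987 (C).)
-/

set_option autoImplicit false
set_option linter.unusedSectionVars false

namespace Cfsg.Agent.Omega.OM.Lev.Low.WDead

open Subgroup Cfsg Cfsg.Agent.ZN Cfsg.Agent.ZN.ChoiceBase
open Cfsg.Agent.Omega.NO3S.ThmB (mem_cj_of exists_of_mem_cj)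

universe u

variable {G : Type u} [Group G]

/-- What the lines `≠ C` generate. -/
def Rr (CC : Set (Subgroup G)) (C : Subgroup G) : Subgroup G := sSup (CC \ {C})

theorem cj_sSup_le {g : G} {s : Set (Subgroup G)} {R : Subgroup G} (h : ∀ C ∈ s, cj g C ≤ R) : cj g (sSup s) ≤ R := by
  have h1 : sSup s ≤ cj g⁻¹ R := sSup_le fun C hC => by
    have h2 := cj_mono g⁻¹ (h C hC)
    rwa [cj_inv_cj] at h2
  have h3 := cj_mono g h1
  rwa [show cj g (cj g⁻¹ R) = R by rw [cj_cj, mul_inv_cancel, cj_one]] at h3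

theorem conj_mem_sSup {g : G} {s t : Set (Subgroup G)} (h : ∀ C ∈ s, cj g C ∈ t) {x : G} (hx : x ∈ sSup s) :
    g * x * g⁻¹ ∈ sSup t :=
  cj_sSup_le (fun C hC => le_sSup (h C hC)) (mem_cj_of hx)

/-- `P` permutes the lines transitively. -/
structure Lines (P : Subgroup G) (CC : Set (Subgroup G)) : Prop where
  cl : ∀ g ∈ P, ∀ C ∈ CC, cj g C ∈ CC
  tr : ∀ C ∈ CC, ∀ D ∈ CC, ∃ g ∈ P, cj g C = D

/-- Three elements with product `1` on which `P` acts as the symmetric group. -/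
structure Tri (P : Subgroup G) (w : Fin 3 → G) (y' : G) : Prop where
  mul : ∀ a b c : Fin 3, a ≠ b → c ≠ a → c ≠ b → w a * w b = w c
  act : ∀ g ∈ P, ∃ σ : Equiv.Perm (Fin 3), ∀ a, g * w a * g⁻¹ = w (σ a)
  ex : ∀ σ : Equiv.Perm (Fin 3), ∃ g ∈ P, g * y' = y' * g ∧ ∀ a, g * w a * g⁻¹ = w (σ a)
  yw : ∀ a, y' * w a = w a * y'

section

variable {P : Subgroup G} {CC : Set (Subgroup G)} {w : Fin 3 → G} {y' : G}

theorem Tri.sq (k : Tri P w y') (a : Fin 3) : w a * w a = 1 := by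
  obtain ⟨b, c, h1, h2, h3⟩ : ∃ b c : Fin 3, b ≠ a ∧ c ≠ b ∧ c ≠ a := by decide +revert
  have e1 := k.mul b a c h1 h2 h3
  have e2 := k.mul c a b h3 h2.symm h1
  rw [← e1, mul_assoc] at e2
  exact mul_eq_left.1 e2

theorem Lines.mem_Rr (h : Lines P CC) {g : G} (hg : g ∈ P) {C : Subgroup G} {x : G} (hx : x ∈ Rr CC C) :
    g * x * g⁻¹ ∈ Rr CC (cj g C) :=
  conj_mem_sSup (t := CC \ {cj g C}) (fun D (hD : D ∈ CC \ {C}) => (⟨h.cl g hg D hD.1, fun e => hD.2 (by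
    have e' : cj g D = cj g C := e
    have := congrArg (cj g⁻¹) e'
    rwa [cj_inv_cj, cj_inv_cj] at this)⟩ : _ ∈ CC ∧ _ ∉ _)) hx

theorem Lines.mem_Rr_iff (h : Lines P CC) {g : G} (hg : g ∈ P) {C : Subgroup G} {x : G} :
    g * x * g⁻¹ ∈ Rr CC (cj g C) ↔ x ∈ Rr CC C := by
  refine ⟨fun hx => ?_, h.mem_Rr hg⟩
  have h1 := h.mem_Rr (inv_mem hg) hx
  rw [cj_inv_cj] at h1
  have e : g⁻¹ * (g * x * g⁻¹) * g⁻¹⁻¹ = x := by group
  rwa [e] at h1

/-- Every line is in all three supports, or every line is in exactly two of them. -/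
theorem tri (h : Lines P CC) (k : Tri P w y') {C0 : Subgroup G} (hC0 : C0 ∈ CC) {a0 : Fin 3} (hz : w a0 ∉ Rr CC C0) :
    (∀ C ∈ CC, ∀ a, w a ∉ Rr CC C) ∨ ∀ C ∈ CC, ∃ a, w a ∈ Rr CC C ∧ ∀ b, w b ∈ Rr CC C → b = a := by
  by_cases h1 : ∀ C ∈ CC, ∀ a, w a ∉ Rr CC C
  · exact Or.inl h1
  right
  push Not at h1
  obtain ⟨C, hC, a, ha⟩ := h1
  intro D hD
  obtain ⟨g, hg, rfl⟩ := h.tr C hC D hD
  obtain ⟨σ, hσ⟩ := k.act g hg
  have h2 : w (σ a) ∈ Rr CC (cj g C) := by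
    rw [← hσ a]
    exact h.mem_Rr hg ha
  refine ⟨σ a, h2, fun b hb => ?_⟩
  by_contra hn
  have h3 : ∀ c, w c ∈ Rr CC (cj g C) := fun c => by
    by_cases hc1 : c = σ a
    · rw [hc1]; exact h2
    by_cases hc2 : c = b
    · rw [hc2]; exact hb
    rw [← k.mul (σ a) b c (fun e => hn e.symm) hc1 hc2]
    exact mul_mem h2 hb
  obtain ⟨g', hg', e⟩ := h.tr _ hD C0 hC0
  obtain ⟨τ, hτ⟩ := k.act g' hg'
  refine hz ?_
  have h4 := h.mem_Rr hg' (h3 (τ.symm a0))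
  rw [hτ, Equiv.apply_symm_apply, e] at h4
  exact h4

/-- A `Q`-orbit of lines. -/
structure Orb (Q : Subgroup G) (p : Set (Subgroup G)) : Prop where
  ne : p.Nonempty
  orb : ∀ C ∈ p, ∀ D, D ∈ p ↔ ∃ q ∈ Q, cj q C = D

theorem cj_flip {g q : G} (C : Subgroup G) : cj g (cj q C) = cj (g * q * g⁻¹) (cj g C) := by
  rw [cj_cj, cj_cj]
  congr 1
  group

theorem Orb.map {Q : Subgroup G} {p p' : Set (Subgroup G)} (hp : Orb Q p) (hp' : Orb Q p') {g : G}
    (hg : g ∈ normalizer (Q : Set G)) {C : Subgroup G} (hC : C ∈ p) (hC' : cj g C ∈ p') :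
    ∀ D ∈ p, cj g D ∈ p' := by
  intro D hD
  obtain ⟨q, hq, rfl⟩ := (hp.orb C hC D).1 hD
  rw [cj_flip]
  exact (hp'.orb _ hC' _).2 ⟨_, (mem_normalizer_iff.1 hg q).1 hq, rfl⟩

/-- (W) is impossible. -/
theorem w_dead (h : Lines P CC) (k : Tri P w y') {Q : Subgroup G} (hPQ : P ≤ normalizer (Q : Set G)) (hQP : Q ≤ P)
    (hQw : ∀ q ∈ Q, ∀ a, q * w a = w a * q) {p p' : Set (Subgroup G)} (hp : Orb Q p) (hp' : Orb Q p')
    (hpC : p ⊆ CC) (hpC' : p' ⊆ CC) (hdis : ∀ C ∈ p, C ∉ p') (hs : ∀ C ∈ CC, w 2 ∉ Rr CC C ↔ C ∈ p ∨ C ∈ p')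
    {y v : G} (hy : y ∈ sSup p) (hyv : y = v * y') (hv : v = w 0 ∨ v = w 1) {N : Subgroup G}
    (hN : ∀ C ∈ CC, C ∉ p → C ∉ p' → C ≤ N) (hyN : y' ∈ N) (hzN : w 2 ∉ N) : False := by
  obtain ⟨C0, hC0⟩ := hp.ne
  obtain ⟨C0', hC0'⟩ := hp'.ne
  -- conjugating `y`
  have hmove : ∀ (g : G) (σ : Equiv.Perm (Fin 3)), g * y' = y' * g → (∀ a, g * w a * g⁻¹ = w (σ a)) → ∀ b, v = w b →
      g * y * g⁻¹ = w (σ b) * y' := by
    intro g σ hgy hσ b hb
    rw [hyv, hb, ← hσ b]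
    calc g * (w b * y') * g⁻¹ = g * w b * (y' * g⁻¹) := by group
      _ = g * w b * (g⁻¹ * y') := by
          congr 1
          rw [eq_inv_mul_iff_mul_eq, ← mul_assoc, hgy, mul_inv_cancel_right]
      _ = g * w b * g⁻¹ * y' := by group
  have hdiff : ∀ (g : G) (σ : Equiv.Perm (Fin 3)), g * y' = y' * g → (∀ a, g * w a * g⁻¹ = w (σ a)) → ∀ b c, v = w b →
      b ≠ σ b → c ≠ b → c ≠ σ b → g * y * g⁻¹ ∈ sSup p → w c ∈ sSup p := by
    intro g σ hgy hσ b c hb h1 h2 h3 h4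
    have h5 := mul_mem (inv_mem hy) h4
    rw [hmove g σ hgy hσ b hb, hyv, hb] at h5
    have e : (w b * y')⁻¹ * (w (σ b) * y') = w c := by
      have e1 : (w b)⁻¹ = w b := inv_eq_of_mul_eq_one_left (k.sq b)
      calc (w b * y')⁻¹ * (w (σ b) * y') = y'⁻¹ * ((w b)⁻¹ * w (σ b)) * y' := by group
        _ = y'⁻¹ * (y' * w c) := by rw [e1, k.mul b (σ b) c h1 h2 h3, k.yw c, mul_assoc]
        _ = w c := by group
    rwa [e] at h5
  obtain ⟨bv, hbv, hbv2⟩ : ∃ b : Fin 3, v = w b ∧ b ≠ 2 := by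
    rcases hv with hv | hv
    exacts [⟨0, hv, by decide⟩, ⟨1, hv, by decide⟩]
  have hsup : ∀ D ∈ CC, D ∉ p → sSup p ≤ Rr CC D := fun D _ hD =>
    sSup_le_sSup fun C hC => ⟨hpC hC, fun e => hD (by
      have e' : C = D := e
      rwa [← e'])⟩
  rcases tri h k (hpC hC0) ((hs C0 (hpC hC0)).2 (Or.inl hC0)) with hA | hB
  · -- every line is in all three supports
    obtain ⟨σ, hσ1, hσ2⟩ : ∃ σ : Equiv.Perm (Fin 3), bv ≠ σ (σ bv) ∧ ∀ c, c ≠ σ (σ c) := by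
      have h0 : ∀ c : Fin 3, c ≠ finRotate 3 (finRotate 3 c) := by decide
      exact ⟨finRotate 3, h0 bv, h0⟩
    obtain ⟨g, hg, hgy, hgw⟩ := k.ex σ
    have hPP : ∀ C ∈ p, cj (g * g) C ∈ p := by
      have hcase : ∀ C ∈ p, cj g C ∈ p ∨ cj g C ∈ p' := fun C hC =>
        (hs _ (h.cl g hg C (hpC hC))).1 (hA _ (h.cl g hg C (hpC hC)) 2)
      intro C hC
      rw [← cj_cj]
      rcases hcase C hC with h1 | h1
      · exact hp.map hp (hPQ hg) hC h1 _ h1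
      · have h2 := (hs _ (h.cl g hg _ (hpC' h1))).1 (hA _ (h.cl g hg _ (hpC' h1)) 2)
        rcases h2 with h2 | h2
        · exact h2
        · exfalso
          obtain ⟨q, hq, e⟩ := (hp'.orb _ h1 _).1 h2
          -- `cj q (cj g C) = cj g (cj g C)`
          have e3 : cj g C = cj (g⁻¹ * q * g) C := by
            have e4 := congrArg (cj g⁻¹) e
            rw [cj_inv_cj, cj_cj, cj_cj] at e4
            exact e4.symm
          have h5 : g⁻¹ * q * g ∈ Q := by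
            have := (mem_normalizer_iff.1 (inv_mem (hPQ hg)) q).1 hq
            simpa using this
          exact hdis _ ((hp.orb C hC _).2 ⟨_, h5, rfl⟩) (e3 ▸ h1)
    have hg2 : ∀ a, g * g * w a * (g * g)⁻¹ = w ((σ * σ) a) := fun a => by
      calc g * g * w a * (g * g)⁻¹ = g * (g * w a * g⁻¹) * g⁻¹ := by group
        _ = w ((σ * σ) a) := by rw [hgw, hgw]; rfl
    have hgy2 : g * g * y' = y' * (g * g) := by
      rw [mul_assoc, hgy, ← mul_assoc, hgy, mul_assoc]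
    obtain ⟨c, hc1, hc2⟩ : ∃ c : Fin 3, c ≠ bv ∧ c ≠ (σ * σ) bv := by
      have : ∀ a b : Fin 3, ∃ c, c ≠ a ∧ c ≠ b := by decide
      exact this _ _
    have h6 := hdiff (g * g) (σ * σ) hgy2 hg2 bv c hbv hσ1 hc1 hc2 (conj_mem_sSup hPP hy)
    exact hA C0' (hpC' hC0') c (hsup C0' (hpC' hC0') (fun h7 => hdis _ h7 hC0') h6)
  · -- every line is in exactly two supports
    have hq : ∀ q ∈ Q, ∀ a, ∀ C, w a ∈ Rr CC C → w a ∈ Rr CC (cj q C) := fun q hq a C hC => by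
      have h1 := h.mem_Rr (hQP hq) hC
      have e : q * w a * q⁻¹ = w a := by rw [hQw q hq a, mul_inv_cancel_right]
      rwa [e] at h1
    -- all complements are nonempty
    have hex : ∀ a, ∃ C ∈ CC, w a ∈ Rr CC C := fun a => by
      obtain ⟨b, hb, -⟩ := hB C0 (hpC hC0)
      obtain ⟨g, hg, -, hgw⟩ := k.ex (Equiv.swap b a)
      refine ⟨cj g C0, h.cl g hg _ (hpC hC0), ?_⟩
      have h1 := h.mem_Rr hg hb
      rwa [hgw, Equiv.swap_apply_left] at h1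
    have hor : ∀ a, a ≠ 2 → (∀ C ∈ p, w a ∈ Rr CC C) ∨ ∀ C ∈ p', w a ∈ Rr CC C := fun a ha => by
      obtain ⟨C, hC, hCa⟩ := hex a
      obtain ⟨b, hb, hb'⟩ := hB C hC
      have hab := hb' a hCa
      have h2 : w 2 ∉ Rr CC C := fun h2 => ha (hab.trans (hb' 2 h2).symm)
      rcases (hs C hC).1 h2 with h3 | h3
      · left
        intro D hD
        obtain ⟨q, hq', rfl⟩ := (hp.orb C h3 D).1 hD
        exact hq q hq' a C hCa
      · right
        intro D hD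
        obtain ⟨q, hq', rfl⟩ := (hp'.orb C h3 D).1 hD
        exact hq q hq' a C hCa
    have huq : ∀ C ∈ CC, ∀ a b, w a ∈ Rr CC C → w b ∈ Rr CC C → a = b := fun C hC a b ha hb => by
      obtain ⟨c, -, hc⟩ := hB C hC
      rw [hc a ha, hc b hb]
    -- `a` is the index of `p`, `b` the one of `p'`
    obtain ⟨a, b, hab, ha2, hb2, hpa, hpb⟩ : ∃ a b : Fin 3, a ≠ b ∧ a ≠ 2 ∧ b ≠ 2 ∧ (∀ C ∈ p, w a ∈ Rr CC C) ∧
        ∀ C ∈ p', w b ∈ Rr CC C := by
      rcases hor 0 (by decide) with h0 | h0 <;> rcases hor 1 (by decide) with h1 | h1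
      · exact absurd (huq C0 (hpC hC0) 0 1 (h0 C0 hC0) (h1 C0 hC0)) (by decide)
      · exact ⟨0, 1, by decide, by decide, by decide, h0, h1⟩
      · exact ⟨1, 0, by decide, by decide, by decide, h1, h0⟩
      · exact absurd (huq C0' (hpC' hC0') 0 1 (h0 C0' hC0') (h1 C0' hC0')) (by decide)
    have hbv' : bv = a ∨ bv = b := by
      have h0 : ∀ a b c : Fin 3, a ≠ b → a ≠ 2 → b ≠ 2 → c ≠ 2 → c = a ∨ c = b := by decide
      exact h0 a b bv hab ha2 hb2 hbv2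
    rcases hbv' with rfl | rfl
    · -- `v = w a` : `p^g` is outside of the support of `z`
      obtain ⟨g, hg, hgy, hgw⟩ := k.ex (Equiv.swap bv 2)
      have h1 : g * y * g⁻¹ ∈ N := by
        refine cj_sSup_le (s := p) (fun C hC => ?_) (mem_cj_of hy)
        have h2 := h.mem_Rr hg (hpa C hC)
        rw [hgw, Equiv.swap_apply_left] at h2
        have hCC := h.cl g hg C (hpC hC)
        exact hN _ hCC (fun h3 => (hs _ hCC).2 (Or.inl h3) h2) fun h3 => (hs _ hCC).2 (Or.inr h3) h2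
      rw [hmove g _ hgy hgw bv hbv, Equiv.swap_apply_left] at h1
      exact hzN ((Subgroup.mul_mem_cancel_right N hyN).1 h1)
    · -- `v = w b`
      obtain ⟨g, hg, hgy, hgw⟩ := k.ex (Equiv.swap bv 2)
      have hPP : ∀ C ∈ p, cj g C ∈ p := fun C hC => by
        have h2 := h.mem_Rr hg (hpa C hC)
        rw [hgw, Equiv.swap_apply_of_ne_of_ne hab ha2] at h2
        have hCC := h.cl g hg C (hpC hC)
        have h3 : w 2 ∉ Rr CC (cj g C) := fun h3 => ha2 (huq _ hCC a 2 h2 h3)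
        rcases (hs _ hCC).1 h3 with h4 | h4
        · exact h4
        · exact absurd (huq _ hCC a bv h2 (hpb _ h4)) hab
      have h6 := hdiff g _ hgy hgw bv a hbv (by rw [Equiv.swap_apply_left]; exact hbv2) hab
        (by rw [Equiv.swap_apply_left]; exact ha2) (conj_mem_sSup hPP hy)
      have h7 := hsup C0' (hpC' hC0') (fun h7 => hdis _ h7 hC0') h6
      exact hab (huq C0' (hpC' hC0') a bv h7 (hpb C0' hC0'))

/-- (F): one orbit is everything. -/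
theorem f_one (h : Lines P CC) (k : Tri P w y') {Q : Subgroup G} (hQP : Q ≤ P)
    (hQw : ∀ q ∈ Q, ∀ a, q * w a = w a * q) {p : Set (Subgroup G)} (hp : Orb Q p)
    (hpC : p ⊆ CC) (hs : ∀ C ∈ CC, w 2 ∉ Rr CC C ↔ C ∈ p) :
    p = CC ∧ ∀ C ∈ CC, ∀ a, w a ∉ Rr CC C := by
  obtain ⟨C0, hC0⟩ := hp.ne
  rcases tri h k (hpC hC0) ((hs C0 (hpC hC0)).2 hC0) with hA | hB
  · exact ⟨Set.Subset.antisymm hpC fun C hC => (hs C hC).1 (hA C hC 2), hA⟩
  exfalso
  have hq : ∀ q ∈ Q, ∀ a, ∀ C, w a ∈ Rr CC C → w a ∈ Rr CC (cj q C) := fun q hq a C hC => by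
    have h1 := h.mem_Rr (hQP hq) hC
    have e : q * w a * q⁻¹ = w a := by rw [hQw q hq a, mul_inv_cancel_right]
    rwa [e] at h1
  have hex : ∀ a, ∃ C ∈ CC, w a ∈ Rr CC C := fun a => by
    obtain ⟨b, hb, -⟩ := hB C0 (hpC hC0)
    obtain ⟨g, hg, -, hgw⟩ := k.ex (Equiv.swap b a)
    refine ⟨cj g C0, h.cl g hg _ (hpC hC0), ?_⟩
    have h1 := h.mem_Rr hg hb
    rwa [hgw, Equiv.swap_apply_left] at h1
  have hor : ∀ a, a ≠ 2 → ∀ C ∈ p, w a ∈ Rr CC C := fun a ha => by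
    obtain ⟨C, hC, hCa⟩ := hex a
    obtain ⟨b, hb, hb'⟩ := hB C hC
    have hab := hb' a hCa
    have h2 : w 2 ∉ Rr CC C := fun h2 => ha (hab.trans (hb' 2 h2).symm)
    have h3 := (hs C hC).1 h2
    intro D hD
    obtain ⟨q, hq', rfl⟩ := (hp.orb C h3 D).1 hD
    exact hq q hq' a C hCa
  obtain ⟨c, -, hc⟩ := hB C0 (hpC hC0)
  exact absurd ((hc 0 (hor 0 (by decide) C0 hC0)).trans (hc 1 (hor 1 (by decide) C0 hC0)).symm) (by decide)

end

end Cfsg.Agent.Omega.OM.Lev.Low.WDead
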