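import Cfsg.Agent.Omega.OM.Lev.Low.WDead

/-!
# TEXT LL v2 (helper584 #20624), (6) and (7)(W) over `Set5`

* `tri_of` : `Tri` from a natural module of order 4;
* `Set5.no_two` : the case (W) (two `Q`-orbits of blocks) is impossible;
* `Set5.one_orbit` : in the case (F) (one `Q`-orbit) `P` permutes the lines `[V l, B]`.
-/

set_option autoImplicit false
set_option linter.unusedSectionVars false

namespace Cfsg.Agent.Omega.OM.Lev.Low.WDead

open Subgroup Cfsg Cfsg.Agent.ZN Cfsg.Agent.ZN.ChoiceBase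
open Cfsg.Agent.Omega.NO3S.ThmB (mem_cj_of exists_of_mem_cj)

universe u

variable {G : Type u} [Group G]

/-- The three nontrivial elements of a natural `SL₂(2)`-module. -/
theorem tri_of [Finite G] {P L Vi : Subgroup G} (h4 : Nat.card Vi = 4) (h2 : IsElementaryAbelian 2 Vi)
    (PV : P ≤ normalizer (Vi : Set G)) (LP : L ≤ P)
    (hL : ∀ x ∈ Vi, ∀ x' ∈ Vi, x ≠ 1 → x' ≠ 1 → ∃ g ∈ L, g * x * g⁻¹ = x') {z : G} (hz : z ∈ Vi) (hz1 : z ≠ 1)
    {t : G} (ht : t ∈ L) (htz : t * z = z * t) (htV : t ∉ centralizer (Vi : Set G)) {y' : G}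
    (hy : ∀ g ∈ L, g * y' = y' * g) (hyV : ∀ v ∈ Vi, y' * v = v * y') :
    ∃ w : Fin 3 → G, w 2 = z ∧ Tri P w y' ∧ ∀ v ∈ Vi, v ≠ 1 → ∃ a, v = w a := by
  classical
  have comm : ∀ a ∈ Vi, ∀ b ∈ Vi, a * b = b * a := fun a ha b hb =>
    NO3S.ThmB.elem_comm h2 ha hb
  have sq : ∀ a ∈ Vi, a * a = 1 := fun a ha => by
    have h := h2.2 a ha
    rwa [pow_two] at h
  -- an element moved by `t`
  obtain ⟨v, hv, hvt⟩ : ∃ v ∈ Vi, t * v ≠ v * t := by
    by_contra hcon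
    push Not at hcon
    exact htV (mem_centralizer_iff.2 fun v hv => (hcon v hv).symm)
  have hv1 : v ≠ 1 := fun e => hvt (by rw [e, mul_one, one_mul])
  have hvz : v ≠ z := fun e => hvt (by rw [e]; exact htz)
  have hzv1 : z * v ≠ 1 := fun e => hvz (by
    have := sq z hz
    exact mul_left_cancel (e.trans this.symm))
  -- all elements
  have hall : ∀ x ∈ Vi, x = 1 ∨ x = v ∨ x = z * v ∨ x = z := by
    have hcard : (Set.range ![(1 : G), v, z * v, z]).ncard = 4 := by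
      have hinj : Function.Injective ![(1 : G), v, z * v, z] := by
        intro a b
        fin_cases a <;> fin_cases b <;> simp <;> intro h
        · exact hv1 h.symm
        · exact hzv1 h.symm
        · exact hz1 h.symm
        · exact hv1 h
        · exact hz1 h
        · exact hvz h
        · exact hzv1 h
        · exact hz1 h
        · exact hv1 h
        · exact hz1 h
        · exact hvz h.symm
        · exact hv1 h
      rw [← Set.image_univ, Set.ncard_image_of_injective _ hinj, Set.ncard_univ, Nat.card_eq_fintype_card]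
      simp
    have hsub : Set.range ![(1 : G), v, z * v, z] ⊆ (Vi : Set G) := by
      rintro _ ⟨a, rfl⟩
      fin_cases a
      exacts [one_mem _, hv, mul_mem hz hv, hz]
    have heq : Set.range ![(1 : G), v, z * v, z] = (Vi : Set G) := by
      refine Set.eq_of_subset_of_ncard_le hsub ?_
      rw [hcard]
      have : (Vi : Set G).ncard = 4 := by
        rw [← h4]; rfl
      exact this.le
    intro x hx
    have hx' : x ∈ Set.range ![(1 : G), v, z * v, z] := by rw [heq]; exact hx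
    obtain ⟨a, rfl⟩ := hx'
    fin_cases a <;> simp
  let w : Fin 3 → G := ![v, z * v, z]
  have w0 : w 0 = v := rfl
  have w1 : w 1 = z * v := rfl
  have w2 : w 2 = z := rfl
  have hwV : ∀ a, w a ∈ Vi := by
    intro a
    fin_cases a
    exacts [hv, mul_mem hz hv, hz]
  have hw1 : ∀ a, w a ≠ 1 := by
    intro a
    fin_cases a
    exacts [hv1, hzv1, hz1]
  have hex : ∀ x ∈ Vi, x ≠ 1 → ∃ a, x = w a := by
    intro x hx hx1
    rcases hall x hx with e | e | e | e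
    exacts [absurd e hx1, ⟨0, e⟩, ⟨1, e⟩, ⟨2, e⟩]
  have hinj : Function.Injective w := by
    intro a b
    fin_cases a <;> fin_cases b <;> simp [w] <;> intro h
    · exact hz1 h
    · exact hvz h
    · exact hz1 h
    · exact hv1 h
    · exact hvz h.symm
    · exact hv1 h
  -- conjugation permutes
  have hact : ∀ g ∈ P, ∃ σ : Equiv.Perm (Fin 3), ∀ a, g * w a * g⁻¹ = w (σ a) := by
    intro g hg
    have h1 : ∀ a, ∃ b, g * w a * g⁻¹ = w b := fun a =>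
      hex _ ((mem_normalizer_iff.1 (PV hg) _).1 (hwV a)) fun e => hw1 a (by
        have e2 : w a = g⁻¹ * (g * w a * g⁻¹) * g := by group
        rw [e2, e]; group)
    choose f hf using h1
    have hfi : Function.Injective f := fun a b hab => hinj (by
      have e : g * w a * g⁻¹ = g * w b * g⁻¹ := by rw [hf, hf, hab]
      exact mul_left_cancel (mul_right_cancel e))
    exact ⟨Equiv.ofBijective f ⟨hfi, Finite.surjective_of_injective hfi⟩, hf⟩
  refine ⟨w, rfl, ⟨?_, hact, ?_, fun a => hyV _ (hwV a)⟩, hex⟩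
  · intro a b c hab hca hcb
    have e1 : z * v * v = z := by rw [mul_assoc, sq v hv, mul_one]
    have e2 : z * (z * v) = v := by rw [← mul_assoc, sq z hz, one_mul]
    fin_cases a <;> fin_cases b <;> fin_cases c <;> simp [w] at hab hca hcb ⊢
    · rw [comm v hv _ (mul_mem hz hv), e1]
    · exact comm v hv z hz
    · exact e1
    · rw [comm _ (mul_mem hz hv) z hz, e2]
    · exact e2
  · -- all permutations
    have htr : ∀ a b, ∃ g ∈ L, g * w a * g⁻¹ = w b := fun a b => hL _ (hwV a) _ (hwV b) (hw1 a) (hw1 b)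
    have htm : ∃ σ : Equiv.Perm (Fin 3), (∀ a, t * w a * t⁻¹ = w (σ a)) ∧ σ 2 = 2 ∧ σ 0 ≠ 0 := by
      obtain ⟨σ, hσ⟩ := hact t (LP ht)
      refine ⟨σ, hσ, hinj ?_, fun e => hvt ?_⟩
      · rw [← hσ, w2, htz, mul_inv_cancel_right]
      · have h1 := hσ 0
        rw [e, w0] at h1
        rw [mul_inv_eq_iff_eq_mul] at h1
        exact h1
    obtain ⟨τ, hτ, hτ2, hτ0⟩ := htm
    have hreal : ∀ ρ : Equiv.Perm (Fin 3), (∃ g ∈ L, ∀ a, g * w a * g⁻¹ = w (ρ a)) →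
        ∃ g ∈ P, g * y' = y' * g ∧ ∀ a, g * w a * g⁻¹ = w (ρ a) :=
      fun ρ ⟨g, hg, h⟩ => ⟨g, LP hg, hy g hg, h⟩
    intro ρ
    refine hreal ρ ?_
    obtain ⟨g, hg, hgw⟩ := htr 2 (ρ 2)
    obtain ⟨σ, hσ⟩ := hact g (LP hg)
    have hσ2 : σ 2 = ρ 2 := hinj (by rw [← hσ, hgw])
    by_cases h0 : σ 0 = ρ 0
    · refine ⟨g, hg, fun a => ?_⟩
      have : σ a = ρ a := by
        revert hσ2 h0
        generalize σ = σ, ρ = ρ
        revert a σ ρ
        decide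
      rw [hσ, this]
    · refine ⟨g * t, mul_mem hg ht, fun a => ?_⟩
      have e : g * t * w a * (g * t)⁻¹ = g * (t * w a * t⁻¹) * g⁻¹ := by group
      rw [e, hτ, hσ]
      have h0' : ∀ σ ρ τ : Equiv.Perm (Fin 3), τ 2 = 2 → τ 0 ≠ 0 → σ 2 = ρ 2 → ¬ σ 0 = ρ 0 →
          ∀ a, σ (τ a) = ρ a := by decide
      rw [h0' σ ρ τ hτ2 hτ0 hσ2 h0 a]

end Cfsg.Agent.Omega.OM.Lev.Low.WDead

namespace Cfsg.Agent.Omega.OM.Lev.Low.Five.Set5

open Subgroup Cfsg Cfsg.Agent.ZN Cfsg.Agent.ZN.ChoiceBase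
open Cfsg.Agent.Omega.NO3S.ThmB (mem_cj_of exists_of_mem_cj cj_comm)
open Cfsg.Agent.Omega.OM.Lev.Low.WDead

variable {G : Type*} [Group G] {ι : Type*} {S U H B ZJ P : Subgroup G} {AA : Set (Subgroup G)}
  {K V : ι → Subgroup G} (X : Set5 S U H B ZJ P AA K V)

/-- The lines: the `P`-conjugates of the `[V l, B]`. -/
def CC (B P : Subgroup G) (V : ι → Subgroup G) : Set (Subgroup G) := {C | ∃ g ∈ P, ∃ l, C = cj g ⁅V l, B⁆}

theorem cj_line {b : G} (hb : b ∈ B) {l m : ι} (e : cj b (V l) = V m) : cj b ⁅V l, B⁆ = ⁅V m, B⁆ := by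
  rw [cj_comm, e, cj_eq_of_mem_normalizer (le_normalizer hb)]

theorem mem_CC (l : ι) : ⁅V l, B⁆ ∈ CC B P V := ⟨1, one_mem _, l, (cj_one _).symm⟩

include X

/-- The lines are permuted transitively. -/
theorem lines (trB : ∀ l m, ∃ b ∈ B, cj b (V l) = V m) : Lines P (CC B P V) where
  cl := by
    rintro g hg _ ⟨g', hg', l, rfl⟩
    exact ⟨g * g', mul_mem hg hg', l, cj_cj _ _ _⟩
  tr := by
    rintro _ ⟨g, hg, l, rfl⟩ _ ⟨g', hg', m, rfl⟩
    obtain ⟨b, hb, e⟩ := trB l m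
    refine ⟨g' * b * g⁻¹, mul_mem (mul_mem hg' (X.BP hb)) (inv_mem hg), ?_⟩
    rw [cj_cj, ← cj_line hb e, cj_cj]
    congr 1
    group

/-- A line which is none of the `[V m, B]` is centralised by all `K l`. -/
theorem le_cen [Finite G] {C : Subgroup G} (hC : C ∈ CC B P V) (l : ι) :
    C = ⁅V l, B⁆ ∨ C ≤ centralizer (K l : Set G) := by
  obtain ⟨g, hg, m, rfl⟩ := hC
  exact X.five hg l m

theorem Rr_le [Finite G] (l : ι) : Rr (CC B P V) ⁅V l, B⁆ ≤ centralizer (K l : Set G) :=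
  sSup_le fun _ hC => (X.le_cen hC.1 l).resolve_left fun e => hC.2 e

theorem supp_iff [Finite G] {z : G} (hz : z ∈ sSup (Set.range fun l => ⁅V l, B⁆))
    (hz' : ∀ l, z ∉ centralizer (K l : Set G)) {C : Subgroup G} (hC : C ∈ CC B P V) :
    z ∉ Rr (CC B P V) C ↔ ∃ l, C = ⁅V l, B⁆ := by
  constructor
  · intro h
    by_contra hn
    push Not at hn
    have h3 : sSup (Set.range fun l => ⁅V l, B⁆) ≤ Rr (CC B P V) C := by
      refine sSup_le ?_
      rintro _ ⟨l, rfl⟩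
      exact le_sSup ⟨mem_CC l, fun e => hn l (by
        have e' : ⁅V l, B⁆ = C := e
        exact e'.symm)⟩
    exact h (h3 hz)
  · rintro ⟨l, rfl⟩ h
    exact hz' l (X.Rr_le l h)

/-- **The case (W) is impossible.** -/
theorem no_two [Finite G] {w : Fin 3 → G} {y' : G} (k : Tri P w y') {Q : Subgroup G} (QB : Q ≤ B)
    (PQ : P ≤ normalizer (Q : Set G)) (Qw : ∀ q ∈ Q, ∀ a, q * w a = w a * q)
    (trB : ∀ l m, ∃ b ∈ B, cj b (V l) = V m)
    (cK : ∀ l m, l ≠ m → ⁅V l, B⁆ ≤ centralizer (K m : Set G))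
    (hz : w 2 ∈ sSup (Set.range fun l => ⁅V l, B⁆)) (hz' : ∀ l, w 2 ∉ centralizer (K l : Set G))
    {σ : ι → Prop} (h1 : ∃ l, σ l) (h2 : ∃ l, ¬ σ l)
    (hQ : ∀ q ∈ Q, ∀ l, ∃ m, (σ l ↔ σ m) ∧ cj q (V l) = V m)
    (hQ' : ∀ l m, (σ l ↔ σ m) → ∃ q ∈ Q, cj q (V l) = V m)
    {y v : G} (hy : y ∈ sSup {C | ∃ l, σ l ∧ C = ⁅V l, B⁆}) (hyv : y = v * y') (hv : v = w 0 ∨ v = w 1)
    (hy' : ∀ l, y' ∈ centralizer (K l : Set G)) : False := by
  have hne : ∀ l, ¬ ⁅V l, B⁆ ≤ centralizer (K l : Set G) := fun l hl => hz' l (by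
    have h3 : sSup (Set.range fun l => ⁅V l, B⁆) ≤ centralizer (K l : Set G) := by
      refine sSup_le ?_
      rintro _ ⟨m, rfl⟩
      by_cases e : m = l
      · rw [e]; exact hl
      · exact cK m l e
    exact h3 hz)
  have hinj : ∀ l m, ⁅V l, B⁆ = ⁅V m, B⁆ → l = m := fun l m e => by
    by_contra hn
    exact hne m (e ▸ cK l m hn)
  have horb : ∀ τ : ι → Prop, (∃ l, τ l) → (∀ q ∈ Q, ∀ l, ∃ m, (τ l ↔ τ m) ∧ cj q (V l) = V m) →
      (∀ l m, (τ l ↔ τ m) → ∃ q ∈ Q, cj q (V l) = V m) → Orb Q {C | ∃ l, τ l ∧ C = ⁅V l, B⁆} := by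
    intro τ h3 h4 h5
    obtain ⟨l0, hl0⟩ := h3
    refine ⟨⟨_, l0, hl0, rfl⟩, ?_⟩
    rintro _ ⟨l, hl, rfl⟩ D
    constructor
    · rintro ⟨m, hm, rfl⟩
      obtain ⟨q, hq, e⟩ := h5 l m ⟨fun _ => hm, fun _ => hl⟩
      exact ⟨q, hq, cj_line (QB hq) e⟩
    · rintro ⟨q, hq, rfl⟩
      obtain ⟨m, hm, e⟩ := h4 q hq l
      exact ⟨m, hm.1 hl, cj_line (QB hq) e⟩
  have hp := horb σ h1 hQ hQ'
  have hp' := horb (fun l => ¬ σ l) h2 (fun q hq l => by
    obtain ⟨m, hm, e⟩ := hQ q hq l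
    exact ⟨m, not_congr hm, e⟩) fun l m h => hQ' l m (not_iff_not.1 h)
  refine w_dead (X.lines trB) k PQ (QB.trans X.BP) Qw hp hp' ?_ ?_ ?_ ?_ hy hyv hv
    (N := centralizer (K h1.choose : Set G)) ?_ (hy' _) (hz' _)
  · rintro _ ⟨l, -, rfl⟩
    exact mem_CC l
  · rintro _ ⟨l, -, rfl⟩
    exact mem_CC l
  · rintro _ ⟨l, hl, rfl⟩ ⟨m, hm, e⟩
    exact hm (hinj l m e ▸ hl)
  · intro C hC
    rw [X.supp_iff hz hz' hC]
    constructor
    · rintro ⟨l, rfl⟩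
      by_cases h : σ l
      · exact Or.inl ⟨l, h, rfl⟩
      · exact Or.inr ⟨l, h, rfl⟩
    · rintro (⟨l, -, rfl⟩ | ⟨l, -, rfl⟩) <;> exact ⟨l, rfl⟩
  · intro C hC hn hn'
    refine (X.le_cen hC h1.choose).resolve_left fun e => ?_
    exact hn ⟨_, h1.choose_spec, e⟩

/-- **The case (F)**: the lines of one `Q`-orbit are all lines. -/
theorem one_orbit [Finite G] {w : Fin 3 → G} {y' : G} (k : Tri P w y') {Q : Subgroup G} (QB : Q ≤ B)
    (Qw : ∀ q ∈ Q, ∀ a, q * w a = w a * q)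
    (hz : w 2 ∈ sSup (Set.range fun l => ⁅V l, B⁆)) (hz' : ∀ l, w 2 ∉ centralizer (K l : Set G)) (h1 : Nonempty ι)
    (hQ : ∀ q ∈ Q, ∀ l, ∃ m, cj q (V l) = V m)
    (hQ' : ∀ l m, ∃ q ∈ Q, cj q (V l) = V m) :
    (∀ g ∈ P, ∀ l, ∃ m, cj g ⁅V l, B⁆ = ⁅V m, B⁆) ∧ ∀ l a, w a ∉ Rr (CC B P V) ⁅V l, B⁆ := by
  have hp : Orb Q (Set.range fun l => ⁅V l, B⁆) := by
    obtain ⟨l0⟩ := h1
    refine ⟨⟨_, l0, rfl⟩, ?_⟩
    rintro _ ⟨l, rfl⟩ D
    constructor
    · rintro ⟨m, rfl⟩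
      obtain ⟨q, hq, e⟩ := hQ' l m
      exact ⟨q, hq, cj_line (QB hq) e⟩
    · rintro ⟨q, hq, rfl⟩
      obtain ⟨m, e⟩ := hQ q hq l
      exact ⟨m, (cj_line (QB hq) e).symm⟩
  have h3 := f_one (X.lines fun l m => by
    obtain ⟨q, hq, e⟩ := hQ' l m
    exact ⟨q, QB hq, e⟩) k (QB.trans X.BP) Qw hp (by
      rintro _ ⟨l, rfl⟩
      exact mem_CC l) fun C hC => by
      rw [X.supp_iff hz hz' hC]
      exact ⟨fun ⟨l, hl⟩ => ⟨l, hl.symm⟩, fun ⟨l, hl⟩ => ⟨l, hl.symm⟩⟩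
  refine ⟨fun g hg l => ?_, fun l a => h3.2 _ (mem_CC l) a⟩
  have h4 : cj g ⁅V l, B⁆ ∈ Set.range fun l => ⁅V l, B⁆ := by
    rw [h3.1]
    exact ⟨g, hg, l, rfl⟩
  obtain ⟨m, hm⟩ := h4
  exact ⟨m, hm.symm⟩

end Cfsg.Agent.Omega.OM.Lev.Low.Five.Set5
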