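import Cfsg.Agent.Omega.OM.Lev.Low.LowMain

/-!
# The blocks of a parabolic `Y` of lower stage, with their modules (`YK`)

`YK T Y X B₀ K E N c` : `YB T X N c`, and `K l` is a block over `B₀` on `E l` (`PB`) with `N l = C_X(K l)`,
`c l ≤ [E l, B₀]`; `T` permutes the modules `[E l, K l]` transitively.

`SetU` : the closure `UU Γ V` of the `V l` under `Γ`; `UU_le_zc`, `UU_le_B` for `Γ` in a group of characteristic 2.
-/

set_option autoImplicit false
set_option linter.unusedSectionVars false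

namespace Cfsg.Agent.Omega.OM.Lev.Low

open Subgroup Cfsg Cfsg.Agent.ZN.ChoiceBase Cfsg.Agent.ZN.ChoiceSit
open Cfsg.Agent.ZN (jj zj bau zc zl o2)
open Cfsg.Agent.Omega.LemmaK (Block WeakNormal)
open Cfsg.Agent.Omega.SQ1.Bau (elem_comm elem_sq)
open scoped commutatorElement

universe u

variable {G : Type u} [Group G] {Λ : Type*}

/-- **The blocks of `Y` with their modules.** -/
structure YK (T Y X B₀ : Subgroup G) (K E N c : Λ → Subgroup G) : Prop where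
  yb : YB T X N c
  pb : ∀ l, ∃ (N1 N0 : Subgroup G) (r : ℕ), PB B₀ (K l) (E l) N1 N0 r
  KY : ∀ l, K l ≤ Y
  EY : ∀ l, E l ≤ zl T Y
  memN : ∀ l, ∀ x ∈ X, (x ∈ N l ↔ ∀ k ∈ K l, k * x = x * k)
  mv : ∀ t ∈ T, ∀ l m, Mv N c t l m → cj t ⁅E l, K l⁆ = ⁅E m, K m⁆
  line : ∀ l, c l ≤ ⁅E l, B₀⁆
  cross : ∀ l m, l ≠ m → ⁅E l, B₀⁆ ≤ N m
  tr : ∀ l m, ∃ t ∈ T, Mv N c t l m
  sup : ∀ l, Y ≤ T ⊔ K l

/-! ### The closure of the modules -/

section uu

variable {ι : Type*} (Γ : Subgroup G) (V : ι → Subgroup G)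

/-- the closure of the `V l` under `Γ` -/
def UU : Subgroup G := ⨆ (g : Γ) (l : ι), cj (g : G) (V l)

variable {Γ V}

theorem le_UU (l : ι) : V l ≤ UU Γ V := by
  have h1 : cj ((1 : Γ) : G) (V l) ≤ UU Γ V := le_iSup₂_of_le (1 : Γ) l le_rfl
  rwa [OneMemClass.coe_one, cj_one] at h1

theorem UU_le {C : Subgroup G} (hV : ∀ l, V l ≤ C) (hC : Γ ≤ normalizer (C : Set G)) : UU Γ V ≤ C :=
  iSup₂_le fun g l => by
    have h1 := cj_mono (g : G) (hV l)
    rwa [cj_eq_of_mem_normalizer (hC g.2)] at h1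

theorem UU_norm [Finite G] : Γ ≤ normalizer (UU Γ V : Set G) := by
  intro x hx
  refine mem_normalizer_of_cj_le ?_
  show Subgroup.map _ (⨆ (g : Γ) (l : ι), cj (g : G) (V l)) ≤ _
  rw [Subgroup.map_iSup]
  refine iSup_le fun g => ?_
  rw [Subgroup.map_iSup]
  refine iSup_le fun l => ?_
  have h1 : cj x (cj (g : G) (V l)) = cj ((⟨x * g, mul_mem hx g.2⟩ : Γ) : G) (V l) := cj_cj _ _ _
  exact h1.le.trans (le_iSup₂_of_le (⟨x * g, mul_mem hx g.2⟩ : Γ) l le_rfl)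

/-- a normal 2-subgroup `O` of a group `H` of characteristic 2 contains the modules of the blocks -/
theorem UU_le_zc [Finite G] {B₀ H O : Subgroup G} {K : ι → Subgroup G} (hb : ∀ l, Block 2 B₀ (K l) (V l))
    (hKH : ∀ l, K l ≤ H) (hΓ : Γ ≤ H) (hO : IsPGroup 2 O) (hHO : H ≤ normalizer (O : Set G))
    (hc : H ⊓ centralizer (O : Set G) ≤ O) (h2 : ∀ l, ∀ v ∈ V l, v ^ 2 = 1) : UU Γ V ≤ zc O := by
  have : Fact (Nat.Prime 2) := ⟨Nat.prime_two⟩
  refine UU_le (fun l v hv => mem_zc.2 ⟨?_, h2 l v hv, fun x hx => ?_⟩)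
    (hΓ.trans (hHO.trans (NO3S.Level.normalizer_le_zc O)))
  · exact (hb l).le_of_char (hKH l) hO hHO hc hv
  · exact (mem_centralizer_iff.1 ((hb l).le_centralizer hO ((hKH l).trans hHO) hx) v hv).symm

/-- `U ≤ C(X)` : `L ≤ N(X)`, `K l` moves `X` inside `X V l` -/
theorem UU_cent [Finite G] {X L : Subgroup G} {K : ι → Subgroup G}
    (hUc : ∀ x ∈ UU Γ V, ∀ y ∈ UU Γ V, x * y = y * x) (hVX : ∀ l, V l ≤ centralizer (X : Set G))
    (hL : L ≤ normalizer (X : Set G)) (hΓ : Γ = L ⊔ ⨆ l, K l)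
    (hK : ∀ l, ∀ k ∈ K l, ∀ x ∈ X, k * x * k⁻¹ * x⁻¹ ∈ V l) : UU Γ V ≤ centralizer (X : Set G) := by
  have hnorm : Γ ≤ normalizer (UU Γ V : Set G) := UU_norm
  have h0 : Γ ≤ normalizer ((UU Γ V ⊓ centralizer (X : Set G) : Subgroup G) : Set G) := by
    conv_lhs => rw [hΓ]
    refine sup_le (fun g hg => ?_) (iSup_le fun l g hg => ?_)
    · have hg1 : g ∈ Γ := by rw [hΓ]; exact mem_sup_left hg
      rw [mem_normalizer_iff_cj, cj_inf, cj_centralizer, cj_eq_of_mem_normalizer (hL hg),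
        cj_eq_of_mem_normalizer (hnorm hg1)]
    · have hg1 : g ∈ Γ := by rw [hΓ]; exact mem_sup_right (mem_iSup_of_mem l hg)
      refine mem_normalizer_of_cj_le ?_
      rintro _ ⟨u, ⟨hu, huc⟩, rfl⟩
      refine ⟨(mem_normalizer_iff.1 (hnorm hg1) u).1 hu, mem_centralizer_iff.2 fun x hx => ?_⟩
      have h1 := hK l g⁻¹ (inv_mem hg) x hx
      set v := g⁻¹ * x * g⁻¹⁻¹ * x⁻¹ with hv
      have e1 : g⁻¹ * x * g = v * x := by rw [hv]; group
      have c1 : Commute u v := hUc u hu v (le_UU l h1)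
      have c2 : Commute u x := (mem_centralizer_iff.1 huc x hx).symm
      have c3 : u * (v * x) = v * x * u := (c1.mul_right c2).eq
      rw [← e1] at c3
      have h3 := congrArg (fun y => g * y * g⁻¹) c3
      show x * (g * u * g⁻¹) = g * u * g⁻¹ * x
      have e2 : g * (u * (g⁻¹ * x * g)) * g⁻¹ = g * u * g⁻¹ * x := by group
      have e3 : g * (g⁻¹ * x * g * u) * g⁻¹ = x * (g * u * g⁻¹) := by group
      rw [← e2, ← e3]
      exact h3.symm
  exact (UU_le (fun l => le_inf (le_UU l) (hVX l)) h0).trans inf_le_right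

end uu

end Cfsg.Agent.Omega.OM.Lev.Low
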