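import Cfsg.Agent.Omega.OM.Lev.Low.Data
import Cfsg.Agent.Omega.OM.Lev.Low.Co
import Cfsg.Agent.Omega.NO3S.ThmB.Cyc

/-!
# `YB` for a parabolic of natural type

`LD M B ZJ L j` : one block `L` for the `j`-th summand. `Ni i` : the elements of `Z_J` centralised by all `T`-conjugates
of `L` for the `i`-th summand.

* `LD.eq` : **LEMMA EQ** (helper584): one of them is enough;
* `LD.yb` : `YB T ZJ Ni c`.
-/

set_option autoImplicit false
set_option linter.unusedSectionVars false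

namespace Cfsg.Agent.Omega.OM.Lev.Low

open Subgroup Cfsg Cfsg.Agent.ZN Cfsg.Agent.ZN.ChoiceBase Cfsg.Agent.ZN.ChoiceSit
open Cfsg.Agent.Omega.NatPair (ap ap_zero' ap_one' ap_one ap_mul ext2 ap_inv_ap ap_inj)
open Cfsg.Agent.Lib.SL2Mat
open Cfsg.Agent.Omega.SQ1.FFOne (MinH)
open Cfsg.Agent.Omega.NO3S.OneLine (NatC single_acts natC_of)
open Cfsg.Agent.Omega.OM.Lev.Nat (Wn mem_Wn ap_z exists_up)
open Cfsg.Agent.Omega.FFThm (NatK NatKM ActsSL)
open Cfsg.Agent.Omega.SQ1.Bau (elem_comm elem_sq)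
open Cfsg.Agent.Omega.NO3S.ThmB (Nb Fx Pf)

universe u

variable {G : Type u} [Group G] [Finite G] {F : Type} [Field F] {T H V D : Subgroup G} {k : ℕ}
  {M : NatC F T H V D k} {B ZJ L : Subgroup G} {j : Fin k}

/-- the elements of `Z_J` centralised by all `T`-conjugates of `L` for the `i`-th summand -/
def Ni (M : NatC F T H V D k) (ZJ L : Subgroup G) (j i : Fin k) : Subgroup G :=
  ZJ ⊓ ⨅ (t : G) (_ : t ∈ T ∧ MvI M t j i), centralizer (cj t L : Set G)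

theorem mem_Ni {i : Fin k} {x : G} : x ∈ Ni M ZJ L j i ↔ x ∈ ZJ ∧ ∀ t ∈ T, MvI M t j i → ∀ l ∈ L,
    l * (t⁻¹ * x * t) = t⁻¹ * x * t * l := by
  rw [Ni, mem_inf]
  simp only [mem_iInf]
  refine and_congr_right fun _ => ⟨fun h t ht hm l hl => ?_, fun h t ht => ?_⟩
  · have h1 := mem_centralizer_iff.1 (h t ⟨ht, hm⟩) (t * l * t⁻¹) ⟨l, hl, rfl⟩
    have h2 := congrArg (fun y => t⁻¹ * y * t) h1
    simpa [mul_assoc] using h2
  · rw [mem_centralizer_iff]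
    rintro _ ⟨l, hl, rfl⟩
    have h1 := h t ht.1 ht.2 l hl
    have h2 := congrArg (fun y => t * y * t⁻¹) h1
    show t * l * t⁻¹ * x = x * (t * l * t⁻¹)
    simpa [mul_assoc] using h2

namespace LD

variable (h : LD M B ZJ L j)
include h

theorem conjZ {t x : G} (ht : t ∈ T) (hx : x ∈ ZJ) : t * x * t⁻¹ ∈ ZJ := (mem_normalizer_iff.1 (h.TZ ht) x).1 hx

theorem conjZ' {t x : G} (ht : t ∈ T) (hx : x ∈ ZJ) : t⁻¹ * x * t ∈ ZJ := by
  have := h.conjZ (inv_mem ht) hx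
  rwa [inv_inv] at this

/-- an element of the `j`-th line centralised by `L` lies in `D` -/
theorem Lj_D {n : G} (hn : n ∈ Li M j) (hc : ∀ l ∈ L, l * n = n * l) : n ∈ D := by
  refine Li_D hn ?_
  obtain ⟨l, hl, hlA⟩ := h.cov (lo 1)
  have h1 : l * n * l⁻¹ = n := by rw [hc l hl]; group
  have h2 := hlA.e_i hn.1
  rw [h1] at h2
  have h3 := congrFun h2 1
  rw [ap_one', hn.2.2] at h3
  simpa using h3.symm

/-- a 2-element of `C_H(V)` normalises `Z_J` -/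
theorem two_norm [CharP F 2] {y : G} (hy : y ∈ H) (hyV : ∀ v ∈ V, y * v = v * y) {n : ℕ} (hn : y ^ 2 ^ n = 1) :
    y ∈ T := by
  have hys : y ∈ M.stab := by
    refine ⟨hy, fun v hv i => ?_, fun d hd => hyV d (M.DV hd)⟩
    rw [hyV v hv, mul_inv_cancel_right, Pi.one_apply, ap_one]
  have hTs : T ⊓ M.stab ≤ o2 H := h.hm.inf_le (fun _ h => h.1) M.stab_norm (M.stab_sup_ne h.hm.syl)
  have hp : IsPGroup 2 (zpowers y) := by
    rintro ⟨z, hz⟩
    obtain ⟨m, rfl⟩ := mem_zpowers_iff.1 hz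
    refine ⟨n, Subtype.ext ?_⟩
    show (y ^ m) ^ 2 ^ n = 1
    rw [← zpow_natCast, ← zpow_mul, mul_comm, zpow_mul, zpow_natCast, hn, one_zpow]
  obtain ⟨S, hS, hyS⟩ := exists_syl hp ((zpowers_le (H := H)).2 hy)
  obtain ⟨g, hg, e⟩ := syl_conj hS h.hm.syl
  have h1 : g * y * g⁻¹ ∈ T := by
    rw [← e]
    exact ⟨y, hyS (mem_zpowers y), rfl⟩
  have h3 := hTs ⟨h1, M.stab_norm g hg y hys⟩
  have h4 := (mem_normalizer_iff.1 (ChoiceSit.le_normalizer_o2 H (inv_mem hg)) _).1 h3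
  have e1 : g⁻¹ * (g * y * g⁻¹) * g⁻¹⁻¹ = y := by group
  rw [e1] at h4
  exact o2_le_syl h.hm.syl h4

/-- **LEMMA EQ** (helper584) -/
theorem eq [CharP F 2] {t s : G} (ht : t ∈ T) (hs : s ∈ T) {i : Fin k} (mt : MvI M t j i) (ms : MvI M s j i) {x : G}
    (hx : x ∈ ZJ) (hc : ∀ l ∈ L, l * (t⁻¹ * x * t) = t⁻¹ * x * t * l) :
    ∀ l ∈ L, l * (s⁻¹ * x * s) = s⁻¹ * x * s * l := by
  obtain ⟨c, hcZ, hcL, n, hn, e0⟩ := h.split _ (h.conjZ' hs hx)
  have hnD : n ∈ D := by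
    refine Li_D hn ?_
    by_contra hne
    obtain ⟨l', hl', hlA⟩ := h.cov (lo 1)
    have hsH := h.TH hs
    have htH := h.TH ht
    -- `g' = s l' s⁻¹`, `g = t l t⁻¹` act in the same way on `V`
    obtain ⟨A', hA'⟩ := hlA.conj hsH ms
    obtain ⟨A'', hA''⟩ := hA'.conj (inv_mem htH) (mt.inv htH)
    obtain ⟨l, hl, hlA''⟩ := h.cov A''
    have hgg : ∀ v ∈ V, (s * l' * s⁻¹) * v * (s * l' * s⁻¹)⁻¹ = (t * l * t⁻¹) * v * (t * l * t⁻¹)⁻¹ := by
      intro v hv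
      have h3 := hA''.same h.hm hlA'' (M.Vn t⁻¹ (inv_mem htH) v hv)
      have h4 := congrArg (fun y => t * y * t⁻¹) h3
      have e1 : t * (t⁻¹ * (s * l' * s⁻¹) * t⁻¹⁻¹ * (t⁻¹ * v * t⁻¹⁻¹) * (t⁻¹ * (s * l' * s⁻¹) * t⁻¹⁻¹)⁻¹) * t⁻¹ =
        (s * l' * s⁻¹) * v * (s * l' * s⁻¹)⁻¹ := by group
      have e2 : t * (l * (t⁻¹ * v * t⁻¹⁻¹) * l⁻¹) * t⁻¹ = (t * l * t⁻¹) * v * (t * l * t⁻¹)⁻¹ := by group
      rw [← e1, ← e2]
      exact h4
    set g' := s * l' * s⁻¹ with hg'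
    set g := t * l * t⁻¹ with hg
    have hgx : g * x * g⁻¹ = x := by
      have h3 := congrArg (fun y => t * y * t⁻¹) (hc l hl)
      have h4 : g * x = x * g := by
        rw [hg]
        simpa [mul_assoc] using h3
      rw [h4]; group
    have hgH : g ∈ H := mul_mem (mul_mem htH (h.LH hl)) (inv_mem htH)
    have hg'H : g' ∈ H := mul_mem (mul_mem hsH (h.LH hl')) (inv_mem hsH)
    set y := g' * g⁻¹ with hy
    have hyH : y ∈ H := mul_mem hg'H (inv_mem hgH)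
    have hyV : ∀ v ∈ V, y * v = v * y := by
      intro v hv
      have h3 := hgg _ (M.Vn g⁻¹ (inv_mem hgH) v hv)
      have h4 : y * v * y⁻¹ = v := by
        calc y * v * y⁻¹ = g' * (g⁻¹ * v * g⁻¹⁻¹) * g'⁻¹ := by rw [hy]; group
          _ = g * (g⁻¹ * v * g⁻¹⁻¹) * g⁻¹ := h3
          _ = v := by group
      exact mul_inv_eq_iff_eq_mul.1 h4
    set w0 := n⁻¹ * (l' * n * l'⁻¹) with hw0
    have hl'n : l' * n * l'⁻¹ ∈ V := M.Vn l' (h.LH hl') n hn.1
    have hw0V : w0 ∈ V := mul_mem (inv_mem hn.1) hl'n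
    set w := s * w0 * s⁻¹ with hw
    have hwV : w ∈ V := M.Vn s hsH _ hw0V
    have hyx : y * x * y⁻¹ = x * w := by
      have h3 : l' * (s⁻¹ * x * s) * l'⁻¹ = s⁻¹ * x * s * w0 := by
        rw [e0, hw0]
        calc l' * (c * n) * l'⁻¹ = (l' * c) * n * l'⁻¹ := by group
          _ = (c * l') * n * l'⁻¹ := by rw [hcL l' hl']
          _ = _ := by group
      calc y * x * y⁻¹ = g' * (g⁻¹ * x * g) * g'⁻¹ := by rw [hy]; group
        _ = g' * x * g'⁻¹ := by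
          have h4 : g⁻¹ * x * g = x := by
            calc g⁻¹ * x * g = g⁻¹ * (g * x * g⁻¹) * g := by rw [hgx]
              _ = x := by group
          rw [h4]
        _ = s * (l' * (s⁻¹ * x * s) * l'⁻¹) * s⁻¹ := by rw [hg']; group
        _ = s * (s⁻¹ * x * s * w0) * s⁻¹ := by rw [h3]
        _ = x * w := by rw [hw]; group
    have hww : w * w = 1 := by
      have := M.Vsq w hwV
      rwa [pow_two] at this
    -- powers
    have hpow : ∀ m : ℕ, y ^ m * x * (y ^ m)⁻¹ = x * w ^ m := by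
      intro m
      induction m with
      | zero => simp
      | succ m ih =>
        have h3 := hyV _ (pow_mem hwV m)
        calc y ^ (m + 1) * x * (y ^ (m + 1))⁻¹ = y * (y ^ m * x * (y ^ m)⁻¹) * y⁻¹ := by rw [pow_succ']; group
          _ = y * (x * w ^ m) * y⁻¹ := by rw [ih]
          _ = (y * x * y⁻¹) * (y * w ^ m) * y⁻¹ := by group
          _ = (y * x * y⁻¹) * w ^ m := by rw [h3]; group
          _ = x * w ^ (m + 1) := by rw [hyx, pow_succ', mul_assoc]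
    obtain ⟨a, m, hm1, hm2⟩ := Nat.exists_eq_two_pow_mul_odd (isOfFinOrder_of_finite y).orderOf_pos.ne'
    have hyT : y ^ m ∈ T := by
      refine h.two_norm (pow_mem hyH m) (fun v hv => ?_) (n := a) ?_
      · have c1 : Commute y v := hyV v hv
        exact (c1.pow_left m).eq
      · rw [← pow_mul, mul_comm, ← hm2, pow_orderOf_eq_one]
    have hwm : w ^ m = w := by
      obtain ⟨r, rfl⟩ := hm1
      rw [pow_succ, pow_mul, pow_two, hww, one_pow, one_mul]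
    have hwZ : w ∈ ZJ := by
      have h3 := h.conjZ hyT hx
      rw [hpow, hwm] at h3
      have h4 := mul_mem (inv_mem hx) h3
      rwa [inv_mul_cancel_left] at h4
    have hw0Z : w0 ∈ ZJ := by
      have h3 := h.conjZ' hs hwZ
      have e1 : s⁻¹ * w * s = w0 := by rw [hw]; group
      rwa [e1] at h3
    have h5 := (h.mem w0 hw0V).1 hw0Z j
    rw [hw0, M.nat.mul _ (inv_mem hn.1) _ hl'n, Pi.add_apply, Pi.add_apply, M.map_inv hn.1, Pi.neg_apply, Pi.neg_apply,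
      hlA.e_i hn.1, ap_one', hn.2.2] at h5
    apply hne
    simpa using h5
  intro l hl
  rw [e0]
  have c1 : Commute l c := hcL l hl
  have c2 : Commute l n := h.cD l hl n hnD
  exact (c1.mul_right c2).eq

/-- one conjugate of `L` is enough -/
theorem mem_Ni_of [CharP F 2] {t : G} (ht : t ∈ T) {i : Fin k} (mt : MvI M t j i) {x : G}
    (hx : x ∈ ZJ) (hc : ∀ l ∈ L, l * (t⁻¹ * x * t) = t⁻¹ * x * t * l) : x ∈ Ni M ZJ L j i :=
  mem_Ni.2 ⟨hx, fun _ hs ms => h.eq ht hs mt ms hx hc⟩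

theorem Ni_conj {s : G} (hs : s ∈ T) {i m : Fin k} (hm : MvI M s i m) {x : G} (hx : x ∈ Ni M ZJ L j i) :
    s * x * s⁻¹ ∈ Ni M ZJ L j m := by
  obtain ⟨hxZ, hxt⟩ := mem_Ni.1 hx
  refine mem_Ni.2 ⟨h.conjZ hs hxZ, fun t ht mt l hl => ?_⟩
  have h1 := hxt (s⁻¹ * t) (mul_mem (inv_mem hs) ht) ((hm.inv (h.TH hs)).mul (h.TH ht) mt) l hl
  have e : (s⁻¹ * t)⁻¹ * x * (s⁻¹ * t) = t⁻¹ * (s * x * s⁻¹) * t := by group
  rwa [e] at h1

theorem Ni_cj {s : G} (hs : s ∈ T) {i m : Fin k} (hm : MvI M s i m) : cj s (Ni M ZJ L j i) = Ni M ZJ L j m := by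
  apply le_antisymm
  · rintro _ ⟨x, hx, rfl⟩
    exact h.Ni_conj hs hm hx
  · intro x hx
    rw [mem_cj]
    have := h.Ni_conj (inv_mem hs) (hm.inv (h.TH hs)) hx
    rwa [inv_inv] at this

/-- **`YB`, without the cyclic action** -/
theorem yb_aux [CharP F 2] {c : Fin k → Subgroup G} (hc : Co M c)
    (hcyc : ∀ i, ∀ s ∈ T, ∀ t ∈ T, MvI M s i i → MvI M t i i →
      ∃ n : ℕ, (∀ x ∈ Li M i, s * t ^ n * x * (s * t ^ n)⁻¹ * x⁻¹ ∈ D) ∨
        ∀ x ∈ Li M i, t * s ^ n * x * (t * s ^ n)⁻¹ * x⁻¹ ∈ D) : YB T ZJ (Ni M ZJ L j) c := by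
  have hTH := h.TH
  have hne : ∀ i, c i ≠ ⊥ := by
    intro i hi
    obtain ⟨v, hv, e⟩ := exists_line M i 1
    obtain ⟨a, ha, d, hd, rfl⟩ := hc.cov i v hv
    rw [hi, mem_bot] at ha
    rw [ha, one_mul, D_e (M := M) hd] at e
    exact zero_ne_one e
  have htriv : ∀ i, c i ⊓ Ni M ZJ L j i = ⊥ := by
    intro i
    rw [eq_bot_iff]
    rintro v ⟨hv, hvN⟩
    obtain ⟨t, ht, htr⟩ := M.nat.trans j i
    have hm : MvI M t j i := htr
    have h1 := (mem_Ni.1 hvN).2 t ht hm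
    have hvL := hc.le i hv
    have h2 : t⁻¹ * v * t ∈ Li M j := by
      have := (hm.inv (hTH ht)).Li hTH (inv_mem ht) hvL
      rwa [inv_inv] at this
    have h3 := M.Dn t (hTH ht) _ (h.Lj_D h2 h1)
    have e : t * (t⁻¹ * v * t) * t⁻¹ = v := by group
    rw [e] at h3
    exact mem_bot.2 (hc.dis i v hv h3)
  have hcomm : ∀ l m, l ≠ m → c l ≤ Ni M ZJ L j m := by
    intro l m hlm v hv
    have hvL := hc.le l hv
    refine mem_Ni.2 ⟨h.LiZ l hvL, fun t ht mt l' hl' => ?_⟩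
    obtain ⟨i', hi'⟩ := MvI.ex M (inv_mem (hTH ht)) l
    have h2 : t⁻¹ * v * t ∈ Li M i' := by
      have := hi'.Li hTH (inv_mem ht) hvL
      rwa [inv_inv] at this
    refine h.LW l' hl' i' (fun e => hlm ?_) _ h2
    subst e
    have h3 := hi'.inv (inv_mem (hTH ht))
    rw [inv_inv] at h3
    exact MvI.uniq h3 mt (hTH ht)
  refine ⟨fun x hx y hy => elem_comm h.el x hx y hy, fun x hx => elem_sq h.el x hx, h.TZ,
    fun i => (hc.le i).trans (h.LiZ i), hne, fun i x hx => ?_, htriv, hcomm, fun t ht i => ?_, ?_⟩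
  · obtain ⟨t, ht, htr⟩ := M.nat.trans j i
    have hm : MvI M t j i := htr
    obtain ⟨y, hyZ, hyL, n, hn, e⟩ := h.split _ (h.conjZ' ht hx)
    obtain ⟨a, ha, d, hd, e2⟩ := hc.cov i _ (hm.Li hTH ht hn)
    have hnZ := h.LiZ j hn
    have e3 : x = (t * y * t⁻¹) * (a * d) := by
      rw [← e2]
      calc x = t * (t⁻¹ * x * t) * t⁻¹ := by group
        _ = t * (y * n) * t⁻¹ := by rw [e]
        _ = _ := by group
    have haZ : a ∈ ZJ := h.LiZ i (hc.le i ha)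
    have hdZ := h.DZ hd
    have htyZ := h.conjZ ht hyZ
    refine ⟨a⁻¹, inv_mem ha, ?_⟩
    have e4 : a⁻¹ * x = (t * y * t⁻¹) * d := by
      have c1 := elem_comm h.el _ htyZ a haZ
      rw [e3]
      calc a⁻¹ * (t * y * t⁻¹ * (a * d)) = a⁻¹ * ((t * y * t⁻¹) * a) * d := by group
        _ = a⁻¹ * (a * (t * y * t⁻¹)) * d := by rw [c1]
        _ = _ := by group
    rw [e4]
    refine h.mem_Ni_of ht hm (mul_mem htyZ hdZ) fun l hl => ?_
    have hd' : t⁻¹ * d * t ∈ D := by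
      have := M.Dn t⁻¹ (inv_mem (hTH ht)) d hd
      rwa [inv_inv] at this
    have e5 : t⁻¹ * (t * y * t⁻¹ * d) * t = y * (t⁻¹ * d * t) := by group
    rw [e5]
    have c1 : Commute l y := hyL l hl
    have c2 : Commute l (t⁻¹ * d * t) := h.cD l hl _ hd'
    exact (c1.mul_right c2).eq
  · obtain ⟨m, hm⟩ := MvI.ex M (hTH ht) i
    exact ⟨m, h.Ni_cj ht hm, hc.conj t ht i m hm⟩
  · intro i s hs t ht hsi hti
    have hfix : ∀ g ∈ T, Mv (Ni M ZJ L j) c g i i → MvI M g i i := by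
      intro g hg hgi
      obtain ⟨m, hm⟩ := MvI.ex M (hTH hg) i
      have h1 := hc.conj g hg i m hm
      rw [hgi.2] at h1
      have h2 : i = m := by
        by_contra hne'
        have h3 := hcomm i m hne'
        have h4 := htriv m
        rw [← h1, inf_eq_left.2 h3] at h4
        exact hne i h4
      rw [← h2] at hm
      exact hm
    have hms := hfix s hs hsi
    have hmt := hfix t ht hti
    have fin : ∀ g ∈ T, MvI M g i i → (∀ x ∈ Li M i, g * x * g⁻¹ * x⁻¹ ∈ D) → ∀ x ∈ c i, g * x = x * g := by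
      intro g hg hgi h1 x hx
      have h2 : g * x * g⁻¹ ∈ c i := by
        rw [← hc.conj g hg i i hgi]
        exact ⟨x, hx, rfl⟩
      have h3 := hc.dis i _ (mul_mem h2 (inv_mem hx)) (h1 x (hc.le i hx))
      exact mul_inv_eq_iff_eq_mul.1 (mul_inv_eq_one.1 h3)
    obtain ⟨n, hn | hn⟩ := hcyc i s hs t ht hms hmt
    · exact ⟨n, Or.inl (fin _ (mul_mem hs (pow_mem ht n))
        (hms.mul (hTH (pow_mem ht n)) (hmt.pow (hTH ht) n)) hn)⟩
    · exact ⟨n, Or.inr (fin _ (mul_mem ht (pow_mem hs n))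
        (hmt.mul (hTH (pow_mem hs n)) (hms.pow (hTH hs) n)) hn)⟩

end LD

end Cfsg.Agent.Omega.OM.Lev.Low
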